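import Cfsg.Agent.Lib.PGroups.SelfCentEight.Structure

/-!
Counting when `C(E) / E` is generated by an element and its image under `a` and is not cyclic.
-/

set_option autoImplicit false

namespace Cfsg.Agent.PGroups.SelfCentEight

open Subgroup

variable {G : Type*} [Group G] [Finite G] {S : Eight G}

namespace Eight

theorem dihedral_facts (hnc : ¬ S.CyclicOver) {c : G} (hc : c ∈ S.C)
    (hgen : ∀ M : Subgroup G, S.E ≤ M → c ∈ M → S.σ c ∈ M → S.C ≤ M)
    (hsq : ((S.σ c) ^ 2)⁻¹ * c ^ 2 ∈ S.E) :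
    ∃ u ∈ S.C, u ∉ S.E ∧ Commute u (S.σ u) ∧
      (∀ x ∈ S.C, x ∈ S.E ⊔ zpowers u ∨ c⁻¹ * x ∈ S.E ⊔ zpowers u) ∧
      (∀ x ∈ S.C, u ^ 2 ∉ S.E → x ^ 4 ∈ zpowers (u ^ 2)) ∧
      (u ^ 2 ∈ S.E → ∃ g, S.IsV g ∧ g ≠ 1 ∧ g ≠ S.w ∧ g = c * S.σ c * c⁻¹ * (S.σ c)⁻¹) ∧
      (∀ g : G, (∀ v, S.IsV v → g * v = v * g) → g ∉ S.C → g * S.a ∉ S.C →
        g⁻¹ * S.σ g ∈ S.C → False) := by
  classical
  haveI := S.normalE
  haveI := S.normalC
  set π := QuotientGroup.mk' S.E with hπdef
  have hπE : ∀ x : G, π x = 1 ↔ x ∈ S.E := fun x => QuotientGroup.eq_one_iff x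
  set A := π S.a with hA
  have hA2 : A * A = 1 := by rw [hA, ← map_mul, S.a2, map_one]
  have hπσ : ∀ x, π (S.σ x) = A * π x * A := fun x => by
    rw [Eight.σ, map_mul, map_mul]
  set ci := π c with hci
  set di := π (S.σ c) with hdi
  set ui := ci * di with hui
  set u := c * S.σ c with hu
  have huC : u ∈ S.C := mul_mem hc (S.σ_C hc)
  have hπu : π u = ui := by rw [hu, map_mul]
  have hdd : di * di = ci * ci := by
    have h := (hπE _).mpr hsq
    rw [map_mul, map_inv, map_pow, map_pow, inv_mul_eq_one, sq, sq] at h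
    exact h
  have hc4 : ci * ci * (ci * ci) = 1 := by
    by_cases h2 : c ^ 2 ∈ S.E
    · have := (hπE _).mpr h2
      rw [map_pow, sq] at this
      rw [hci, this, one_mul]
    by_cases h4 : c ^ 4 ∈ S.E
    · have := (hπE _).mpr h4
      rw [map_pow] at this
      rw [hci, ← this]; simp only [pow_succ, pow_zero, one_mul, mul_assoc]
    exfalso
    have hfix : ∀ k, (c ^ (2 * k))⁻¹ * S.σ (c ^ (2 * k)) ∈ S.E := fun k => by
      refine (hπE _).mp ?_
      rw [map_mul, map_inv, S.σ_pow, map_pow, map_pow, inv_mul_eq_one, pow_mul, pow_mul, sq, sq,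
        ← hci, ← hdi, hdd]
    have h := S.fixed_coset (pow_mem hc 2) (pow_mem hc 4) h2 h4 (by simpa using hfix 1)
      (by simpa using hfix 2)
    refine h2 ?_
    rwa [show c ^ 4 = c ^ 2 * c ^ 2 by rw [← pow_add], inv_mul_cancel_left] at h
  have hcd : di * (ci * ci) = ci * ci * di := by rw [← hdd, mul_assoc]
  have hdc : di * ci = ui⁻¹ := by
    refine eq_inv_of_mul_eq_one_left ?_
    calc di * ci * ui = di * (ci * ci) * di := by rw [hui]; simp only [mul_assoc]
      _ = ci * ci * (di * di) := by rw [hcd, mul_assoc]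
      _ = 1 := by rw [hdd, hc4]
  have hflip : ci * ui * ci⁻¹ = ui⁻¹ := by
    rw [← hdc]
    calc ci * ui * ci⁻¹ = ci * ci * di * ci⁻¹ := by rw [hui, mul_assoc ci ci di]
      _ = di * (ci * ci) * ci⁻¹ := by rw [hcd]
      _ = di * ci := by rw [mul_assoc, mul_inv_cancel_right]
  have hflip' : ∀ i : ℤ, ui ^ i * ci = ci * ui ^ (-i) := fun i => by
    have h : ci * ui ^ (-i) * ci⁻¹ = ui ^ i := by
      rw [← conj_zpow, hflip, inv_zpow, ← zpow_neg, neg_neg]
    rw [← h, inv_mul_cancel_right]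
  have hπσu : ∀ i : ℤ, π (S.σ (u ^ i)) = ui ^ (-i) := fun i => by
    rw [S.σ_zpow, map_zpow, hu, S.σ_mul, S.σ_σ, map_mul, ← hdi, ← hci, hdc, inv_zpow, zpow_neg]
  have hlift : ∀ (x : G) (i : ℤ), x ∈ S.C → π x = ui ^ i → x ∈ S.E ⊔ zpowers u := by
    intro x i _ hx
    have hm : x * (u ^ i)⁻¹ ∈ S.E := (hπE _).mp (by
      rw [map_mul, map_inv, map_zpow, hπu, hx, mul_inv_cancel])
    rw [← inv_mul_cancel_right x (u ^ i)]
    exact mul_mem (mem_sup_left hm) (mem_sup_right (zpow_mem (mem_zpowers u) i))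
  -- `di` is no power of `ci`
  have hncyc : di ∉ zpowers ci := by
    intro hd
    refine hnc ⟨c, hc, ?_⟩
    obtain ⟨i, hi⟩ := mem_zpowers_iff.mp hd
    have hdM : S.σ c ∈ S.E ⊔ zpowers c := by
      have hm : S.σ c * (c ^ i)⁻¹ ∈ S.E := (hπE _).mp (by
        rw [map_mul, map_inv, map_zpow, ← hci, hi, ← hdi, mul_inv_cancel])
      rw [← inv_mul_cancel_right (S.σ c) (c ^ i)]
      exact mul_mem (mem_sup_left hm) (mem_sup_right (zpow_mem (mem_zpowers c) i))
    intro x hx
    obtain ⟨e, he, s, hs, rfl⟩ := mem_sup_of_normal_left.mp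
      (hgen _ le_sup_left (mem_sup_right (mem_zpowers c)) hdM hx)
    obtain ⟨j, rfl⟩ := mem_zpowers_iff.mp hs
    exact ⟨e, he, j, rfl⟩
  have hui1 : ui ≠ 1 := fun h => hncyc (by
    rw [eq_inv_of_mul_eq_one_right h]; exact inv_mem (mem_zpowers ci))
  obtain ⟨n, hn1, hn2⟩ := exists_order_two_power (S.isTwo.to_quotient S.E) hui1
  have hzE : u ^ n ∉ S.E := fun h => hn1 (by rw [← hπu, ← map_pow]; exact (hπE _).mpr h)
  have hzfix : (u ^ n)⁻¹ * S.σ (u ^ n) ∈ S.E := (hπE _).mp (by
    rw [map_mul, map_inv, map_pow, hπu, ← zpow_natCast u n, hπσu, zpow_neg, zpow_natCast,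
      ← mul_inv_rev, ← sq, hn2, inv_one])
  obtain ⟨j, hj⟩ : ∃ j : ℤ, ci * ci = ui ^ (2 * j) := by
    obtain ⟨i, hi⟩ : ∃ i : ℤ, ci * ci = ui ^ i := by
      by_cases h2 : c ^ 2 ∈ S.E
      · exact ⟨0, by rw [zpow_zero, hci, ← map_mul, ← sq]; exact (hπE _).mpr h2⟩
      have hfix : (c ^ 2)⁻¹ * S.σ (c ^ 2) ∈ S.E := (hπE _).mp (by
        rw [map_mul, map_inv, S.σ_pow, map_pow, map_pow, inv_mul_eq_one, sq, sq, ← hci, ← hdi, hdd])
      have h := (hπE _).mpr (S.fixed_coset (pow_mem hc 2) (pow_mem huC n) h2 hzE hfix hzfix)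
      rw [map_mul, map_inv, map_pow, map_pow, inv_mul_eq_one, hπu, ← hci, sq] at h
      exact ⟨n, by rw [h, zpow_natCast]⟩
    obtain ⟨j, rfl | rfl⟩ := Int.even_or_odd' i
    · exact ⟨j, hi⟩
    · exfalso
      refine hncyc ?_
      have hu' : ui ∈ zpowers ci := by
        have := mem_zpowers_odd (S.isTwo.to_quotient S.E) ui j
        rw [← hi] at this
        exact zpowers_le.mpr (mul_mem (mem_zpowers ci) (mem_zpowers ci)) this
      rw [← inv_mul_cancel_left ci di, ← hui]
      exact mul_mem (inv_mem (mem_zpowers ci)) hu'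
  -- the elements of `C` modulo `E`
  let N' : Subgroup (G ⧸ S.E) :=
    { carrier := {q | ∃ i : ℤ, q = ui ^ i ∨ q = ci * ui ^ i}
      one_mem' := ⟨0, Or.inl (zpow_zero ui).symm⟩
      mul_mem' := by
        rintro p q ⟨i, hp | hp⟩ ⟨k, hq | hq⟩
        · exact ⟨i + k, Or.inl (by rw [hp, hq, zpow_add])⟩
        · exact ⟨-i + k, Or.inr (by rw [hp, hq, ← mul_assoc, hflip', mul_assoc, ← zpow_add])⟩
        · exact ⟨i + k, Or.inr (by rw [hp, hq, mul_assoc, ← zpow_add])⟩
        · exact ⟨2 * j + (-i + k), Or.inl (by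
            rw [hp, hq, mul_assoc ci, ← mul_assoc (ui ^ i), hflip', ← mul_assoc, ← mul_assoc, hj,
              mul_assoc, ← zpow_add, ← zpow_add])⟩
      inv_mem' := by
        rintro p ⟨i, hp | hp⟩
        · exact ⟨-i, Or.inl (by rw [hp, zpow_neg])⟩
        · refine ⟨-(2 * j) + i, Or.inr ?_⟩
          have h := hflip' (-i)
          rw [neg_neg, zpow_neg] at h
          have hcinv : ci⁻¹ = ci * (ui ^ (2 * j))⁻¹ := by
            rw [← hj, mul_inv_rev, ← mul_assoc, mul_inv_cancel, one_mul]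
          rw [hp, mul_inv_rev, hcinv, ← mul_assoc, h, mul_assoc, ← zpow_neg, ← zpow_add, add_comm] }
  have hform : ∀ x ∈ S.C, ∃ i : ℤ, π x = ui ^ i ∨ π x = ci * ui ^ i := by
    intro x hx
    refine hgen (N'.comap π) (fun e he => ?_) ?_ ?_ hx
    · rw [mem_comap, (hπE e).mpr he]; exact one_mem _
    · exact ⟨0, Or.inr (by rw [zpow_zero, mul_one])⟩
    · refine ⟨-(2 * j) + 1, Or.inr ?_⟩
      change di = _
      rw [zpow_add, zpow_one, zpow_neg, ← hj, hui, mul_inv_rev]
      group
  have hσu : Commute u (S.σ u) := by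
    have hm : S.σ u * u ∈ S.E := (hπE _).mp (by
      have := hπσu 1
      rw [zpow_one] at this
      rw [map_mul, this, hπu, zpow_neg, zpow_one, inv_mul_cancel])
    have e : S.σ u = (S.σ u * u) * u⁻¹ := (mul_inv_cancel_right _ _).symm
    rw [e]
    exact (show Commute u (S.σ u * u) from (S.comm_C huC hm).symm).mul_right
      (Commute.refl u).inv_right
  refine ⟨u, huC, fun h => hui1 (by rw [← hπu]; exact (hπE _).mpr h), hσu, ?_, ?_, ?_, ?_⟩
  · intro x hx
    obtain ⟨i, hi | hi⟩ := hform x hx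
    · exact Or.inl (hlift x i hx hi)
    · exact Or.inr (hlift _ i (mul_mem (inv_mem hc) hx) (by
        rw [map_mul, map_inv, hi, ← hci, inv_mul_cancel_left]))
  · intro x hx h2
    have hlong : IsLong S u := ⟨huC, h2, hσu⟩
    have hsqmem : ∀ y, y ∈ S.C → ∀ i : ℤ, π y = ui ^ i → y * y ∈ zpowers (u ^ 2) := by
      intro y hy i hi
      have hm : y * (u ^ i)⁻¹ ∈ S.E := (hπE _).mp (by
        rw [map_mul, map_inv, map_zpow, hπu, hi, mul_inv_cancel])
      rw [hlong.sq_form hm (inv_mul_cancel_right y (u ^ i)).symm]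
      exact zpow_mem (mem_zpowers _) i
    obtain ⟨i, hi | hi⟩ := hform x hx
    · rw [show 4 = 2 * 2 from rfl, pow_mul, sq x]
      exact pow_mem (hsqmem x hx i hi) 2
    · have hxx : π (x * x) = ui ^ (2 * j) := by
        rw [map_mul, hi, mul_assoc ci, ← mul_assoc (ui ^ i), hflip', ← mul_assoc, ← mul_assoc, hj,
          mul_assoc, ← zpow_add, neg_add_cancel, zpow_zero, mul_one]
      rw [show 4 = 2 * 2 from rfl, pow_mul, sq x, sq (x * x)]
      exact hsqmem _ (mul_mem hx hx) _ hxx
  · intro h2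
    have hu2 : ui * ui = 1 := by rw [← hπu, ← map_mul, ← sq]; exact (hπE _).mpr h2
    set g := c * S.σ c * c⁻¹ * (S.σ c)⁻¹ with hg
    have hgE : g ∈ S.E := by
      refine (hπE _).mp ?_
      rw [hg, map_mul, map_mul, map_mul, map_inv, map_inv, ← hci, ← hdi, ← hui, mul_assoc,
        ← mul_inv_rev, hdc, inv_inv, hu2]
    have hσg : S.σ g = g⁻¹ := by
      rw [hg, S.σ_mul, S.σ_mul, S.σ_mul, S.σ_inv, S.σ_inv, S.σ_σ]; group
    have hV : S.IsV g := S.isV_of_inverted hgE hσg
    have hdcu : S.σ u = g⁻¹ * u := by rw [hu, S.σ_mul, S.σ_σ, hg]; group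
    refine ⟨g, hV, fun h => ?_, fun h => ?_, rfl⟩
    · rw [h, inv_one, one_mul] at hdcu
      exact hui1 (by rw [← hπu]; exact (hπE _).mpr (S.fixed huC hdcu))
    · rw [h, S.inv_E S.w_isV.1] at hdcu
      have hfix : S.σ (u * S.e) = u * S.e := by
        rw [S.σ_mul, S.σ_e, hdcu, S.comm_C huC S.w_isV.1, mul_assoc u S.w,
          S.commE _ S.w_isV.1 _ (mul_mem S.e_mem S.w_isV.1), mul_assoc S.e,
          S.sqE _ S.w_isV.1, mul_one]
      have := mul_mem (S.fixed (mul_mem huC (S.E_le_C S.e_mem)) hfix) (inv_mem S.e_mem)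
      rw [mul_inv_cancel_right] at this
      exact hui1 (by rw [← hπu]; exact (hπE _).mpr this)
  · intro g hgV hgC hgaC hgx
    set x := g⁻¹ * S.σ g with hx
    have hxinv : π (S.σ x) = (π x)⁻¹ := by rw [hx, S.inverted_diff, map_inv]
    have hAu : ∀ i : ℤ, A * ui ^ i * A = ui ^ (-i) := fun i => by
      rw [← hπσu, hπσ, map_zpow, hπu]
    obtain ⟨i, hi | hi⟩ := hform x hgx
    swap
    · refine zpow_odd_ne_one (S.isTwo.to_quotient S.E) hui1 (-i) ?_
      have h1 : π (S.σ x) = di * ui ^ (-i) := by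
        rw [hπσ, hi, ← hAu, hdi, hπσ, ← hci]
        calc A * (ci * ui ^ i) * A = A * ci * ((A * A) * ui ^ i) * A := by
              rw [hA2, one_mul]; simp only [mul_assoc]
          _ = A * ci * A * (A * ui ^ i * A) := by simp only [mul_assoc]
      rw [h1, hi, mul_inv_rev] at hxinv
      have h2 : ci * ui ^ i * (di * ui ^ (-i)) = 1 := by
        rw [hxinv]; group
      have h3 : ui ^ i * di = di * ui ^ (-i) := by
        have e : di = ci⁻¹ * ui := by rw [hui, inv_mul_cancel_left]
        have e2 : ui ^ i * ci⁻¹ = ci⁻¹ * ui ^ (-i) := by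
          have := hflip' (-i)
          rw [neg_neg] at this
          rw [mul_inv_eq_iff_eq_mul, mul_assoc, this, inv_mul_cancel_left]
        rw [e, ← mul_assoc, e2]
        simp only [mul_assoc]
        congr 1
        rw [← zpow_add_one, ← zpow_one_add, add_comm]
      rw [← mul_assoc, mul_assoc ci, h3] at h2
      rw [← h2, ← mul_assoc, ← hui, mul_assoc, ← zpow_add, ← zpow_one_add]
      congr 1
      ring
    -- a correcting element
    obtain ⟨δ, hδC, hδ⟩ : ∃ δ ∈ S.C, π δ * (π (S.σ δ))⁻¹ = ui ^ i := by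
      obtain ⟨m, rfl | rfl⟩ := Int.even_or_odd' i
      · refine ⟨u ^ m, zpow_mem huC m, ?_⟩
        rw [map_zpow, hπu, hπσu, ← zpow_neg, neg_neg, ← zpow_add, two_mul]
      · refine ⟨c * u ^ (-m - j), mul_mem hc (zpow_mem huC _), ?_⟩
        rw [S.σ_mul, map_mul, map_mul, map_zpow, hπu, hπσu, mul_inv_rev, ← hci, ← hdi, ← zpow_neg,
          neg_neg, mul_assoc ci, ← mul_assoc (ui ^ (-m - j)), ← zpow_add, ← mul_assoc]
        have e1 : di⁻¹ = di * (ui ^ (2 * j))⁻¹ := by
          rw [← hj, ← hdd, mul_inv_rev, ← mul_assoc, mul_inv_cancel, one_mul]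
        have e2 : ci * ui ^ (-m - j + (-m - j)) = ui ^ (-(-m - j + (-m - j))) * ci := by
          have := hflip' (-(-m - j + (-m - j)))
          rw [neg_neg] at this
          exact this.symm
        rw [e2, mul_assoc, e1, ← mul_assoc ci di, ← hui, ← zpow_neg, ← zpow_one_add, ← zpow_add]
        congr 1
        ring
    refine S.no_extra (g := g * δ) (z := u ^ n) ?_ ?_ ?_ ?_ (pow_mem huC n) hzE hzfix
    · intro v hv
      exact (show Commute g v from hgV v hv).mul_left (S.comm_C hδC hv.1).symm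
    · exact fun h => hgC (by simpa using mul_mem h (inv_mem hδC))
    · intro h
      refine hgaC ?_
      have := mul_mem h (S.σ_C (inv_mem hδC))
      have e : g * δ * S.a * S.σ δ⁻¹ = g * S.a := by
        simp only [Eight.σ, mul_assoc, ← mul_assoc S.a S.a, S.a2, one_mul, mul_inv_cancel_left]
      rwa [e] at this
    · refine (hπE _).mp ?_
      have e : S.σ (g * δ) = g * (x * S.σ δ) := by
        rw [S.σ_mul, ← mul_assoc, hx, mul_inv_cancel_left]
      rw [e, show (g * δ)⁻¹ * (g * (x * S.σ δ)) = δ⁻¹ * (x * S.σ δ) by group, map_mul, map_mul,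
        map_inv, hi, ← hδ, inv_mul_cancel_right, inv_mul_cancel]

/-- The count in the dihedral case. -/
theorem index_le_dihedral (hnc : ¬ S.CyclicOver) {c : G} (hc : c ∈ S.C)
    (hgen : ∀ M : Subgroup G, S.E ≤ M → c ∈ M → S.σ c ∈ M → S.C ≤ M)
    (hsq : ((S.σ c) ^ 2)⁻¹ * c ^ 2 ∈ S.E) {H : Subgroup G} (K : Subgroup H)
    (hK : ∀ x : H, x * x ∈ K) : K.index ≤ 16 := by
  classical
  haveI := S.normalE
  haveI := S.normalC
  haveI : Fact (Nat.Prime 2) := ⟨Nat.prime_two⟩
  haveI := FourGenerator.normal_of_sq K hK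
  obtain ⟨u, huC, huE, hucomm, hform, hfour, hcommutator, hno⟩ :=
    dihedral_facts hnc hc hgen hsq
  -- a central element of `V` outside `⟨w⟩`
  obtain ⟨e₀, hV0, h01, h0w, hcent, hkey⟩ : ∃ e₀, S.IsV e₀ ∧ e₀ ≠ 1 ∧ e₀ ≠ S.w ∧
      (∀ g, g * e₀ * g⁻¹ = e₀) ∧
      (u ^ 2 ∉ S.E → ∀ x ∈ zpowers (u ^ 2), x * x = 1 → x = 1 ∨ x = e₀) := by
    by_cases h2 : u ^ 2 ∈ S.E
    · obtain ⟨g, hV, h1, hw, hdef⟩ := hcommutator h2
      refine ⟨g, hV, h1, hw, fun k => ?_, fun h => absurd h2 h⟩
      -- all commutators of `C` lie in `⟨g⟩`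
      have hgC : g ∈ S.C := S.E_le_C hV.1
      let P : G → Subgroup G → Prop := fun x M => ∀ y ∈ M, x * y * x⁻¹ * y⁻¹ = 1 ∨
        x * y * x⁻¹ * y⁻¹ = g
      have hg2 : g * g = 1 := S.sqE g hV.1
      have hgc : ∀ y ∈ S.C, g * y = y * g := fun y hy => (S.comm_C hy hV.1)
      let L : G → Subgroup G := fun x =>
        { carrier := {y | y ∈ S.C ∧ (x * y * x⁻¹ = y ∨ x * y * x⁻¹ = g * y)}
          one_mem' := ⟨S.C.one_mem, Or.inl (by group)⟩
          mul_mem' := by
            rintro p q ⟨hp, hp'⟩ ⟨hq, hq'⟩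
            refine ⟨mul_mem hp hq, ?_⟩
            rcases hp' with hp' | hp' <;> rcases hq' with hq' | hq' <;>
              rw [← conj_mul, hp', hq']
            · exact Or.inl rfl
            · exact Or.inr (by rw [← mul_assoc, ← hgc p hp, mul_assoc])
            · exact Or.inr (mul_assoc _ _ _)
            · exact Or.inl (by
                rw [← mul_assoc, mul_assoc g p g, ← hgc p hp, ← mul_assoc g g, hg2, one_mul])
          inv_mem' := by
            rintro p ⟨hp, hp'⟩
            refine ⟨inv_mem hp, ?_⟩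
            rcases hp' with hp' | hp' <;> rw [← conj_inv, hp']
            · exact Or.inl rfl
            · exact Or.inr (by rw [mul_inv_rev, S.inv_E hV.1, hgc _ (inv_mem hp)]) }
      have hcd : c * S.σ c * c⁻¹ = g * S.σ c := by rw [hdef, inv_mul_cancel_right]
      have hLgen : ∀ x, x ∈ S.C → c ∈ L x → S.σ c ∈ L x → S.C ≤ L x := fun x hx h1 h2 =>
        hgen _ (fun e he => ⟨S.E_le_C he, Or.inl (by
          rw [← S.comm_C hx he, mul_inv_cancel_right])⟩) h1 h2
      have hLc : S.C ≤ L c :=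
        hLgen c hc ⟨hc, Or.inl (by group)⟩ ⟨S.σ_C hc, Or.inr hcd⟩
      have hLd : S.C ≤ L (S.σ c) := by
        refine hLgen _ (S.σ_C hc) ⟨hc, Or.inr ?_⟩ ⟨S.σ_C hc, Or.inl (by group)⟩
        calc S.σ c * c * (S.σ c)⁻¹
            = (c * S.σ c * c⁻¹ * (S.σ c)⁻¹)⁻¹ * c := by group
          _ = g * c := by rw [← hdef, S.inv_E hV.1]
      have hsymm : ∀ x y, y ∈ L x → x ∈ S.C → x ∈ L y := by
        rintro x y ⟨hy, e | e⟩ hx
        · refine ⟨hx, Or.inl ?_⟩
          calc y * x * y⁻¹ = (x * y * x⁻¹) * x * y⁻¹ := by rw [e]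
            _ = x := by group
        · refine ⟨hx, Or.inr ?_⟩
          have e' : y = g * (x * y * x⁻¹) := by rw [e, ← mul_assoc, hg2, one_mul]
          calc y * x * y⁻¹ = g * (x * y * x⁻¹) * x * y⁻¹ := by rw [← e']
            _ = g * x := by group
      have hall : ∀ x ∈ S.C, S.C ≤ L x := fun x hx =>
        hLgen x hx (hsymm c x (hLc hx) hc) (hsymm _ x (hLd hx) (S.σ_C hc))
      have hk : k * g * k⁻¹ = k * c * k⁻¹ * (k * S.σ c * k⁻¹) * (k * c * k⁻¹)⁻¹ *
          (k * S.σ c * k⁻¹)⁻¹ := by rw [hdef]; group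
      have hne : k * g * k⁻¹ ≠ 1 := fun h => h1 (conj_eq_one_iff.mp h)
      rcases (hall _ (S.normalC.conj_mem c hc k) (S.normalC.conj_mem _ (S.σ_C hc) k)).2 with e | e
      · exact absurd (by rw [hk, e, mul_inv_cancel]) hne
      · rw [hk, e, mul_inv_cancel_right]
    · obtain ⟨e₀, a, b, d, huniq, f⟩ :=
        (⟨huC, h2, hucomm⟩ : IsLong S u).exists_socle
      exact ⟨e₀, a, b, d, f fun x hx => hfour x hx h2, fun _ => huniq⟩
  have h0fix : ∀ g : G, g * e₀ = e₀ * g := fun g => mul_inv_eq_iff_eq_mul.mp (hcent g)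
  -- the whole group is `C ∪ C a`
  have hσmem : ∀ h, h * S.a ∈ S.C → S.a * h ∈ S.C := fun h hh => by
    have := S.σ_C hh
    rwa [show S.σ (h * S.a) = S.a * h by
      simp only [Eight.σ, mul_assoc, S.a2, mul_one]] at this
  let M : Subgroup G :=
    { carrier := {g | g ∈ S.C ∨ g * S.a ∈ S.C}
      one_mem' := Or.inl S.C.one_mem
      mul_mem' := by
        rintro p q (hp | hp) (hq | hq)
        · exact Or.inl (mul_mem hp hq)
        · exact Or.inr (by rw [mul_assoc]; exact mul_mem hp hq)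
        · refine Or.inr ?_
          have := mul_mem hp (S.σ_C hq)
          rwa [show p * S.a * S.σ q = p * q * S.a by
            simp only [Eight.σ, mul_assoc, ← mul_assoc S.a S.a, S.a2, one_mul]] at this
        · refine Or.inl ?_
          have := mul_mem hp (hσmem q hq)
          rwa [show p * S.a * (S.a * q) = p * q by
            simp only [mul_assoc, ← mul_assoc S.a S.a, S.a2, one_mul]] at this
      inv_mem' := by
        rintro p (hp | hp)
        · exact Or.inl (inv_mem hp)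
        · refine Or.inr ?_
          have := inv_mem (hσmem p hp)
          rwa [mul_inv_rev, S.a_inv] at this }
  have haM : S.a ∈ M := Or.inr (by rw [S.a2]; exact S.C.one_mem)
  have hall : ∀ g : G, g ∈ S.C ∨ g * S.a ∈ S.C := by
    by_contra hnot
    have hlt : M < ⊤ := lt_top_iff_ne_top.mpr fun h => hnot fun g => (h ▸ mem_top g : g ∈ M)
    haveI := S.isTwo.isNilpotent
    obtain ⟨g, hgN, hgM⟩ := SetLike.exists_of_lt (normalizerCondition_of_isNilpotent M hlt)
    have ha' : g * S.a * g⁻¹ ∈ M := (mem_normalizer_iff.mp hgN S.a).mp haM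
    have haC : S.a ∉ S.C := fun h => by
      obtain ⟨e, he, hmove⟩ := S.moves
      exact hmove (by rw [← h e he, mul_assoc, S.a2, mul_one])
    have hga : g * S.a * g⁻¹ * S.a ∈ S.C := by
      rcases ha' with h | h
      · refine absurd ?_ haC
        have := S.normalC.conj_mem _ h g⁻¹
        simpa [mul_assoc] using this
      · exact h
    have hact : ∀ y ∈ S.E, g * S.σ y * g⁻¹ = S.σ (g * y * g⁻¹) := by
      intro y hy
      have hy' := S.σ_E (S.normalE.conj_mem y hy g)
      have h := hga (S.σ (g * y * g⁻¹)) hy'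
      calc g * S.σ y * g⁻¹ = g * S.a * g⁻¹ * S.a * S.σ (g * y * g⁻¹) * (g * S.a * g⁻¹ * S.a)⁻¹ := by
            simp only [Eight.σ, mul_inv_rev, inv_inv, S.a_inv, mul_assoc, ← mul_assoc S.a S.a, S.a2,
              one_mul, inv_mul_cancel_left]
        _ = S.σ (g * y * g⁻¹) := by rw [← h, mul_inv_cancel_right]
    have hw : g * S.w * g⁻¹ = S.w := by
      have h := hact _ S.e_mem
      rw [S.σ_e] at h
      have hm := S.normalE.conj_mem _ S.e_mem g
      rcases S.coset_e hm with hV | hV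
      · rw [hV.2] at h
        exact absurd (mul_left_cancel (mul_right_cancel h)) (fun e => S.w_ne (mul_eq_left.mp e))
      · set p := g * S.e * g⁻¹ with hp
        have hσp : S.σ p = p * S.w := by
          have h2 := hV.2
          rw [S.σ_mul, S.σ_e, ← mul_assoc] at h2
          calc S.σ p = S.σ p * S.e * S.w * (S.w * S.e) := by
                simp only [mul_assoc, ← mul_assoc S.w S.w, S.sqE _ S.w_isV.1, one_mul,
                  S.sqE _ S.e_mem, mul_one]
            _ = p * S.w := by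
              rw [h2, S.commE _ S.w_isV.1 _ S.e_mem, ← mul_assoc, mul_assoc p S.e S.e,
                S.sqE _ S.e_mem, mul_one]
        rw [hσp, ← conj_mul, ← hp] at h
        exact mul_left_cancel h
    have hgV : ∀ v, S.IsV v → g * v = v * g := by
      intro v hv
      rcases S.cases_V hv hV0 h01 h0w with h | h | h | h <;> subst h
      · simp
      · exact mul_inv_eq_iff_eq_mul.mp hw
      · exact h0fix g
      · exact (show Commute g S.w from mul_inv_eq_iff_eq_mul.mp hw).mul_right (h0fix g)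
    refine hno g hgV (fun h => hgM (Or.inl h)) (fun h => hgM (Or.inr h)) ?_
    have := S.normalC.conj_mem _ hga g⁻¹
    have e : g⁻¹ * (g * S.a * g⁻¹ * S.a) * g⁻¹⁻¹ = S.a * g⁻¹ * S.a * g := by group
    rw [e] at this
    have := inv_mem this
    rwa [show (S.a * g⁻¹ * S.a * g)⁻¹ = g⁻¹ * S.σ g by
      simp only [Eight.σ, mul_inv_rev, S.a_inv, inv_inv, mul_assoc]] at this
  -- counting
  rw [index_eq_mul S.C K hK]
  set T := S.C.subgroupOf H with hT
  have hr2 : (K ⊔ T).index ≤ 2 := by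
    refine (Nat.le_of_dvd (Nat.pos_of_ne_zero index_ne_zero_of_finite)
      (index_dvd_of_le (le_sup_right : T ≤ K ⊔ T))).trans ?_
    change S.C.relIndex H ≤ 2
    refine (relIndex_le_card S.C H (fun g => decide (g ∈ S.C)) Finset.univ
      (fun g _ => Finset.mem_univ _) fun g _ h _ e => ?_).trans (by simp)
    simp only [decide_eq_decide] at e
    rcases hall g with h1 | h1
    · exact mul_mem (inv_mem h1) (e.mp h1)
    · rcases hall h with h2 | h2
      · exact mul_mem (inv_mem (e.mpr h2)) h2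
      · have := mul_mem (inv_mem h1) h2
        rw [mul_inv_rev, S.a_inv] at this
        have h3 := S.σ_C this
        rwa [show S.σ (S.a * g⁻¹ * (h * S.a)) = g⁻¹ * h by
          simp only [Eight.σ, mul_assoc, ← mul_assoc S.a S.a, S.a2, one_mul, mul_one]] at h3
  have hwin : 2 ≤ (K ⊔ T).index → ∀ t : H, (t : G) = S.e →
      ∃ k : H, k ∈ K ∧ (k : G) = S.w := by
    intro hi t ht
    obtain ⟨h, hh⟩ : ∃ h : H, (h : G) ∉ S.C := by
      by_contra! hno'
      have : (K ⊔ T).index = 1 := index_eq_one.mpr (eq_top_iff.mpr fun x _ =>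
        mem_sup_right (mem_subgroupOf.mpr (hno' x)))
      omega
    refine ⟨h * t * h⁻¹ * t⁻¹, comm_mem_of_sq K hK h t, ?_⟩
    have hk := (hall h).resolve_left hh
    simp only [coe_mul, coe_inv, ht]
    calc (h : G) * S.e * (h : G)⁻¹ * S.e⁻¹
        = ((h : G) * S.a) * S.σ S.e * ((h : G) * S.a)⁻¹ * S.e⁻¹ := by
          simp only [Eight.σ, mul_inv_rev, S.a_inv, mul_assoc, ← mul_assoc S.a S.a, S.a2, one_mul]
      _ = S.w := by
        rw [← S.comm_C hk (S.σ_E S.e_mem), mul_inv_cancel_right, S.σ_e,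
          S.commE _ S.e_mem _ S.w_isV.1, mul_inv_cancel_right]
  obtain ⟨kT, hkT⟩ := FourGenerator.exists_pow_two ((S.isTwo.to_subgroup H).to_subgroup T)
    (K.subgroupOf T)
  change K.relIndex T = 2 ^ kT at hkT
  by_cases hu2 : u ^ 2 ∈ S.E
  · -- `C` has order `32`
    let ι : T → S.C := fun t => ⟨((t : H) : G), mem_subgroupOf.mp t.2⟩
    have hι : Function.Injective ι := fun x y e =>
      Subtype.ext (Subtype.ext (congrArg (fun u : S.C => (u : G)) e))
    have hC0 : ∀ x ∈ S.E ⊔ zpowers u, x ∈ S.E ∨ x * u⁻¹ ∈ S.E := by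
      intro x hx
      obtain ⟨e, he, s, hs, rfl⟩ := mem_sup_of_normal_left.mp hx
      obtain ⟨i, rfl⟩ := mem_zpowers_iff.mp hs
      have h2' : u ^ (2 : ℤ) ∈ S.E := by rw [zpow_two, ← sq]; exact hu2
      obtain ⟨j, rfl | rfl⟩ := Int.even_or_odd' i
      · exact Or.inl (by rw [zpow_mul]; exact mul_mem he (zpow_mem h2' j))
      · right
        rw [zpow_add_one, zpow_mul, mul_assoc, mul_inv_cancel_right]
        exact mul_mem he (zpow_mem h2' j)
    set π := QuotientGroup.mk' S.E with hπdef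
    have hπE : ∀ x : G, π x = 1 ↔ x ∈ S.E := fun x => QuotientGroup.eq_one_iff x
    have himage : ∀ x ∈ S.C, π x ∈ ({1, π u, π c, π c * π u} : Finset (G ⧸ S.E)) := by
      intro x hx
      simp only [Finset.mem_insert, Finset.mem_singleton]
      have h0 : ∀ y ∈ S.E ⊔ zpowers u, π y = 1 ∨ π y = π u := by
        intro y hy
        rcases hC0 y hy with h | h
        · exact Or.inl ((hπE y).mpr h)
        · right
          have := (hπE _).mpr h
          rwa [map_mul, map_inv, mul_inv_eq_one] at this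
      rcases hform x hx with h | h
      · rcases h0 x h with e | e
        exacts [Or.inl e, Or.inr (Or.inl e)]
      · rcases h0 _ h with e | e <;> rw [map_mul, map_inv, inv_mul_eq_iff_eq_mul] at e
        exacts [Or.inr (Or.inr (Or.inl (by rw [e, mul_one]))), Or.inr (Or.inr (Or.inr e))]
    have hC32 : Nat.card S.C ≤ 32 := by
      rw [← card_mul_index (S.E.subgroupOf S.C),
        Nat.card_congr (subgroupOfEquivOfLe S.E_le_C).toEquiv, S.cardE]
      refine (Nat.mul_le_mul_left 8 ((relIndex_le_card S.E S.C π _ himage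
        fun g _ h _ e => ?_).trans Finset.card_le_four)).trans le_rfl
      exact QuotientGroup.eq.mp e
    have hidx : Nat.card (K.subgroupOf T) * K.relIndex T = Nat.card T := card_mul_index _
    have hpos : 0 < Nat.card (K.subgroupOf T) := Nat.card_pos
    have hTC : Nat.card T ≤ 32 := (Nat.card_le_card_of_injective ι hι).trans hC32
    have hm : K.relIndex T ≤ 32 := ((Nat.le_mul_of_pos_left _ hpos).trans hidx.le).trans hTC
    -- no large elementary quotient
    have hbig : 16 ≤ K.relIndex T → (2 ≤ (K ⊔ T).index ∨ 32 ≤ K.relIndex T) → False := by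
      intro h16 hor
      have hK1 : Nat.card (K.subgroupOf T) = 1 ∨ (Nat.card (K.subgroupOf T) = 2 ∧ 32 ≤ Nat.card T) := by
        have h1 := (Nat.mul_le_mul_left (Nat.card (K.subgroupOf T)) h16).trans hidx.le
        by_cases h : Nat.card (K.subgroupOf T) = 1
        · exact Or.inl h
        · refine Or.inr ⟨by omega, ?_⟩
          rw [← hidx]
          exact (show 32 ≤ 2 * 16 from le_rfl).trans (Nat.mul_le_mul (by omega) h16)
      obtain ⟨g, hgV, hg1, hgw, hgdef⟩ := hcommutator hu2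
      rcases hK1 with hK1 | ⟨hK2, hT32⟩
      swap
      · -- `T = C`, so `K ⊓ T` contains the commutator and a displacement
        have hsurj : ∀ x ∈ S.C, ∃ t ∈ T, (t : G) = x := by
          intro x hx
          obtain ⟨t, ht⟩ := ((Nat.bijective_iff_injective_and_card ι).mpr
            ⟨hι, le_antisymm (Nat.card_le_card_of_injective ι hι) (hC32.trans hT32)⟩).2 ⟨x, hx⟩
          exact ⟨t, t.2, congrArg (fun u : S.C => (u : G)) ht⟩
        have hi : 2 ≤ (K ⊔ T).index := hor.resolve_right fun h => by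
          have := (Nat.mul_le_mul_left (Nat.card (K.subgroupOf T)) h).trans (hidx.le.trans hTC)
          omega
        obtain ⟨te, -, hte⟩ := hsurj S.e (S.E_le_C S.e_mem)
        obtain ⟨kw, hkwK, hkw⟩ := hwin hi te hte
        obtain ⟨tc, -, htc⟩ := hsurj c hc
        obtain ⟨td, -, htd⟩ := hsurj _ (S.σ_C hc)
        let kg : H := tc * td * tc⁻¹ * td⁻¹
        have hkg : (kg : G) = g := by simp [kg, htc, htd, hgdef]
        have h3 := Nat.card_le_card_of_injective (fun i : Fin 3 => if i = 0 then 1 else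
          if i = 1 then (⟨⟨kw, mem_subgroupOf.mpr (by rw [hkw]; exact S.E_le_C S.w_isV.1)⟩,
            mem_subgroupOf.mpr hkwK⟩ : K.subgroupOf T)
          else ⟨⟨kg, mem_subgroupOf.mpr (by rw [hkg]; exact S.E_le_C hgV.1)⟩,
            mem_subgroupOf.mpr (comm_mem_of_sq K hK tc td)⟩) (by
            intro p q hpq
            have hpq' := congrArg (fun u : K.subgroupOf T => (((u : T) : H) : G)) hpq
            fin_cases p <;> fin_cases q <;>
              simp [hkw, hkg, hg1, hgw, S.w_ne, Ne.symm hg1, Ne.symm hgw, Ne.symm S.w_ne]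
                at hpq' ⊢)
        simp [hK2] at h3
      -- `K ⊓ T` trivial: then `T` is abelian and misses part of `E`
      have hone : ∀ x ∈ T, x ∈ K → (x : G) = 1 := fun x hx hxK => congrArg (fun u : T => ((u : H) : G))
        ((mem_bot).mp ((K.subgroupOf T).eq_bot_of_card_eq hK1 ▸
          (mem_subgroupOf.mpr hxK : (⟨x, hx⟩ : T) ∈ K.subgroupOf T)))
      have hTab : ∀ s ∈ T, ∀ t ∈ T, (s : G) * t = t * s := fun s hs t ht => by
        have := hone _ (mul_mem (mul_mem (mul_mem hs ht) (inv_mem hs)) (inv_mem ht))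
          (comm_mem_of_sq K hK s t)
        simp only [coe_mul, coe_inv] at this
        exact mul_inv_eq_iff_eq_mul.mp (mul_inv_eq_one.mp this)
      have hT16 : 16 ≤ Nat.card T := by rw [← hidx, hK1, one_mul]; exact h16
      let s : Finset (G ⧸ S.E) := ({1, π u, π c, π c * π u} : Finset _)
      let φ : T →* G ⧸ S.E := π.comp (H.subtype.comp T.subtype)
      have hφs : ∀ t : T, φ t ∈ s := fun t => himage _ (mem_subgroupOf.mp t.2)
      have hrange4 : 4 ≤ Nat.card φ.range → False := by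
        intro h4
        have hsurj4 : ∀ q ∈ s, ∃ t : T, φ t = q := by
          intro q hq
          let rf : φ.range → s := fun r => ⟨r, by
            obtain ⟨t, ht⟩ := r.2; rw [← ht]; exact hφs t⟩
          have hrf : Function.Injective rf := fun p q e =>
            Subtype.ext (congrArg (fun v : s => (v : G ⧸ S.E)) e)
          obtain ⟨⟨_, t, rfl⟩, ht⟩ := ((Nat.bijective_iff_injective_and_card rf).mpr
            ⟨hrf, le_antisymm (Nat.card_le_card_of_injective rf hrf)
              ((by simpa using Finset.card_le_four : Nat.card s ≤ 4).trans h4)⟩).2 ⟨q, hq⟩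
          exact ⟨t, congrArg (fun v : s => (v : G ⧸ S.E)) ht⟩
        obtain ⟨tc, htc⟩ := hsurj4 (π c) (by simp [s])
        obtain ⟨tu, htu⟩ := hsurj4 (π u) (by simp [s])
        -- `C` would be abelian
        let N : Subgroup G := S.E ⊔ (T.map H.subtype)
        have hN : S.C ≤ N := by
          have hmemN : ∀ (x : G) (t : T), π x = φ t → x ∈ N := fun x t e => by
            have h1 : x * ((t : H) : G)⁻¹ ∈ S.E := (hπE _).mp (by
              rw [map_mul, map_inv, e]; exact mul_inv_cancel _)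
            rw [← inv_mul_cancel_right x ((t : H) : G)]
            exact mul_mem (mem_sup_left h1) (mem_sup_right ⟨_, t.2, rfl⟩)
          have hcN := hmemN c tc htc.symm
          have huN := hmemN u tu htu.symm
          intro x hx
          rcases hform x hx with h | h
          · exact (sup_le le_sup_left (zpowers_le.mpr huN)) h
          · have := mul_mem hcN ((sup_le le_sup_left (zpowers_le.mpr huN)) h)
            rwa [mul_inv_cancel_left] at this
        have hNc : ∀ x ∈ N, ∀ y ∈ N, x * y = y * x := by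
          intro x hx y hy
          obtain ⟨e, he, _, ⟨s', hs', rfl⟩, rfl⟩ := mem_sup_of_normal_left.mp hx
          obtain ⟨f, hf, _, ⟨t', ht', rfl⟩, rfl⟩ := mem_sup_of_normal_left.mp hy
          have h1 : Commute e (t' : G) := S.comm_C (mem_subgroupOf.mp ht') he
          have h2 : Commute (s' : G) f := (S.comm_C (mem_subgroupOf.mp hs') hf).symm
          exact ((show Commute e f from S.commE e he f hf).mul_right h1).mul_left
            (h2.mul_right (hTab s' hs' t' ht'))
        refine hg1 ?_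
        rw [hgdef, hNc c (hN hc) _ (hN (S.σ_C hc)), mul_inv_cancel_right, mul_inv_cancel]
      refine hrange4 ?_
      -- the part of `T` in `E`
      let ε : φ.ker → S.E := fun t => ⟨(((t : T) : H) : G), (hπE _).mp t.2⟩
      have hε : Function.Injective ε := fun p q e =>
        Subtype.ext (Subtype.ext (Subtype.ext (congrArg (fun v : S.E => (v : G)) e)))
      have hm2 := card_mul_index φ.ker
      rw [index_ker] at hm2
      have hk8 : Nat.card φ.ker ≤ 8 := S.cardE ▸ Nat.card_le_card_of_injective ε hε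
      obtain ⟨l, hl⟩ := ((S.isTwo.to_subgroup H).to_subgroup T |>.to_subgroup φ.ker).exists_card_eq
      by_cases hk4 : Nat.card φ.ker ≤ 4
      · exact Nat.le_of_mul_le_mul_left ((show 4 * 4 ≤ Nat.card T from hT16).trans
          (hm2.ge.trans (Nat.mul_le_mul_right _ hk4))) (by omega)
      have hk : Nat.card φ.ker = 8 := by
        refine le_antisymm hk8 ?_
        by_contra h
        exact hk4 ((FourGenerator.le_of_pow_two hl (not_le.mp h)).2.1 rfl)
      rcases hor with hi | h32
      · exfalso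
        obtain ⟨t, ht⟩ := ((Nat.bijective_iff_injective_and_card ε).mpr
          ⟨hε, by rw [hk, S.cardE]⟩).2 ⟨S.e, S.e_mem⟩
        obtain ⟨kw, hkwK, hkw⟩ := hwin hi ((t : T) : H) (congrArg (fun v : S.E => (v : G)) ht)
        exact S.w_ne (by
          rw [← hkw]
          exact hone _ (mem_subgroupOf.mpr (by rw [hkw]; exact S.E_le_C S.w_isV.1)) hkwK)
      · have h32' : 32 ≤ Nat.card T := by rw [← hidx, hK1, one_mul]; exact h32
        rw [hk] at hm2
        omega
    by_cases hi : 2 ≤ (K ⊔ T).index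
    · have hm8 : K.relIndex T ≤ 8 := by
        by_contra h
        refine hbig ?_ (Or.inl hi)
        by_contra h'
        exact h ((FourGenerator.le_of_pow_two hkT (not_le.mp h')).2.2 rfl)
      exact (Nat.mul_le_mul hr2 hm8).trans le_rfl
    · have hm16 : K.relIndex T ≤ 16 := by
        by_contra h
        have h5 : 5 ≤ kT := by
          by_contra h'
          exact h (hkT.le.trans ((Nat.pow_le_pow_right (Nat.succ_pos 1)
            (show kT ≤ 4 by omega)).trans le_rfl))
        have h32 : 32 ≤ K.relIndex T := hkT ▸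
          le_trans (show 32 ≤ 2 ^ 5 from le_rfl) (Nat.pow_le_pow_right (Nat.succ_pos 1) h5)
        exact hbig (by omega) (Or.inr h32)
      have : (K ⊔ T).index ≤ 1 := by omega
      exact (Nat.mul_le_mul this hm16).trans le_rfl
  -- `u²` outside `E`
  have hlong : IsLong S u := ⟨huC, hu2, hucomm⟩
  have hC0C : S.E ⊔ zpowers u ≤ S.C := sup_le S.E_le_C (zpowers_le.mpr huC)
  set T₀ := (S.E ⊔ zpowers u).subgroupOf H with hT₀
  have hT₀T : T₀ ≤ T := fun x hx => mem_subgroupOf.mpr (hC0C (mem_subgroupOf.mp hx))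
  obtain ⟨hm0, hm8⟩ := sq_bound K T₀ hK S.E S.cardE fun x hx y hy e =>
    hlong.fibre (mem_subgroupOf.mp hx) (mem_subgroupOf.mp hy)
      (by simpa only [coe_mul] using congrArg Subtype.val e)
  have hrel : T₀.relIndex T ≤ 2 := by
    refine (relIndex_le_card T₀ T (fun h : H => decide ((h : G) ∈ S.E ⊔ zpowers u)) Finset.univ
      (fun g _ => Finset.mem_univ _) fun g hg h hh e => ?_).trans (by simp)
    simp only [decide_eq_decide] at e
    refine mem_subgroupOf.mpr ?_
    rw [coe_mul, coe_inv]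
    rcases hform _ (mem_subgroupOf.mp hg) with h1 | h1
    · exact mul_mem (inv_mem h1) (e.mp h1)
    · rcases hform _ (mem_subgroupOf.mp hh) with h2 | h2
      · exact mul_mem (inv_mem (e.mpr h2)) h2
      · have := mul_mem (inv_mem h1) h2
        rwa [mul_inv_rev, inv_inv, mul_assoc, mul_inv_cancel_left] at this
  have hmT : K.relIndex T ≤ K.relIndex T₀ * 2 := by
    have h1 := relIndex_mul_relIndex (K ⊓ T₀) T₀ T inf_le_right hT₀T
    rw [inf_relIndex_right] at h1
    refine le_trans ?_ (Nat.mul_le_mul_left _ hrel)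
    rw [h1]
    refine Nat.le_of_dvd (Nat.pos_of_ne_zero index_ne_zero_of_finite) ?_
    exact relIndex_dvd_of_le_left T inf_le_left
  by_cases hi : 2 ≤ (K ⊔ T).index
  swap
  · have : (K ⊔ T).index ≤ 1 := by omega
    exact (Nat.mul_le_mul this (hmT.trans (Nat.mul_le_mul_right 2 hm0))).trans le_rfl
  have hm4 : K.relIndex T₀ ≤ 4 := by
    obtain ⟨k, hk⟩ := FourGenerator.exists_pow_two ((S.isTwo.to_subgroup H).to_subgroup T₀)
      (K.subgroupOf T₀)
    refine (FourGenerator.le_of_pow_two hk ?_).2.1 rfl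
    by_contra h
    obtain ⟨hsurj, hsq'⟩ := hm8 (not_lt.mp h)
    obtain ⟨te, -, hte⟩ := hsurj S.e S.e_mem
    obtain ⟨kw, hkwK, hkw⟩ := hwin hi te hte
    obtain ⟨t, ht, rfl⟩ := hsq' kw (mem_subgroupOf.mpr (by
      rw [hkw]; exact mem_sup_left S.w_isV.1)) hkwK
    obtain ⟨e, he, s, hs, hes⟩ := mem_sup_of_normal_left.mp (mem_subgroupOf.mp ht)
    obtain ⟨i, rfl⟩ := mem_zpowers_iff.mp hs
    rw [coe_mul, hlong.sq_form he hes.symm] at hkw
    rcases hkey hu2 _ (hkw ▸ zpow_mem (mem_zpowers _) i) (S.sqE _ S.w_isV.1) with h' | h'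
    · exact S.w_ne h'
    · exact h0w h'.symm
  exact (Nat.mul_le_mul hr2 (hmT.trans (Nat.mul_le_mul_right 2 hm4))).trans le_rfl

end Eight

end Cfsg.Agent.PGroups.SelfCentEight
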