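import Cfsg.Agent.Lib.PGroups.SelfCentEight.Cyclic
import Cfsg.Agent.Lib.PGroups.SelfCentEight.Dihedral

/-!
Two-groups with a self-centralizing elementary abelian subgroup of order eight have sectional
rank at most four.
-/

set_option autoImplicit false

namespace Cfsg.Agent.PGroups.SelfCentEight

open Subgroup

variable {G : Type*} [Group G] [Finite G]

theorem Eight.index_le (S : Eight G) {H : Subgroup G} (K : Subgroup H)
    (hK : ∀ x : H, x * x ∈ K) : K.index ≤ 16 := by
  rcases S.structure_C with ⟨c, hc, hgen⟩ | ⟨hnc, c, hc, hgen, hsq⟩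
  · by_cases hc2 : c ^ 2 ∈ S.E
    · exact index_le_cyclic_short hc hgen hc2 K hK
    · exact index_le_cyclic_long hc hgen hc2 K hK
  · exact index_le_dihedral hnc hc hgen hsq K hK

/-- Every elementary section has order at most sixteen. -/
theorem index_le (hG : IsPGroup 2 G) (A : Subgroup G)
    (hAc : ∀ x ∈ A, ∀ y ∈ A, x * y = y * x) (hA2 : ∀ x ∈ A, x * x = 1) (hA8 : Nat.card A = 8)
    (hC : centralizer (A : Set G) = A) {H : Subgroup G} (K : Subgroup H)
    (hK : ∀ x : H, x * x ∈ K) : K.index ≤ 16 := by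
  haveI : Fact (Nat.Prime 2) := ⟨Nat.prime_two⟩
  by_cases hno : ∀ B : Subgroup G, B.Normal → IsMulCommutative B → (∀ b ∈ B, b ^ 2 = 1) →
      Nat.card B ≤ 4
  · obtain ⟨S⟩ := FourGenerator.exists_setup hG hno
    exact S.index_le K hK
  push Not at hno
  obtain ⟨B, hBn, hBc, hB2, hB4⟩ := hno
  haveI := hBn
  have hB8 : 2 ^ 3 ≤ Nat.card B := by
    obtain ⟨k, hk⟩ := (hG.to_subgroup B).exists_card_eq
    rw [hk] at hB4 ⊢
    refine Nat.pow_le_pow_right (Nat.succ_pos 1) ?_
    by_contra h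
    exact absurd ((Nat.pow_le_pow_right (Nat.succ_pos 1) (show k ≤ 2 by omega)).trans le_rfl :
      2 ^ k ≤ 4) (not_le.mpr hB4)
  obtain ⟨E, hEn, hEB, hE8⟩ := Normal.exists_normal_le_card hG B 3 hB8
  haveI := hEn
  have hEc : ∀ x ∈ E, ∀ y ∈ E, x * y = y * x := fun x hx y hy =>
    congrArg Subtype.val (hBc.is_comm.comm ⟨x, hEB hx⟩ ⟨y, hEB hy⟩)
  have hE2 : ∀ x ∈ E, x * x = 1 := fun x hx => by rw [← sq]; exact hB2 x (hEB hx)
  have hE8' : Nat.card E = 8 := by rw [hE8]; norm_num
  rcases exists_eight hG A hAc hA2 hA8 hC E hE8' hEc hE2 with h | ⟨S, rfl⟩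
  · exact index_le_of_self E hG hE8' hEc hE2 h K hK
  · exact S.index_le K hK

/-- Sectional two-rank at most four, in the form of `Cfsg.SectionalPRankLE`. -/
theorem sectionalRank (hG : IsPGroup 2 G) (A : Subgroup G)
    (hAc : ∀ x ∈ A, ∀ y ∈ A, x * y = y * x) (hA2 : ∀ x ∈ A, x * x = 1) (hA8 : Nat.card A = 8)
    (hC : centralizer (A : Set G) = A) : Cfsg.SectionalPRankLE 2 4 G := by
  intro H N _ B hB hB2
  let L : Subgroup H := B.comap (QuotientGroup.mk' N)
  let H' : Subgroup G := L.map H.subtype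
  let f : H' →* B :=
    ((QuotientGroup.mk' N).comp L.subtype).codRestrict B (fun x => x.2) |>.comp
      (L.equivMapOfInjective H.subtype H.subtype_injective).symm.toMonoidHom
  have hf : Function.Surjective f := by
    intro a
    obtain ⟨x, hx⟩ := QuotientGroup.mk'_surjective N (a : ↥H ⧸ N)
    have hxL : x ∈ L := by rw [Subgroup.mem_comap, hx]; exact a.2
    refine ⟨L.equivMapOfInjective H.subtype H.subtype_injective ⟨x, hxL⟩, ?_⟩
    simp only [f, MonoidHom.comp_apply, MulEquiv.coe_toMonoidHom, MulEquiv.symm_apply_apply]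
    exact Subtype.ext hx
  have hK : ∀ x : H', x * x ∈ f.ker := fun x => by
    rw [MonoidHom.mem_ker, map_mul, ← sq]
    exact Subtype.ext (by simpa using hB2 _ (f x).2)
  have := index_le hG A hAc hA2 hA8 hC f.ker hK
  rw [Subgroup.index_ker, MonoidHom.range_eq_top.mpr hf, Subgroup.card_top] at this
  exact this

end Cfsg.Agent.PGroups.SelfCentEight
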