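import Cfsg.Agent.Lib.PGroups.SelfCentEight.Setup
import Cfsg.Agent.Lib.PGroups.FourGenerator.Count

/-!
Counting elementary sections against the centralizer of a normal elementary abelian subgroup of
order eight.
-/

set_option autoImplicit false

namespace Cfsg.Agent.PGroups.SelfCentEight

open Subgroup
open FourGenerator (normal_of_sq card_le_range_mul exists_pow_two)

variable {G : Type*} [Group G] [Finite G]

/-- A subgroup containing all squares contains all commutators. -/
theorem comm_mem_of_sq {H : Type*} [Group H] (K : Subgroup H) (hK : ∀ x : H, x * x ∈ K)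
    (x y : H) : x * y * x⁻¹ * y⁻¹ ∈ K := by
  haveI := normal_of_sq K hK
  have e : x * y * x⁻¹ * y⁻¹ =
      (x * y * (x * y)) * (y⁻¹ * (x⁻¹ * x⁻¹) * y⁻¹⁻¹) * (y⁻¹ * y⁻¹) := by group
  rw [e]
  exact mul_mem (mul_mem (hK _) (Normal.conj_mem inferInstance _ (hK _) _)) (hK _)

theorem index_eq_mul {H : Subgroup G} (C : Subgroup G) (K : Subgroup H)
    (hK : ∀ x : H, x * x ∈ K) :
    K.index = (K ⊔ C.subgroupOf H).index * K.relIndex (C.subgroupOf H) := by
  haveI := normal_of_sq K hK
  rw [← relIndex_mul_index (le_sup_left : K ≤ K ⊔ C.subgroupOf H), relIndex_sup_left, mul_comm]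

/-- Counting through squares: the fibres of squaring lie in cosets of `W`. -/
theorem sq_bound {H : Subgroup G} (K T₀ : Subgroup H) (hK : ∀ x : H, x * x ∈ K) (W : Subgroup G)
    (hW : Nat.card W = 8)
    (hfib : ∀ x ∈ T₀, ∀ y ∈ T₀, x * x = y * y → ((x : G))⁻¹ * y ∈ W) :
    K.relIndex T₀ ≤ 8 ∧ (8 ≤ K.relIndex T₀ → (∀ x ∈ W, ∃ t ∈ T₀, (t : G) = x) ∧
      ∀ k ∈ T₀, k ∈ K → ∃ t ∈ T₀, t * t = k) := by
  let f : T₀ → K.subgroupOf T₀ := fun t => ⟨t * t, mem_subgroupOf.mpr (hK (t : H))⟩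
  let W' : Subgroup H := W.subgroupOf H ⊓ T₀
  have hle := card_le_range_mul f (fun t : T₀ => (t : H)) Subtype.val_injective W' fun x y e => by
    refine ⟨mem_subgroupOf.mpr ?_, mul_mem (T₀.inv_mem x.2) y.2⟩
    rw [coe_mul, coe_inv]
    exact hfib _ x.2 _ y.2 (congrArg (fun u : K.subgroupOf T₀ => ((u : T₀) : H)) e)
  let ι : W' → W := fun t => ⟨((t : H) : G), mem_subgroupOf.mp t.2.1⟩
  have hι : Function.Injective ι := fun x y e => Subtype.ext (Subtype.ext (congrArg
    (fun u : W => (u : G)) e))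
  have hW' : Nat.card W' ≤ 8 := hW ▸ Nat.card_le_card_of_injective ι hι
  have hidx : Nat.card (K.subgroupOf T₀) * K.relIndex T₀ = Nat.card T₀ := card_mul_index _
  have hpos : 0 < Nat.card (K.subgroupOf T₀) := Nat.card_pos
  have hr : Nat.card (Set.range f) ≤ Nat.card (K.subgroupOf T₀) :=
    Nat.card_le_card_of_injective _ Subtype.val_injective
  refine ⟨Nat.le_of_mul_le_mul_left ((hidx.le.trans hle).trans (Nat.mul_le_mul hr hW')) hpos,
    fun h8 => ?_⟩
  have h1 : Nat.card (K.subgroupOf T₀) * 8 ≤ Nat.card (Set.range f) * Nat.card W' :=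
    ((Nat.mul_le_mul_left _ h8).trans hidx.le).trans hle
  have hWeq : Nat.card W' = 8 := by
    refine le_antisymm hW' ?_
    by_contra h
    have h2 := h1.trans (Nat.mul_le_mul hr (show Nat.card W' ≤ 7 by omega))
    omega
  have hReq : Nat.card (K.subgroupOf T₀) ≤ Nat.card (Set.range f) := by
    rw [hWeq] at h1
    exact Nat.le_of_mul_le_mul_right h1 (by omega)
  refine ⟨fun x hx => ?_, fun k hk hkK => ?_⟩
  · obtain ⟨t, ht⟩ := ((Nat.bijective_iff_injective_and_card ι).mpr
      ⟨hι, by rw [hWeq, hW]⟩).2 ⟨x, hx⟩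
    exact ⟨t, t.2.2, congrArg (fun u : W => (u : G)) ht⟩
  · obtain ⟨⟨_, t, rfl⟩, ht⟩ := ((Nat.bijective_iff_injective_and_card
      (Subtype.val : Set.range f → K.subgroupOf T₀)).mpr
        ⟨Subtype.val_injective, le_antisymm hr hReq⟩).2 ⟨⟨k, hk⟩, mem_subgroupOf.mpr hkK⟩
    exact ⟨t, t.2, congrArg (fun u : K.subgroupOf T₀ => ((u : T₀) : H)) ht⟩

/-- A relative index is bounded by the number of values of a separating function. -/
theorem relIndex_le_card {X : Type*} (C B : Subgroup G) (f : G → X) (s : Finset X)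
    (hf : ∀ g ∈ B, f g ∈ s) (hinj : ∀ g ∈ B, ∀ h ∈ B, f g = f h → g⁻¹ * h ∈ C) :
    C.relIndex B ≤ s.card := by
  rw [relIndex, index_eq_card]
  refine (Nat.card_le_card_of_injective
    (fun q : B ⧸ C.subgroupOf B => (⟨f (q.out : B), hf _ q.out.2⟩ : s)) fun p q e => ?_).trans
      (by simp)
  have h := hinj _ p.out.2 _ q.out.2 (congrArg (fun u : s => (u : X)) e)
  rw [← QuotientGroup.out_eq' p, ← QuotientGroup.out_eq' q]
  exact QuotientGroup.eq.mpr (mem_subgroupOf.mpr h)

variable (E : Subgroup G) [hEn : E.Normal]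

/-- Elementary quotients of subgroups of `G / C(E)` have order at most four. -/
theorem quot_le_four (hG : IsPGroup 2 G) (hE8 : Nat.card E = 8)
    (hEc : ∀ x ∈ E, ∀ y ∈ E, x * y = y * x) (hE2 : ∀ x ∈ E, x * x = 1) :
    (centralizer (E : Set G)).index ≤ 8 ∧ ∀ (H : Subgroup G) (K : Subgroup H),
      (∀ x : H, x * x ∈ K) → (K ⊔ (centralizer (E : Set G)).subgroupOf H).index ≤ 4 := by
  classical
  haveI : Fact (Nat.Prime 2) := ⟨Nat.prime_two⟩
  set C := centralizer (E : Set G) with hCdef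
  haveI : C.Normal := by rw [hCdef]; infer_instance
  have h8 : C.index ≤ 8 := AbelianNormal.index_centralizer_le hG E (a := 3) (by rw [hE8]; norm_num)
  refine ⟨h8, fun H K hK => ?_⟩
  set T := C.subgroupOf H with hT
  haveI := normal_of_sq K hK
  obtain ⟨k, hk⟩ := exists_pow_two (hG.to_subgroup H) (K ⊔ T)
  have hrle : (K ⊔ T).index ≤ C.relIndex H :=
    Nat.le_of_dvd (Nat.pos_of_ne_zero (index_ne_zero_of_finite (H := T)))
      (index_dvd_of_le le_sup_right)
  have hCle : C.relIndex H ≤ C.index :=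
    Nat.le_of_dvd (Nat.pos_of_ne_zero index_ne_zero_of_finite) (relIndex_dvd_index_of_normal _ _)
  by_contra h4
  have h8' : 8 ≤ (K ⊔ T).index := by
    rw [hk] at h4 ⊢
    have h2 : 2 < k := by
      by_contra h
      exact h4 ((Nat.pow_le_pow_right (Nat.succ_pos 1) (not_lt.mp h)).trans le_rfl)
    exact le_trans (show 8 ≤ 2 ^ 3 from le_rfl) (Nat.pow_le_pow_right (Nat.succ_pos 1) h2)
  -- `G / C` is abelian
  have hKT : K ≤ T := by
    have hm := relIndex_mul_index (le_sup_right : T ≤ K ⊔ T)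
    rw [show T.index = (K ⊔ T).index from le_antisymm ((hCle.trans h8).trans h8') hrle] at hm
    have h1 : T.relIndex (K ⊔ T) = 1 := Nat.eq_of_mul_eq_mul_right (by omega)
      (hm.trans (one_mul _).symm)
    exact le_sup_left.trans (relIndex_eq_one.mp h1)
  have htop : H ⊔ C = ⊤ := index_eq_one.mp <| by
    have hm := relIndex_mul_index (le_sup_right : C ≤ H ⊔ C)
    rw [relIndex_sup_right] at hm
    have e : C.relIndex H = C.index := by omega
    rw [e] at hm
    exact (Nat.mul_eq_left index_ne_zero_of_finite).mp hm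
  have hab : ∀ x y : G, x * y * x⁻¹ * y⁻¹ ∈ C := by
    intro x y
    obtain ⟨a, ha, c, hc, rfl⟩ := mem_sup_of_normal_right.mp (htop ▸ mem_top x)
    obtain ⟨b, hb, d, hd, rfl⟩ := mem_sup_of_normal_right.mp (htop ▸ mem_top y)
    rw [← QuotientGroup.eq_one_iff]
    have h := (QuotientGroup.eq_one_iff (N := C) _).mpr
      (mem_subgroupOf.mp (hKT (comm_mem_of_sq K hK ⟨a, ha⟩ ⟨b, hb⟩)))
    have h1 := (QuotientGroup.eq_one_iff (N := C) c).mpr hc
    have h2 := (QuotientGroup.eq_one_iff (N := C) d).mpr hd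
    simp only [QuotientGroup.mk_mul, QuotientGroup.mk_inv, coe_mul, coe_inv, h1, h2, mul_one,
      mul_inv_rev, inv_one, one_mul] at h ⊢
    exact h
  -- a chief series of `E`
  obtain ⟨U, hUn, hUE, hUc⟩ := Normal.exists_normal_le_card hG E 2 (by rw [hE8]; norm_num)
  haveI := hUn
  obtain ⟨z, hzU, hz1, -, hzc⟩ := AbelianNormal.exists_step hG (B := (⊥ : Subgroup G))
    (N := U) (bot_lt_iff_ne_bot.mpr fun h => by rw [h, card_bot] at hUc; omega)
  have hz' : z ≠ 1 := fun h => hz1 (mem_bot.mpr h)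
  have hzfix : ∀ g, g * z * g⁻¹ = z := fun g => mul_inv_eq_one.mp (mem_bot.mp (hzc g))
  let Z : Subgroup G :=
    { carrier := {x | x = 1 ∨ x = z}
      one_mem' := Or.inl rfl
      mul_mem' := by rintro p q (hp | hp) (hq | hq) <;> simp [hp, hq, hE2 z (hUE hzU)]
      inv_mem' := by
        rintro p (rfl | rfl)
        · simp
        · exact Or.inr (inv_eq_of_mul_eq_one_left (hE2 _ (hUE hzU))) }
  have hZU : Z < U := by
    refine lt_of_le_of_ne ?_ fun h => ?_
    · rintro p (rfl | rfl)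
      exacts [U.one_mem, hzU]
    · have := Nat.card_le_card_of_injective
        (fun p : Z => decide ((p : G) = 1)) (fun p q e => Subtype.ext (by
          rcases p.2 with h1 | h1 <;> rcases q.2 with h2 | h2 <;>
            simp [h1, h2, hz'] at e ⊢))
      rw [h, hUc, show Nat.card Bool = 2 by simp] at this
      omega
  haveI : Z.Normal := ⟨fun p hp g => by
    rcases hp with rfl | rfl
    · simp
    · exact Or.inr (hzfix g)⟩
  obtain ⟨u, huU, huZ, -, hug⟩ := AbelianNormal.exists_step hG hZU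
  obtain ⟨x₀, hx₀, hx₀U, -, hxg⟩ := AbelianNormal.exists_step hG (B := U) (N := E)
    (lt_of_le_of_ne hUE fun h => by rw [h] at hUc; omega)
  have hgen : ∀ k, k * u = u * k → k * x₀ = x₀ * k → k ∈ C := by
    intro k hku hkx
    have hkz : k * z = z * k := mul_inv_eq_iff_eq_mul.mp (hzfix k)
    have hle : (Z ⊔ zpowers u) ⊔ zpowers x₀ ≤ centralizer {k} := by
      refine sup_le (sup_le ?_ (zpowers_le.mpr (mem_centralizer_singleton_iff.mpr hku.symm)))
        (zpowers_le.mpr (mem_centralizer_singleton_iff.mpr hkx.symm))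
      rintro p (rfl | rfl)
      · exact one_mem _
      · exact mem_centralizer_singleton_iff.mpr hkz.symm
    have hM : (Z ⊔ zpowers u) ⊔ zpowers x₀ = E := by
      have hsub : Z ⊔ zpowers u ≤ U := sup_le hZU.le (zpowers_le.mpr huU)
      have hcardZ : 2 ≤ Nat.card Z := (Subgroup.one_lt_card_iff_ne_bot Z).mpr fun h =>
        hz' (mem_bot.mp (h ▸ (Or.inr rfl : z ∈ Z)))
      have h1 := two_mul_card_le (left_lt_sup.mpr fun h => huZ (h (mem_zpowers u)) :
        Z < Z ⊔ zpowers u)
      have h2 := two_mul_card_le (left_lt_sup.mpr fun h => hx₀U (hsub (h (mem_zpowers x₀))) :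
        Z ⊔ zpowers u < (Z ⊔ zpowers u) ⊔ zpowers x₀)
      exact eq_of_le_of_card_ge (sup_le (hsub.trans hUE) (zpowers_le.mpr hx₀)) (by omega)
    rw [hM] at hle
    intro p hp
    exact mem_centralizer_singleton_iff.mp (hle hp)
  set B := centralizer (U : Set G) with hB
  have hCB : C ≤ B := centralizer_le hUE
  have hcongr : ∀ (g h p : G), g * p * g⁻¹ = h * p * h⁻¹ → (g⁻¹ * h) * p = p * (g⁻¹ * h) := by
    intro g h p e
    calc (g⁻¹ * h) * p = g⁻¹ * (h * p * h⁻¹) * h := by group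
      _ = g⁻¹ * (g * p * g⁻¹) * h := by rw [e]
      _ = p * (g⁻¹ * h) := by group
  have hU4 : B.index ≤ 2 := by
    rw [← relIndex_top_right]
    refine (relIndex_le_card B ⊤ (fun g => g * u * g⁻¹) {u, z * u} ?_ ?_).trans
      ((Finset.card_insert_le _ _).trans (by simp))
    · intro g _
      simp only [Finset.mem_insert, Finset.mem_singleton]
      rcases hug g with e | e
      · exact Or.inl (mul_inv_eq_one.mp e)
      · exact Or.inr (mul_inv_eq_iff_eq_mul.mp e)
    · intro g _ h _ e p hp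
      have hc := hcongr g h u e
      have hle : Z ⊔ zpowers u ≤ centralizer {g⁻¹ * h} := by
        refine sup_le ?_ (zpowers_le.mpr (mem_centralizer_singleton_iff.mpr hc.symm))
        rintro q (rfl | rfl)
        · exact one_mem _
        · exact mem_centralizer_singleton_iff.mpr (mul_inv_eq_iff_eq_mul.mp (hzfix _)).symm
      have heq : Z ⊔ zpowers u = U := by
        have h1 := two_mul_card_le (left_lt_sup.mpr fun h => huZ (h (mem_zpowers u)) :
          Z < Z ⊔ zpowers u)
        have hcardZ : 2 ≤ Nat.card Z := (Subgroup.one_lt_card_iff_ne_bot Z).mpr fun h =>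
          hz' (mem_bot.mp (h ▸ (Or.inr rfl : z ∈ Z)))
        exact eq_of_le_of_card_ge (sup_le hZU.le (zpowers_le.mpr huU)) (by omega)
      rw [heq] at hle
      exact mem_centralizer_singleton_iff.mp (hle hp)
  have hfin : C.index ≤ 4 := by
    rw [← relIndex_mul_index hCB]
    by_cases htop : ∀ g, g ∈ B
    · have hBi : B.index = 1 := index_eq_one.mpr (eq_top_iff.mpr fun g _ => htop g)
      rw [hBi, mul_one]
      haveI : Fintype (U : Set G) := Fintype.ofFinite _
      have hU4' : (U : Set G).toFinset.card = 4 := by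
        rw [show (4 : ℕ) = 2 ^ 2 from rfl, ← hUc, ← Set.ncard_eq_toFinset_card']; rfl
      refine (relIndex_le_card C B (fun g => g * x₀ * g⁻¹ * x₀⁻¹) (U : Set G).toFinset
        (fun g _ => by simpa using hxg g) fun g hg h hh e => ?_).trans hU4'.le
      exact hgen _ (hcongr g h u (by
        rw [show g * u * g⁻¹ = u by rw [← (hg : g ∈ B) u huU, mul_inv_cancel_right],
          show h * u * h⁻¹ = u by rw [← (hh : h ∈ B) u huU, mul_inv_cancel_right]]))
        (hcongr g h x₀ (mul_right_cancel e))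
    obtain ⟨t, ht⟩ := not_forall.mp htop
    refine (Nat.mul_le_mul (relIndex_le_card C B (fun g => g * x₀ * g⁻¹) {x₀, z * x₀} ?_
      fun g hg h hh e => hgen _ (hcongr g h u (by
        rw [show g * u * g⁻¹ = u by rw [← (hg : g ∈ B) u huU, mul_inv_cancel_right],
          show h * u * h⁻¹ = u by rw [← (hh : h ∈ B) u huU, mul_inv_cancel_right]]))
        (hcongr g h x₀ e)) hU4).trans
      ((Nat.mul_le_mul_right 2 (Finset.card_le_two : ({x₀, z * x₀} : Finset G).card ≤ 2)).trans
        le_rfl)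
    intro g hg
    simp only [Finset.mem_insert, Finset.mem_singleton]
    -- the displacement of `x₀` is fixed by `t`
    set m := g * x₀ * g⁻¹ * x₀⁻¹ with hm
    have hmU : m ∈ U := hxg g
    set n := t * x₀ * t⁻¹ * x₀⁻¹ with hn
    have hnU : n ∈ U := hxg t
    have hfixB : ∀ p ∈ U, g * p * g⁻¹ = p := fun p hp => by
      rw [← (hg : g ∈ B) p hp, mul_inv_cancel_right]
    have hgx : g * x₀ * g⁻¹ = m * x₀ := by rw [hm, inv_mul_cancel_right]
    have htx : t * x₀ * t⁻¹ = n * x₀ := by rw [hn, inv_mul_cancel_right]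
    have hcm : (t * g) * x₀ * (t * g)⁻¹ = (g * t) * x₀ * (g * t)⁻¹ := by
      have hk : (g * t)⁻¹ * (t * g) ∈ C := by
        have := hab g⁻¹ t⁻¹
        have := (inferInstance : C.Normal).conj_mem _ (hab t⁻¹ g⁻¹) 1
        have e : (g * t)⁻¹ * (t * g) = t⁻¹ * g⁻¹ * t⁻¹⁻¹ * g⁻¹⁻¹ := by group
        rw [e]
        exact hab _ _
      have hc := hk x₀ hx₀
      calc (t * g) * x₀ * (t * g)⁻¹
          = (g * t) * (((g * t)⁻¹ * (t * g)) * x₀) * (t * g)⁻¹ := by group
        _ = (g * t) * (x₀ * ((g * t)⁻¹ * (t * g))) * (t * g)⁻¹ := by rw [← hc]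
        _ = (g * t) * x₀ * (g * t)⁻¹ := by group
    have e1 : (t * g) * x₀ * (t * g)⁻¹ = t * m * t⁻¹ * (n * x₀) := by
      rw [← htx, show t * g * x₀ * (t * g)⁻¹ = t * (g * x₀ * g⁻¹) * t⁻¹ by group, hgx]
      group
    have e2 : (g * t) * x₀ * (g * t)⁻¹ = n * (m * x₀) := by
      rw [show g * t * x₀ * (g * t)⁻¹ = g * (t * x₀ * t⁻¹) * g⁻¹ by group, htx,
        show g * (n * x₀) * g⁻¹ = (g * n * g⁻¹) * (g * x₀ * g⁻¹) by group, hfixB n hnU, hgx]
    rw [e1, e2, ← mul_assoc n, hEc n (hUE hnU) m (hUE hmU), ← mul_assoc] at hcm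
    have htm : t * m * t⁻¹ = m := mul_right_cancel (mul_right_cancel hcm)
    have hmZ : m ∈ Z := by
      by_contra hmZ
      refine ht fun p hp => ?_
      have hle : Z ⊔ zpowers m ≤ centralizer {t} := by
        refine sup_le ?_ (zpowers_le.mpr (mem_centralizer_singleton_iff.mpr
          (mul_inv_eq_iff_eq_mul.mp htm).symm))
        rintro q (rfl | rfl)
        · exact one_mem _
        · exact mem_centralizer_singleton_iff.mpr (mul_inv_eq_iff_eq_mul.mp (hzfix _)).symm
      have heq : Z ⊔ zpowers m = U := by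
        have h1 := two_mul_card_le (left_lt_sup.mpr fun h => hmZ (h (mem_zpowers m)) :
          Z < Z ⊔ zpowers m)
        have hcardZ : 2 ≤ Nat.card Z := (Subgroup.one_lt_card_iff_ne_bot Z).mpr fun h =>
          hz' (mem_bot.mp (h ▸ (Or.inr rfl : z ∈ Z)))
        exact eq_of_le_of_card_ge (sup_le hZU.le (zpowers_le.mpr hmU)) (by omega)
      rw [heq] at hle
      exact mem_centralizer_singleton_iff.mp (hle hp)
    rcases hmZ with e | e
    · exact Or.inl (by rw [hgx, e, one_mul])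
    · exact Or.inr (by rw [hgx, e])
  omega

/-- The theorem when `E` is its own centralizer. -/
theorem index_le_of_self (hG : IsPGroup 2 G) (hE8 : Nat.card E = 8)
    (hEc : ∀ x ∈ E, ∀ y ∈ E, x * y = y * x) (hE2 : ∀ x ∈ E, x * x = 1)
    (hC : centralizer (E : Set G) ≤ E) {H : Subgroup G} (K : Subgroup H)
    (hK : ∀ x : H, x * x ∈ K) : K.index ≤ 16 := by
  haveI := normal_of_sq K hK
  set C := centralizer (E : Set G) with hCdef
  haveI : C.Normal := by rw [hCdef]; infer_instance
  set T := C.subgroupOf H with hT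
  rw [index_eq_mul C K hK]
  have hr := (quot_le_four E hG hE8 hEc hE2).2 H K hK
  obtain ⟨hm, hm8⟩ := sq_bound K T hK E hE8 fun x hx y hy _ =>
    hC (mem_subgroupOf.mp (mul_mem (inv_mem hx) hy))
  by_cases h8 : 8 ≤ K.relIndex T
  swap
  · have hm4 : K.relIndex T ≤ 4 := by
      obtain ⟨k, hk⟩ := exists_pow_two ((hG.to_subgroup H).to_subgroup T) (K.subgroupOf T)
      exact (FourGenerator.le_of_pow_two hk (by exact not_le.mp h8)).2.1 rfl
    exact (Nat.mul_le_mul hr hm4).trans le_rfl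
  obtain ⟨hsurj, hsq⟩ := hm8 h8
  have hTtop : T = ⊤ := by
    refine eq_top_iff.mpr fun h _ => mem_subgroupOf.mpr fun x hx => ?_
    obtain ⟨t, ht, rfl⟩ := hsurj x hx
    have hcT : h * t * h⁻¹ * t⁻¹ ∈ T := mem_subgroupOf.mpr (by
      rw [coe_mul, coe_mul, coe_mul, coe_inv, coe_inv]
      exact mul_mem ((inferInstance : C.Normal).conj_mem _ (mem_subgroupOf.mp ht) _)
        (inv_mem (mem_subgroupOf.mp ht)))
    obtain ⟨s, hs, he⟩ := hsq _ hcT (comm_mem_of_sq K hK h t)
    have h1 : ((s * s : H) : G) = 1 := by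
      rw [coe_mul]; exact hE2 _ (hC (mem_subgroupOf.mp hs))
    rw [he, coe_mul, coe_mul, coe_mul, coe_inv, coe_inv] at h1
    exact (mul_inv_eq_iff_eq_mul.mp (mul_inv_eq_one.mp h1)).symm
  rw [hTtop] at hm
  rw [← hT, hTtop]
  rw [sup_top_eq, index_top, one_mul]
  exact hm.trans (by omega)

end Cfsg.Agent.PGroups.SelfCentEight
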