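import Cfsg.Agent.Lib.PGroups.SelfCentEight.Structure

/-!
Counting when `C(E)` is generated over `E` by one element.
-/

set_option autoImplicit false

namespace Cfsg.Agent.PGroups.SelfCentEight

open Subgroup

variable {G : Type*} [Group G] [Finite G] {S : Eight G}

namespace Eight

theorem eq_on_E {g e₀ : G} (he₀ : S.IsV e₀) (h1 : e₀ ≠ 1) (hw : e₀ ≠ S.w)
    (hge : g * S.e = S.e * g) (hgw : g * S.w = S.w * g) (hg0 : g * e₀ = e₀ * g) : g ∈ S.C := by
  refine S.mem_C_of hge fun v hv => ?_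
  rcases S.cases_V hv he₀ h1 hw with h | h | h | h <;> subst h
  · simp
  · exact hgw
  · exact hg0
  · rw [← mul_assoc, hgw, mul_assoc, hg0, mul_assoc]

theorem mem_C_conj {g h : G} (hg : ∀ x ∈ S.E, g * x * g⁻¹ = h * x * h⁻¹) : g⁻¹ * h ∈ S.C := by
  intro x hx
  calc x * (g⁻¹ * h) = g⁻¹ * (g * x * g⁻¹) * h := by group
    _ = g⁻¹ * (h * x * h⁻¹) * h := by rw [hg x hx]
    _ = (g⁻¹ * h) * x := by group

variable {c : G} (hc : c ∈ S.C) (hgen : ∀ x ∈ S.C, ∃ e ∈ S.E, ∃ i : ℤ, x = e * c ^ i)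
include hc hgen

theorem cyclic_comm {x y : G} (hx : x ∈ S.C) (hy : y ∈ S.C) : Commute x y := by
  obtain ⟨e, he, i, rfl⟩ := hgen x hx
  obtain ⟨f, hf, j, rfl⟩ := hgen y hy
  have h1 : Commute e (c ^ j) := S.comm_C (zpow_mem hc j) he
  have h2 : Commute (c ^ i) f := (S.comm_C (zpow_mem hc i) hf).symm
  exact ((show Commute e f from S.commE e he f hf).mul_right h1).mul_left
    (h2.mul_right (Commute.zpow_zpow_self c i j))

/-- The case `c² ∉ E`. -/
theorem index_le_cyclic_long (hc2 : c ^ 2 ∉ S.E) {H : Subgroup G} (K : Subgroup H)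
    (hK : ∀ x : H, x * x ∈ K) : K.index ≤ 16 := by
  classical
  haveI := S.normalC
  haveI := S.normalE
  haveI : Fact (Nat.Prime 2) := ⟨Nat.prime_two⟩
  haveI := FourGenerator.normal_of_sq K hK
  have hu : IsLong S c := ⟨hc, hc2, cyclic_comm hc hgen hc (S.σ_C hc)⟩
  obtain ⟨e₀, hV0, h01, h0w, huniq, hcent⟩ := hu.exists_socle
  have hcent' := hcent fun x hx => by
    obtain ⟨e, he, i, rfl⟩ := hgen x hx
    rw [show 4 = 2 * 2 from rfl, pow_mul, sq (e * c ^ i), hu.sq_form he rfl]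
    exact pow_mem (zpow_mem (mem_zpowers _) _) _
  rw [index_eq_mul S.C K hK]
  set T := S.C.subgroupOf H with hT
  have hr := (quot_le_four S.E S.isTwo S.cardE S.commE S.sqE).2 H K hK
  change (K ⊔ T).index ≤ 4 at hr
  have hmem : ∀ x ∈ T, ((x : G)) ∈ S.E ⊔ zpowers c := fun x hx => by
    obtain ⟨e, he, i, h⟩ := hgen _ (mem_subgroupOf.mp hx)
    rw [h]
    exact mul_mem (mem_sup_left he) (mem_sup_right (zpow_mem (mem_zpowers c) i))
  obtain ⟨hm, hm8⟩ := sq_bound K T hK S.E S.cardE fun x hx y hy e =>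
    hu.fibre (hmem x hx) (hmem y hy) (by simpa only [coe_mul] using congrArg Subtype.val e)
  obtain ⟨i, hi⟩ := FourGenerator.exists_pow_two (S.isTwo.to_subgroup H) (K ⊔ T)
  by_cases hr2 : (K ⊔ T).index ≤ 2
  · exact (Nat.mul_le_mul hr2 hm).trans le_rfl
  by_cases h8 : 8 ≤ K.relIndex T
  swap
  · obtain ⟨k, hk⟩ := FourGenerator.exists_pow_two ((S.isTwo.to_subgroup H).to_subgroup T)
      (K.subgroupOf T)
    exact (Nat.mul_le_mul hr ((FourGenerator.le_of_pow_two hk (not_le.mp h8)).2.1 rfl)).trans le_rfl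
  exfalso
  obtain ⟨hE, hsq⟩ := hm8 h8
  have hr4 : 4 ≤ S.C.relIndex H := by
    have h := Nat.le_of_dvd (Nat.pos_of_ne_zero (index_ne_zero_of_finite (H := T)))
      (index_dvd_of_le (le_sup_right : T ≤ K ⊔ T))
    have h4 : 4 ≤ (K ⊔ T).index := by
      rw [hi] at hr2 ⊢
      exact le_trans (show 4 ≤ 2 ^ 2 from le_rfl) (Nat.pow_le_pow_right (Nat.succ_pos 1) (by
        by_contra h'
        exact hr2 ((Nat.pow_le_pow_right (Nat.succ_pos 1) (show i ≤ 1 by omega)).trans le_rfl)))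
    exact h4.trans h
  -- squares of `T` in coordinates
  have hsqmem : ∀ k ∈ T, k ∈ K → (k : G) ∈ zpowers (c ^ 2) := by
    intro k hk hkK
    obtain ⟨t, ht, rfl⟩ := hsq k hk hkK
    obtain ⟨e, he, j, hj⟩ := hgen _ (mem_subgroupOf.mp ht)
    rw [coe_mul, hu.sq_form he hj]
    exact zpow_mem (mem_zpowers _) j
  have hcomm : ∀ h : H, ∀ x ∈ S.E, (h : G) * x * (h : G)⁻¹ = x ∨
      (h : G) * x * (h : G)⁻¹ = x * e₀ := by
    intro h x hx
    obtain ⟨t, ht, rfl⟩ := hE x hx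
    have hE' : (h : G) * t * (h : G)⁻¹ * (t : G)⁻¹ ∈ S.E :=
      mul_mem (S.normalE.conj_mem _ hx _) (inv_mem hx)
    have hT' : h * t * h⁻¹ * t⁻¹ ∈ T := mem_subgroupOf.mpr (S.E_le_C (by simpa using hE'))
    have hz : (h : G) * t * (h : G)⁻¹ * (t : G)⁻¹ ∈ zpowers (c ^ 2) := by
      simpa using hsqmem _ hT' (comm_mem_of_sq K hK h t)
    have hct : (t : G) * e₀ = e₀ * t := S.commE _ hx _ hV0.1
    rcases huniq _ hz (S.sqE _ hE') with e | e
    · exact Or.inl (mul_inv_eq_one.mp e)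
    · exact Or.inr (by rw [hct]; exact mul_inv_eq_iff_eq_mul.mp e)
  have h0fix : ∀ g : G, g * e₀ = e₀ * g := fun g => mul_inv_eq_iff_eq_mul.mp (hcent' g)
  -- all four values occur
  let f : G → Bool × Bool := fun h =>
    (decide (h * S.w * h⁻¹ = S.w), decide (h * S.e * h⁻¹ = S.e))
  have hval : ∀ p : Bool × Bool, ∃ h : H, f h = p := by
    intro p
    by_contra! hno
    have h3 := relIndex_le_card S.C H f (Finset.univ.erase p)
      (fun g hg => Finset.mem_erase.mpr ⟨hno ⟨g, hg⟩, Finset.mem_univ _⟩)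
      fun g hg h hh e => by
        simp only [f, Prod.mk.injEq, decide_eq_decide] at e
        have key : ∀ x ∈ S.E, (g * x * g⁻¹ = x ↔ h * x * h⁻¹ = x) →
            (g⁻¹ * h) * x = x * (g⁻¹ * h) := by
          intro x hx hiff
          have heq : g * x * g⁻¹ = h * x * h⁻¹ := by
            by_cases hx' : g * x * g⁻¹ = x
            · rw [hx', hiff.mp hx']
            · rw [(hcomm ⟨g, hg⟩ x hx).resolve_left hx',
                (hcomm ⟨h, hh⟩ x hx).resolve_left (fun h' => hx' (hiff.mpr h'))]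
          calc (g⁻¹ * h) * x = g⁻¹ * (h * x * h⁻¹) * h := by group
            _ = g⁻¹ * (g * x * g⁻¹) * h := by rw [heq]
            _ = x * (g⁻¹ * h) := by group
        exact eq_on_E hV0 h01 h0w (key _ S.e_mem e.2) (key _ S.w_isV.1 e.1) (h0fix _)
    rw [Finset.card_erase_of_mem (Finset.mem_univ p), Finset.card_univ,
      show Fintype.card (Bool × Bool) = 4 by simp] at h3
    omega
  obtain ⟨h₀, hh0⟩ := hval (true, false)
  obtain ⟨h₁, hh1⟩ := hval (false, true)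
  simp only [f, Prod.mk.injEq, decide_eq_true_eq, decide_eq_false_iff_not] at hh0 hh1
  have h0e : (h₀ : G) * S.e * (h₀ : G)⁻¹ = S.e * e₀ := (hcomm h₀ _ S.e_mem).resolve_left hh0.2
  have h1w : (h₁ : G) * S.w * (h₁ : G)⁻¹ = S.w * e₀ := (hcomm h₁ _ S.w_isV.1).resolve_left hh1.1
  -- conjugation by `σ g`
  have hconj : ∀ g x : G, S.σ g * x * (S.σ g)⁻¹ = S.σ (g * S.σ x * g⁻¹) := by
    intro g x
    rw [S.σ_mul, S.σ_mul, S.σ_inv, S.σ_σ]
  have e1 : (h₁ : G) * S.e * (h₁ : G)⁻¹ = S.e := hh1.2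
  have hk1 : (S.σ h₁)⁻¹ * ((h₀ : G) * h₁) ∈ S.C := by
    have hw' : S.σ h₁ * S.w * (S.σ h₁)⁻¹ = (h₀ : G) * h₁ * S.w * ((h₀ : G) * h₁)⁻¹ := by
      rw [hconj, S.w_isV.2, h1w, S.σ_mul, S.w_isV.2, hV0.2, show (h₀ : G) * h₁ * S.w *
        ((h₀ : G) * h₁)⁻¹ = h₀ * ((h₁ : G) * S.w * (h₁ : G)⁻¹) * (h₀ : G)⁻¹ by group, h1w,
        ← conj_mul, hh0.1, hcent']
    have he' : S.σ h₁ * S.e * (S.σ h₁)⁻¹ = (h₀ : G) * h₁ * S.e * ((h₀ : G) * h₁)⁻¹ := by
      rw [hconj, S.σ_e, ← conj_mul, e1, h1w, S.σ_mul, S.σ_e, S.σ_mul, S.w_isV.2, hV0.2,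
        show (h₀ : G) * h₁ * S.e * ((h₀ : G) * h₁)⁻¹ =
          h₀ * ((h₁ : G) * S.e * (h₁ : G)⁻¹) * (h₀ : G)⁻¹ by group, e1, h0e, ← mul_assoc,
        mul_assoc S.e, S.sqE _ S.w_isV.1, mul_one]
    refine eq_on_E hV0 h01 h0w ?_ ?_ (h0fix _)
    · calc (S.σ h₁)⁻¹ * ((h₀ : G) * h₁) * S.e
          = (S.σ h₁)⁻¹ * ((h₀ : G) * h₁ * S.e * ((h₀ : G) * h₁)⁻¹) * ((h₀ : G) * h₁) := by group
        _ = (S.σ h₁)⁻¹ * (S.σ h₁ * S.e * (S.σ h₁)⁻¹) * ((h₀ : G) * h₁) := by rw [he']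
        _ = S.e * ((S.σ h₁)⁻¹ * ((h₀ : G) * h₁)) := by group
    · calc (S.σ h₁)⁻¹ * ((h₀ : G) * h₁) * S.w
          = (S.σ h₁)⁻¹ * ((h₀ : G) * h₁ * S.w * ((h₀ : G) * h₁)⁻¹) * ((h₀ : G) * h₁) := by group
        _ = (S.σ h₁)⁻¹ * (S.σ h₁ * S.w * (S.σ h₁)⁻¹) * ((h₀ : G) * h₁) := by rw [hw']
        _ = S.w * ((S.σ h₁)⁻¹ * ((h₀ : G) * h₁)) := by group
  have hx0 : (h₀ : G)⁻¹ * S.σ h₀ ∈ S.C := by
    have hw' : S.σ h₀ * S.w * (S.σ h₀)⁻¹ = (h₀ : G) * S.w * (h₀ : G)⁻¹ := by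
      rw [hconj, S.w_isV.2, hh0.1, S.w_isV.2]
    have he' : S.σ h₀ * S.e * (S.σ h₀)⁻¹ = (h₀ : G) * S.e * (h₀ : G)⁻¹ := by
      rw [hconj, S.σ_e, ← conj_mul, h0e, hh0.1, S.σ_mul, S.σ_mul, S.σ_e, S.w_isV.2, hV0.2,
        mul_assoc (S.e * S.w), S.commE _ hV0.1 _ S.w_isV.1, ← mul_assoc, mul_assoc S.e,
        S.sqE _ S.w_isV.1, mul_one]
    refine eq_on_E hV0 h01 h0w ?_ ?_ (h0fix _)
    · calc (h₀ : G)⁻¹ * S.σ h₀ * S.e
          = (h₀ : G)⁻¹ * (S.σ h₀ * S.e * (S.σ h₀)⁻¹) * S.σ h₀ := by group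
        _ = (h₀ : G)⁻¹ * ((h₀ : G) * S.e * (h₀ : G)⁻¹) * S.σ h₀ := by rw [he']
        _ = S.e * ((h₀ : G)⁻¹ * S.σ h₀) := by group
    · calc (h₀ : G)⁻¹ * S.σ h₀ * S.w
          = (h₀ : G)⁻¹ * (S.σ h₀ * S.w * (S.σ h₀)⁻¹) * S.σ h₀ := by group
        _ = (h₀ : G)⁻¹ * ((h₀ : G) * S.w * (h₀ : G)⁻¹) * S.σ h₀ := by rw [hw']
        _ = S.w * ((h₀ : G)⁻¹ * S.σ h₀) := by group
  have hh00 : (h₀ : G) * h₀ ∈ S.C := by
    refine eq_on_E hV0 h01 h0w ?_ ?_ (h0fix _)
    · refine mul_inv_eq_iff_eq_mul.mp ?_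
      rw [show (h₀ : G) * h₀ * S.e * ((h₀ : G) * h₀)⁻¹ =
        h₀ * ((h₀ : G) * S.e * (h₀ : G)⁻¹) * (h₀ : G)⁻¹ by group, h0e, ← conj_mul, h0e, hcent',
        mul_assoc, S.sqE _ hV0.1, mul_one]
    · refine mul_inv_eq_iff_eq_mul.mp ?_
      rw [show (h₀ : G) * h₀ * S.w * ((h₀ : G) * h₀)⁻¹ =
        h₀ * ((h₀ : G) * S.w * (h₀ : G)⁻¹) * (h₀ : G)⁻¹ by group, hh0.1, hh0.1]
  -- modulo `E`
  set π := QuotientGroup.mk' S.E with hπ
  have hπE : ∀ x : G, π x = 1 ↔ x ∈ S.E := fun x => QuotientGroup.eq_one_iff x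
  have hπC : ∀ x ∈ S.C, π x ∈ zpowers (π c) := by
    intro x hx
    obtain ⟨e, he, j, rfl⟩ := hgen x hx
    rw [map_mul, (hπE e).mpr he, one_mul, map_zpow]
    exact zpow_mem (mem_zpowers _) j
  have hσc : π (S.σ c) = (π c)⁻¹ := by
    have := (hπE _).mpr (S.mul_σ_mem hc hu.comm).1
    rw [map_mul] at this
    exact (inv_eq_of_mul_eq_one_right this).symm
  have hσz : ∀ j : ℤ, π (S.σ (c ^ j)) = (π c ^ j)⁻¹ := fun j => by
    rw [S.σ_zpow, map_zpow, hσc, inv_zpow]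
  -- `h₀` centralizes `C / E`
  obtain ⟨i1, hi1⟩ := mem_zpowers_iff.mp
    (hπC _ (S.normalC.conj_mem c hc (h₁ : G)))
  obtain ⟨m1, hm1⟩ := mem_zpowers_iff.mp
    (hπC _ (S.normalC.conj_mem c hc (h₁ : G)⁻¹))
  set p := π ((h₁ : G) * c * (h₁ : G)⁻¹) with hp
  have hh0p : π (h₀ : G) * p * (π (h₀ : G))⁻¹ = p := by
    obtain ⟨k, hk, hkeq⟩ : ∃ k ∈ S.C, (h₀ : G) * h₁ = S.σ h₁ * k :=
      ⟨_, hk1, (mul_inv_cancel_left _ _).symm⟩
    have h1 : π (h₀ : G) * p * (π (h₀ : G))⁻¹ = π ((h₀ : G) * h₁ * c * ((h₀ : G) * h₁)⁻¹) := by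
      rw [hp, ← map_inv, ← map_mul, ← map_mul]; congr 1; group
    have hkc : k * c * k⁻¹ = c := by
      rw [(cyclic_comm hc hgen hk hc).eq, mul_inv_cancel_right]
    have h2 : (h₀ : G) * h₁ * c * ((h₀ : G) * h₁)⁻¹ = S.σ h₁ * c * (S.σ h₁)⁻¹ := by
      rw [hkeq, show S.σ h₁ * k * c * (S.σ h₁ * k)⁻¹ = S.σ h₁ * (k * c * k⁻¹) * (S.σ h₁)⁻¹
        by group, hkc]
    rw [h1, h2, hconj]
    -- `σ` inverts modulo `E`
    obtain ⟨e, he, j, hj⟩ := hgen _ (S.normalC.conj_mem _ (S.σ_C hc) (h₁ : G))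
    have hjp : π c ^ j = p⁻¹ := by
      have h3 : π ((h₁ : G) * S.σ c * (h₁ : G)⁻¹) = p⁻¹ := by
        rw [hp, map_mul, map_mul, hσc, ← map_inv π ((h₁ : G) * c * (h₁ : G)⁻¹)]
        simp only [mul_inv_rev, inv_inv, map_mul, map_inv, mul_assoc]
      rw [hj, map_mul, (hπE e).mpr he, one_mul, map_zpow] at h3
      exact h3
    rw [hj, S.σ_mul, map_mul, (hπE _).mpr (S.σ_E he), one_mul, hσz, hjp, inv_inv]
  have hh0c : Commute (π (h₀ : G)) (π c) := by
    have hpc : π c = p ^ m1 := by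
      have hm : π c = π (h₁ : G) * (π c ^ m1) * (π (h₁ : G))⁻¹ := by
        rw [hm1, ← map_inv, ← map_mul, ← map_mul]; congr 1; group
      rw [hm, ← conj_zpow, hp]
      simp only [map_mul, map_inv]
    rw [hpc]
    exact (show Commute (π (h₀ : G)) p from mul_inv_eq_iff_eq_mul.mp hh0p).zpow_right m1
  -- the square of `h₀`
  have hsq0 : ((h₀ * h₀ : H) : G) ∈ zpowers (c ^ 2) := hsqmem _ (mem_subgroupOf.mpr (by
    rw [coe_mul]; exact hh00)) (hK h₀)
  obtain ⟨n, hn⟩ := mem_zpowers_iff.mp hsq0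
  obtain ⟨e, he, m, hm⟩ := hgen _ hx0
  set hi0 := π (h₀ : G) with hhi0
  have hx : π (S.σ h₀) = hi0 * π c ^ m := by
    rw [show S.σ (h₀ : G) = h₀ * ((h₀ : G)⁻¹ * S.σ h₀) from (mul_inv_cancel_left _ _).symm, hm,
      map_mul, map_mul, (hπE e).mpr he, one_mul, map_zpow]
  have hh2 : hi0 * hi0 = π c ^ (2 * n) := by
    rw [hhi0, ← map_mul, ← coe_mul, ← hn, map_zpow, map_pow, ← zpow_natCast (π c) 2, ← zpow_mul]
    norm_cast
  have hrel : π c ^ (2 * m + 4 * n) = 1 := by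
    have h1 : π (S.σ h₀) * π (S.σ h₀) = (π c ^ (2 * n))⁻¹ := by
      rw [← map_mul, ← S.σ_mul, ← coe_mul, ← hn, ← zpow_natCast c 2, ← zpow_mul, hσz]
      norm_cast
    rw [hx] at h1
    have h2 : hi0 * π c ^ m * (hi0 * π c ^ m) = hi0 * hi0 * (π c ^ m * π c ^ m) := by
      rw [mul_assoc hi0, ← mul_assoc (π c ^ m), ← (hh0c.zpow_right m).eq]
      simp only [mul_assoc]
    rw [h2, hh2, ← zpow_add, ← zpow_add] at h1
    have h3 : π c ^ (2 * n + (m + m)) * π c ^ (2 * n) = 1 := by rw [h1, inv_mul_cancel]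
    rw [← zpow_add] at h3
    rw [← h3]
    congr 1
    ring
  obtain ⟨j, rfl | rfl⟩ := Int.even_or_odd' m
  swap
  · refine zpow_odd_ne_one (S.isTwo.to_quotient S.E)
      (fun h => hc2 ((hπE _).mp (by rw [map_pow]; exact h))) (j + n) ?_
    rw [← zpow_natCast (π c) 2, ← zpow_mul, ← hrel]
    congr 1
    push_cast
    ring
  -- an element commuting with `a` modulo `E`
  set g := (h₀ : G) * c ^ j with hg
  have hgπ : π (S.σ g) = π g := by
    rw [hg, S.σ_mul, map_mul, map_mul, hx, hσz, mul_assoc, ← zpow_neg, ← zpow_add, map_zpow]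
    congr 2
    ring
  obtain ⟨q, hq1, hq2⟩ := exists_order_two_power (S.isTwo.to_quotient S.E)
    (v := π c) (fun h => hc2 (pow_mem ((hπE c).mp h) 2))
  refine S.no_extra (g := g) (z := c ^ q) ?_ ?_ ?_ ?_ (pow_mem hc q)
    (fun h => hq1 (by rw [← map_pow]; exact (hπE _).mpr h)) ?_
  · intro v hv
    have hcv : Commute (c ^ j) v := (S.comm_C (zpow_mem hc j) hv.1).symm
    have hh0v : Commute (h₀ : G) v := by
      rcases S.cases_V hv hV0 h01 h0w with h | h | h | h <;> subst h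
      · exact Commute.one_right _
      · exact mul_inv_eq_iff_eq_mul.mp hh0.1
      · exact h0fix _
      · exact (show Commute (h₀ : G) S.w from mul_inv_eq_iff_eq_mul.mp hh0.1).mul_right (h0fix _)
    exact hh0v.mul_left hcv
  · intro hgC
    have : (h₀ : G) ∈ S.C := by
      have := mul_mem hgC (inv_mem (zpow_mem hc j))
      rwa [hg, mul_inv_cancel_right] at this
    exact hh0.2 (by rw [← this S.e S.e_mem, mul_inv_cancel_right])
  · intro hgaC
    have h := hgaC S.e S.e_mem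
    have hge : g * S.e * g⁻¹ = S.e * e₀ := by
      rw [hg, show (h₀ : G) * c ^ j * S.e * ((h₀ : G) * c ^ j)⁻¹ =
        (h₀ : G) * (c ^ j * S.e * (c ^ j)⁻¹) * (h₀ : G)⁻¹ by group,
        ← S.comm_C (zpow_mem hc j) S.e_mem, mul_inv_cancel_right, h0e]
    have hgw : g * S.w * g⁻¹ = S.w := by
      rw [hg, show (h₀ : G) * c ^ j * S.w * ((h₀ : G) * c ^ j)⁻¹ =
        (h₀ : G) * (c ^ j * S.w * (c ^ j)⁻¹) * (h₀ : G)⁻¹ by group,
        ← S.comm_C (zpow_mem hc j) S.w_isV.1, mul_inv_cancel_right, hh0.1]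
    have h2 : g * S.σ S.e * g⁻¹ = S.e := by
      calc g * S.σ S.e * g⁻¹ = g * S.a * S.e * (g * S.a)⁻¹ := by
            rw [mul_inv_rev g S.a, S.a_inv]; simp only [Eight.σ, mul_assoc]
        _ = S.e := by rw [← h, mul_inv_cancel_right]
    rw [S.σ_e, ← conj_mul, hge, hgw, mul_assoc] at h2
    refine h0w ?_
    have h3 : e₀ * S.w = 1 := mul_eq_left.mp h2
    rw [eq_inv_of_mul_eq_one_left h3, S.inv_E S.w_isV.1]
  · refine (hπE _).mp ?_
    rw [map_mul, map_inv, hgπ, inv_mul_cancel]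
  · refine (hπE _).mp ?_
    rw [map_mul, map_inv, ← zpow_natCast, hσz, map_zpow, zpow_natCast, ← mul_inv_rev, ← sq, hq2,
      inv_one]

/-- The case `c² ∈ E`. -/
theorem index_le_cyclic_short (hc2 : c ^ 2 ∈ S.E) {H : Subgroup G} (K : Subgroup H)
    (hK : ∀ x : H, x * x ∈ K) : K.index ≤ 16 := by
  classical
  haveI := S.normalC
  haveI := S.normalE
  haveI : Fact (Nat.Prime 2) := ⟨Nat.prime_two⟩
  haveI := FourGenerator.normal_of_sq K hK
  have hcoset : ∀ x ∈ S.C, x ∈ S.E ∨ c⁻¹ * x ∈ S.E := by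
    intro x hx
    obtain ⟨e, he, i, rfl⟩ := hgen x hx
    obtain ⟨j, rfl | rfl⟩ := Int.even_or_odd' i
    · left
      rw [zpow_mul]
      exact mul_mem he (zpow_mem (show c ^ (2 : ℤ) ∈ S.E by rw [zpow_two, ← sq]; exact hc2) j)
    · right
      rw [zpow_add_one, zpow_mul]
      have h := mul_mem he (zpow_mem (show c ^ (2 : ℤ) ∈ S.E by rw [zpow_two, ← sq]; exact hc2) j)
      have h2 := S.normalE.conj_mem _ h c⁻¹
      simpa [mul_assoc] using h2
  have hC16 : Nat.card S.C ≤ 16 := by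
    have h1 : S.E.relIndex S.C ≤ 2 := by
      refine (relIndex_le_card S.E S.C (fun g => decide (g ∈ S.E)) Finset.univ
        (fun g _ => Finset.mem_univ _) fun g hg h hh e => ?_).trans (by simp)
      simp only [decide_eq_decide] at e
      rcases hcoset g hg with h1 | h1
      · exact mul_mem (inv_mem h1) (e.mp h1)
      · rcases hcoset h hh with h2 | h2
        · exact mul_mem (inv_mem (e.mpr h2)) h2
        · have := mul_mem (inv_mem h1) h2
          rwa [mul_inv_rev, inv_inv, mul_assoc, mul_inv_cancel_left] at this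
    rw [← card_mul_index (S.E.subgroupOf S.C), Nat.card_congr (subgroupOfEquivOfLe S.E_le_C).toEquiv,
      S.cardE]
    exact (Nat.mul_le_mul_left 8 h1).trans le_rfl
  rw [index_eq_mul S.C K hK]
  set T := S.C.subgroupOf H with hT
  have hr := (quot_le_four S.E S.isTwo S.cardE S.commE S.sqE).2 H K hK
  change (K ⊔ T).index ≤ 4 at hr
  let ι : T → S.C := fun t => ⟨((t : H) : G), mem_subgroupOf.mp t.2⟩
  have hι : Function.Injective ι := fun x y e =>
    Subtype.ext (Subtype.ext (congrArg (fun u : S.C => (u : G)) e))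
  have hTC : Nat.card T ≤ 16 := (Nat.card_le_card_of_injective ι hι).trans hC16
  have hidx : Nat.card (K.subgroupOf T) * K.relIndex T = Nat.card T := card_mul_index _
  have hpos : 0 < Nat.card (K.subgroupOf T) := Nat.card_pos
  obtain ⟨k, hk⟩ := FourGenerator.exists_pow_two ((S.isTwo.to_subgroup H).to_subgroup T)
    (K.subgroupOf T)
  change K.relIndex T = 2 ^ k at hk
  have hm : K.relIndex T ≤ 16 := ((Nat.le_mul_of_pos_left _ hpos).trans hidx.le).trans hTC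
  by_cases hr1 : (K ⊔ T).index ≤ 1
  · exact (Nat.mul_le_mul hr1 hm).trans le_rfl
  have hout : ∃ h : H, (h : G) ∉ S.C := by
    by_contra! h
    refine hr1 (le_of_eq (index_eq_one.mpr (eq_top_iff.mpr fun x _ => mem_sup_right ?_)))
    exact mem_subgroupOf.mpr (h x)
  have hcommT : ∀ h : H, ∀ t ∈ T, h * t * h⁻¹ * t⁻¹ ∈ T := fun h t ht =>
    mul_mem (Normal.conj_mem normal_subgroupOf t ht h) (inv_mem ht)
  -- trivial intersection with `K`
  have htriv : Nat.card (K.subgroupOf T) = 1 →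
      (∀ h : H, ∀ t ∈ T, h * t = t * h) ∧ ∀ t ∈ T, t * t = 1 := by
    intro h1
    have hone : ∀ x ∈ T, x ∈ K → x = 1 := fun x hx hxK => congrArg (fun u : T => (u : H))
      ((mem_bot).mp ((K.subgroupOf T).eq_bot_of_card_eq h1 ▸
        (mem_subgroupOf.mpr hxK : (⟨x, hx⟩ : T) ∈ K.subgroupOf T)))
    refine ⟨fun h t ht => mul_inv_eq_iff_eq_mul.mp (mul_inv_eq_one.mp ?_),
      fun t ht => hone _ (mul_mem ht ht) (hK t)⟩
    exact hone _ (hcommT h t ht) (comm_mem_of_sq K hK h t)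
  have hsurj : 16 ≤ Nat.card T → ∀ x ∈ S.C, ∃ t ∈ T, (t : G) = x := by
    intro h16 x hx
    obtain ⟨t, ht⟩ := ((Nat.bijective_iff_injective_and_card ι).mpr
      ⟨hι, le_antisymm (Nat.card_le_card_of_injective ι hι) (hC16.trans h16)⟩).2 ⟨x, hx⟩
    exact ⟨t, t.2, congrArg (fun u : S.C => (u : G)) ht⟩
  have hm8 : K.relIndex T ≤ 8 := by
    by_contra h
    have h16 : 16 ≤ K.relIndex T := by
      by_contra h'
      exact h ((FourGenerator.le_of_pow_two hk (not_le.mp h')).2.2 rfl)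
    have h1 : Nat.card (K.subgroupOf T) = 1 := by
      have := (Nat.mul_le_mul_left (Nat.card (K.subgroupOf T)) h16).trans hidx.le
      omega
    obtain ⟨h', hh'⟩ := hout
    refine hh' fun x hx => ?_
    obtain ⟨t, ht, rfl⟩ := hsurj (by rw [← hidx, h1, one_mul]; exact h16) x (S.E_le_C hx)
    simpa using congrArg Subtype.val ((htriv h1).1 h' t ht).symm
  by_cases hr2 : (K ⊔ T).index ≤ 2
  · exact (Nat.mul_le_mul hr2 hm8).trans le_rfl
  by_cases h8 : 8 ≤ K.relIndex T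
  swap
  · exact (Nat.mul_le_mul hr ((FourGenerator.le_of_pow_two hk (not_le.mp h8)).2.1 rfl)).trans le_rfl
  exfalso
  obtain ⟨i, hi⟩ := FourGenerator.exists_pow_two (S.isTwo.to_subgroup H) (K ⊔ T)
  have hr4 : 4 ≤ S.C.relIndex H := by
    have h := Nat.le_of_dvd (Nat.pos_of_ne_zero (index_ne_zero_of_finite (H := T)))
      (index_dvd_of_le (le_sup_right : T ≤ K ⊔ T))
    have h4 : 4 ≤ (K ⊔ T).index := by
      rw [hi] at hr2 ⊢
      exact le_trans (show 4 ≤ 2 ^ 2 from le_rfl) (Nat.pow_le_pow_right (Nat.succ_pos 1) (by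
        by_contra h'
        exact hr2 ((Nat.pow_le_pow_right (Nat.succ_pos 1) (show i ≤ 1 by omega)).trans le_rfl)))
    exact h4.trans h
  -- `H C` is normal
  haveI hHCn : (H ⊔ S.C).Normal := by
    have h1 := relIndex_mul_index (le_sup_right : S.C ≤ H ⊔ S.C)
    rw [relIndex_sup_right] at h1
    have h2 := (quot_le_four S.E S.isTwo S.cardE S.commE S.sqE).1
    change S.C.index ≤ 8 at h2
    have h3 : (H ⊔ S.C).index ≤ 2 := Nat.le_of_mul_le_mul_left
      (show 4 * (H ⊔ S.C).index ≤ 4 * 2 from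
        ((Nat.mul_le_mul_right _ hr4).trans h1.le).trans h2) (by omega)
    have h4 : (H ⊔ S.C).index ≠ 0 := index_ne_zero_of_finite
    rcases Nat.lt_or_ge (H ⊔ S.C).index 2 with hlt | hge
    · rw [index_eq_one.mp (show (H ⊔ S.C).index = 1 by omega)]; infer_instance
    · exact normal_of_index_eq_two (le_antisymm h3 hge)
  have hσH : ∀ h : H, ∃ h' : H, ∃ k ∈ S.C, S.σ h = h' * k := by
    intro h
    have h1 : S.σ h ∈ H ⊔ S.C := by
      rw [S.σ_eq_conj]; exact hHCn.conj_mem _ (mem_sup_left h.2) _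
    obtain ⟨x, hx, k, hk, e⟩ := mem_sup_of_normal_right.mp h1
    exact ⟨⟨x, hx⟩, k, hk, e.symm⟩
  have hcC : ∀ x y, x ∈ S.C → y ∈ S.C → x * y = y * x := fun x y hx hy =>
    cyclic_comm hc hgen hx hy
  have hCconj : ∀ k x, k ∈ S.C → x ∈ S.C → k * x * k⁻¹ = x := fun k x hk hx => by
    rw [hcC k x hk hx, mul_inv_cancel_right]
  obtain ⟨v, hv⟩ := show ∃ v, S.IsV v ∧ v ≠ 1 ∧ v ≠ S.w from by
    by_contra! hno
    obtain ⟨e', w', -, -, -, -, -, -, -, v', hv', hv1', hvw'⟩ := S.exists_frame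
    have hV : ∀ x, S.IsV x → x = 1 ∨ x = S.w := fun x hx => by
      by_cases hx1 : x = 1
      · exact Or.inl hx1
      · exact Or.inr (hno x hx hx1)
    rcases hV v' hv' with h | h
    · exact hv1' h
    · obtain ⟨e'', w'', -, -, hw'', hw1'', -, -, hcases, -⟩ := S.exists_frame
      -- all fixed points lie in `⟨w⟩`, so there are only two of them
      have h8 := S.cardE
      have : Nat.card S.E ≤ 4 := by
        refine (Nat.card_le_card_of_injective (fun x : S.E =>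
          (decide (S.IsV x), decide ((x : G) = 1 ∨ (x : G) * S.e = 1))) fun x y e => ?_).trans
            (by simp)
        simp only [Prod.mk.injEq, decide_eq_decide] at e
        refine Subtype.ext ?_
        have hne : ∀ z : S.E, ¬ S.IsV z → S.IsV ((z : G) * S.e) := fun z hz =>
          (S.coset_e z.2).resolve_left hz
        have hval : ∀ z : S.E, S.IsV z → ((z : G) = 1 ∨ (z : G) * S.e = 1) → (z : G) = 1 := by
          intro z hz hz'
          refine hz'.resolve_right fun h => S.e_nV ?_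
          rw [← inv_eq_of_mul_eq_one_right h, S.inv_E z.2]
          exact hz
        have hval2 : ∀ z : S.E, ¬ S.IsV z → ((z : G) = 1 ∨ (z : G) * S.e = 1) →
            (z : G) * S.e = 1 := by
          intro z hz hz'
          exact hz'.resolve_left fun h => hz (h ▸ ⟨S.E.one_mem, S.σ_one⟩)
        by_cases hx : S.IsV x
        · have hy := e.1.mp hx
          rcases hV _ hx with hx1 | hx1 <;> rcases hV _ hy with hy1 | hy1
          · rw [hx1, hy1]
          · rw [hx1]; exact (hval y hy (e.2.mp (Or.inl hx1))).symm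
          · rw [hy1]; exact hval x hx (e.2.mpr (Or.inl hy1))
          · rw [hx1, hy1]
        · have hy : ¬ S.IsV y := fun h => hx (e.1.mpr h)
          rcases hV _ (hne x hx) with hx1 | hx1 <;> rcases hV _ (hne y hy) with hy1 | hy1
          · exact mul_right_cancel (hx1.trans hy1.symm)
          · exact mul_right_cancel (hx1.trans (hval2 y hy (e.2.mp (Or.inr hx1))).symm)
          · exact mul_right_cancel ((hval2 x hx (e.2.mpr (Or.inr hy1))).trans hy1.symm)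
          · exact mul_right_cancel (hx1.trans hy1.symm)
      omega
  obtain ⟨hv, hv1, hvw⟩ := hv
  by_cases hK1 : Nat.card (K.subgroupOf T) = 1
  · -- `H` centralizes an elementary subgroup `T` of `C` of order eight
    obtain ⟨hcent, hinv⟩ := htriv hK1
    have hT8 : 8 ≤ Nat.card T := by rw [← hidx, hK1, one_mul]; exact h8
    have hTcent : ∀ t ∈ T, ∀ h : H, (h : G) * t * (h : G)⁻¹ = t := fun t ht h => by
      have := congrArg Subtype.val (hcent h t ht)
      simp only [coe_mul] at this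
      rw [this, mul_inv_cancel_right]
    let TG : Subgroup G := T.map H.subtype
    have hTGC : TG ≤ S.C := by rintro _ ⟨t, ht, rfl⟩; exact mem_subgroupOf.mp ht
    have hTG8 : 8 ≤ Nat.card TG := by
      rwa [Nat.card_congr (T.equivMapOfInjective _ H.subtype_injective).toEquiv.symm]
    have hbigger : ∀ x ∈ S.C, (∀ h : H, (h : G) * x * (h : G)⁻¹ = x) → x ∈ TG := by
      intro x hx hfix
      by_contra hxT
      have h1 := two_mul_card_le (left_lt_sup.mpr fun h => hxT (h (mem_zpowers x)) :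
        TG < TG ⊔ zpowers x)
      have heq : TG ⊔ zpowers x = S.C :=
        eq_of_le_of_card_ge (sup_le hTGC (zpowers_le.mpr hx)) (by omega)
      obtain ⟨h, hh⟩ := hout
      refine hh fun y hy => ?_
      have hle : TG ⊔ zpowers x ≤ centralizer {(h : G)} := by
        refine sup_le ?_ (zpowers_le.mpr (mem_centralizer_singleton_iff.mpr
          (mul_inv_eq_iff_eq_mul.mp (hfix h)).symm))
        rintro _ ⟨t, ht, rfl⟩
        exact mem_centralizer_singleton_iff.mpr (mul_inv_eq_iff_eq_mul.mp (hTcent t ht h)).symm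
      rw [heq] at hle
      exact mem_centralizer_singleton_iff.mp (hle (S.E_le_C hy))
    have hσT : ∀ t ∈ TG, S.σ t ∈ TG := by
      rintro _ ⟨t, ht, rfl⟩
      refine hbigger _ (S.σ_C (mem_subgroupOf.mp ht)) fun h => ?_
      obtain ⟨h', k, hk, e⟩ := hσH h
      have e2 : (h : G) = S.σ h' * S.σ k := by rw [← S.σ_mul, ← e, S.σ_σ]
      change (h : G) * S.σ t * (h : G)⁻¹ = S.σ t
      rw [e2, mul_inv_rev]
      calc S.σ h' * S.σ k * S.σ (t : G) * ((S.σ k)⁻¹ * (S.σ h')⁻¹)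
          = S.σ h' * (S.σ k * S.σ (t : G) * (S.σ k)⁻¹) * (S.σ h')⁻¹ := by group
        _ = S.σ ((h' : G) * t * (h' : G)⁻¹) := by
          rw [hCconj _ _ (S.σ_C hk) (S.σ_C (mem_subgroupOf.mp ht)), S.σ_mul, S.σ_mul, S.σ_inv]
        _ = S.σ t := by rw [hTcent t ht h']
    have hTsq : ∀ x ∈ TG, x * x = 1 := by
      rintro _ ⟨t, ht, rfl⟩
      simpa using congrArg Subtype.val (hinv t ht)
    -- the fixed points lie in `TG`
    have hVT : ∀ x, S.IsV x → x ∈ TG := by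
      by_contra! hno
      obtain ⟨x, hx, hxT⟩ := hno
      let φ : TG →* TG := MonoidHom.mk' (fun t => ⟨t * S.σ t, mul_mem t.2 (hσT t t.2)⟩)
        fun p q => Subtype.ext (by
          change (p : G) * q * S.σ (p * q) = p * S.σ p * (q * S.σ q)
          rw [S.σ_mul, mul_assoc, ← mul_assoc (q : G), hcC q (S.σ p) (hTGC q.2)
            (S.σ_C (hTGC p.2))]
          simp only [mul_assoc])
      let F : Subgroup G :=
        { carrier := {y | y ∈ TG ∧ S.IsV y}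
          one_mem' := ⟨TG.one_mem, S.E.one_mem, S.σ_one⟩
          mul_mem' := fun hp hq => ⟨mul_mem hp.1 hq.1, S.isV_mul hp.2 hq.2⟩
          inv_mem' := fun {p} hp => ⟨inv_mem hp.1, by rw [S.inv_E hp.2.1]; exact hp.2⟩ }
      have hF : Nat.card F ≤ 2 := by
        by_contra h
        let s : Finset G := {1, S.w, v, S.w * v}
        have hinj := Nat.card_le_card_of_injective (fun y : F => (⟨(y : G), by
          simp only [s, Finset.mem_insert, Finset.mem_singleton]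
          exact S.cases_V y.2.2 hv hv1 hvw⟩ : s)) fun p q e => Subtype.ext (congrArg
            (fun u : s => (u : G)) e)
        have hsle : s.card ≤ 4 := Finset.card_le_four
        obtain ⟨l, hl⟩ := (S.isTwo.to_subgroup F).exists_card_eq
        have h4 : Nat.card F = 4 := by
          rw [Nat.card_eq_finsetCard] at hinj
          rcases l with _ | _ | _ | l
          · rw [hl] at h; simp at h
          · rw [hl] at h; simp at h
          · simpa using hl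
          · rw [hl] at hinj
            have := Nat.pow_le_pow_right (Nat.succ_pos 1) (show 3 ≤ l + 1 + 1 + 1 by omega)
            norm_num at this
            omega
        obtain ⟨y, hy⟩ := ((Nat.bijective_iff_injective_and_card (fun y : F => (⟨(y : G), by
          simp only [s, Finset.mem_insert, Finset.mem_singleton]
          exact S.cases_V y.2.2 hv hv1 hvw⟩ : s))).mpr ⟨fun p q e => Subtype.ext (congrArg
            (fun u : s => (u : G)) e), by
              rw [h4, Nat.card_eq_finsetCard]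
              refine le_antisymm ?_ hsle
              have := hinj
              rw [h4, Nat.card_eq_finsetCard] at this
              exact this⟩).2 ⟨x, by
          simp only [s, Finset.mem_insert, Finset.mem_singleton]
          exact S.cases_V hx hv hv1 hvw⟩
        have hyx : (y : G) = x := congrArg (fun u : s => (u : G)) hy
        exact hxT (hyx ▸ y.2.1)
      have hfix : ∀ t : TG, S.σ t = t → (t : G) ∈ F := fun t ht =>
        ⟨t.2, S.fixed (hTGC t.2) ht, ht⟩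
      have hk2 : Nat.card φ.ker ≤ Nat.card F := Nat.card_le_card_of_injective
        (fun t => ⟨((t : TG) : G), hfix t (by
          have h' : ((t : TG) : G) * S.σ (t : TG) = 1 := congrArg Subtype.val t.2
          rw [← inv_eq_of_mul_eq_one_right h',
            inv_eq_of_mul_eq_one_left (hTsq _ (t : TG).2)])⟩)
        fun p q e => Subtype.ext (Subtype.ext (congrArg (fun u : F => (u : G)) e))
      have hr2' : Nat.card φ.range ≤ Nat.card F := Nat.card_le_card_of_injective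
        (fun t => ⟨((t : TG) : G), hfix t (by
          obtain ⟨p, hp⟩ := t.2
          have hp' : ((t : TG) : G) = p * S.σ p := congrArg Subtype.val hp.symm
          rw [hp', S.σ_mul, S.σ_σ, hcC _ _ (S.σ_C (hTGC p.2)) (hTGC p.2)])⟩)
        fun p q e => Subtype.ext (Subtype.ext (congrArg (fun u : F => (u : G)) e))
      have h := card_mul_index φ.ker
      rw [index_ker] at h
      have := Nat.mul_le_mul (hk2.trans hF) (hr2'.trans hF)
      omega
    obtain ⟨t₁, ht₁, ht₁E⟩ : ∃ t ∈ T, (t : G) ∉ S.E := by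
      by_contra! hall
      obtain ⟨h, hh⟩ := hout
      refine hh fun x hx => ?_
      have hle : TG ≤ S.E := by rintro _ ⟨t, ht, rfl⟩; exact hall t ht
      have heq := eq_of_le_of_card_ge hle (by rw [S.cardE]; exact hT8.trans (by
        rw [Nat.card_congr (T.equivMapOfInjective _ H.subtype_injective).toEquiv]))
      obtain ⟨t, ht, rfl⟩ := (heq.ge hx : x ∈ TG)
      simpa using congrArg Subtype.val (hcent h t ht).symm
    -- some element of `H` acts as `a`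
    have hVc : ∀ y, S.IsV y → ∀ h : H, (h : G) * y * (h : G)⁻¹ = y := by
      intro y hy h
      obtain ⟨t, ht, rfl⟩ := hVT y hy
      exact hTcent t ht h
    have hdiff : ∀ h : H, S.IsV ((h : G) * S.e * (h : G)⁻¹ * S.e) := by
      intro h
      have hm := S.normalE.conj_mem _ S.e_mem (h : G)
      refine (S.coset_e hm).resolve_left fun hV => S.e_nV ?_
      have h1 := hVc _ hV ⟨(h : G)⁻¹, inv_mem h.2⟩
      simp only [inv_inv] at h1
      rw [show (h : G)⁻¹ * ((h : G) * S.e * (h : G)⁻¹) * (h : G) = S.e by group] at h1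
      rwa [← h1] at hV
    obtain ⟨h, hh⟩ : ∃ h : H, (h : G) * S.e * (h : G)⁻¹ = S.e * S.w := by
      by_contra! hno
      have h3 := relIndex_le_card S.C H (fun g => g * S.e * g⁻¹)
        {S.e, v * S.e, S.w * v * S.e} (fun g hg => by
          simp only [Finset.mem_insert, Finset.mem_singleton]
          have hm := S.normalE.conj_mem _ S.e_mem g
          have hcancel : ∀ y, g * S.e * g⁻¹ * S.e = y → g * S.e * g⁻¹ = y * S.e := fun y e => by
            rw [← e, mul_assoc (g * S.e * g⁻¹) S.e S.e, S.sqE _ S.e_mem, mul_one]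
          rcases S.cases_V (hdiff ⟨g, hg⟩) hv hv1 hvw with e | e | e | e
          · exact Or.inl (by rw [hcancel _ e, one_mul])
          · refine absurd ?_ (hno ⟨g, hg⟩)
            rw [hcancel _ e, S.commE _ S.w_isV.1 _ S.e_mem]
          · exact Or.inr (Or.inl (hcancel _ e))
          · exact Or.inr (Or.inr (hcancel _ e)))
        fun g hg h hh e => S.mem_C_of (by
          calc g⁻¹ * h * S.e = g⁻¹ * (h * S.e * h⁻¹) * h := by group
            _ = g⁻¹ * (g * S.e * g⁻¹) * h := by rw [e]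
            _ = S.e * (g⁻¹ * h) := by group) fun y hy =>
          mul_inv_eq_iff_eq_mul.mp (by
            rw [show g⁻¹ * h * y * (g⁻¹ * h)⁻¹ = g⁻¹ * (h * y * h⁻¹) * g by group,
              hVc y hy ⟨h, hh⟩]
            have := hVc y hy ⟨g⁻¹, inv_mem hg⟩
            simpa using this)
      have := h3.trans Finset.card_le_three
      omega
    have hha : (h : G) * S.a ∈ S.C := by
      refine S.mem_C_of (mul_inv_eq_iff_eq_mul.mp ?_) fun y hy => mul_inv_eq_iff_eq_mul.mp ?_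
      · rw [show (h : G) * S.a * S.e * ((h : G) * S.a)⁻¹ = h * (S.a * S.e * S.a⁻¹) * (h : G)⁻¹
          by group, ← S.σ_eq_conj, S.σ_e, ← conj_mul, hh, hVc _ S.w_isV h, mul_assoc,
          S.sqE _ S.w_isV.1, mul_one]
      · rw [show (h : G) * S.a * y * ((h : G) * S.a)⁻¹ = h * (S.a * y * S.a⁻¹) * (h : G)⁻¹
          by group, ← S.σ_eq_conj, hy.2, hVc y hy h]
    refine ht₁E (S.fixed (mem_subgroupOf.mp ht₁) ?_)
    have h1 := hCconj _ _ hha (mem_subgroupOf.mp ht₁)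
    rw [show (h : G) * S.a * (t₁ : G) * ((h : G) * S.a)⁻¹ = h * (S.a * t₁ * S.a⁻¹) * (h : G)⁻¹
      by group, ← S.σ_eq_conj] at h1
    have h2 : (h : G) * S.σ t₁ * (h : G)⁻¹ = (h : G) * t₁ * (h : G)⁻¹ :=
      h1.trans (hTcent t₁ ht₁ h).symm
    exact mul_left_cancel (mul_right_cancel h2)
  -- `T = C` and `K ⊓ T` of order two
  have hK2 : Nat.card (K.subgroupOf T) = 2 ∧ 16 ≤ Nat.card T := by
    have h1 := (Nat.mul_le_mul_left (Nat.card (K.subgroupOf T)) h8).trans hidx.le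
    have : Nat.card (K.subgroupOf T) = 2 := by omega
    refine ⟨this, ?_⟩
    rw [← hidx, this]
    exact (show 16 ≤ 2 * 8 from le_rfl).trans (Nat.mul_le_mul_left 2 h8)
  obtain ⟨hK2, hT16⟩ := hK2
  obtain ⟨h0', hh0'⟩ := hout
  obtain ⟨x0, hx0, hmove⟩ : ∃ x ∈ S.E, (h0' : G) * x * (h0' : G)⁻¹ * x⁻¹ ≠ 1 := by
    by_contra! hno
    exact hh0' fun x hx => (mul_inv_eq_iff_eq_mul.mp (mul_inv_eq_one.mp (hno x hx))).symm
  set e₀ := (h0' : G) * x0 * (h0' : G)⁻¹ * x0⁻¹ with he₀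
  have he0E : e₀ ∈ S.E := mul_mem (S.normalE.conj_mem _ hx0 _) (inv_mem hx0)
  have hKT : ∀ x : H, x ∈ K → x ∈ T → (x : G) = 1 ∨ (x : G) = e₀ := by
    obtain ⟨t0, ht0, ht0x⟩ := hsurj hT16 x0 (S.E_le_C hx0)
    intro x hxK hxT
    by_contra! hne
    let k0 : K.subgroupOf T := ⟨⟨_, hcommT h0' t0 ht0⟩,
      mem_subgroupOf.mpr (comm_mem_of_sq K hK h0' t0)⟩
    have hk0 : ((((k0 : T)) : H) : G) = e₀ := by simp [k0, he₀, ht0x]
    have h3 := Nat.card_le_card_of_injective (fun i : Fin 3 => if i = 0 then 1 else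
      if i = 1 then k0 else (⟨⟨x, hxT⟩, mem_subgroupOf.mpr hxK⟩ : K.subgroupOf T)) (by
        intro i j hij
        have hij' := congrArg (fun u : K.subgroupOf T => (((u : T) : H) : G)) hij
        fin_cases i <;> fin_cases j <;>
          simp [hk0, hne.1, hne.2, hmove, Ne.symm hne.1, Ne.symm hne.2, Ne.symm hmove] at hij' ⊢)
    simp [hK2] at h3
  have hcomm : ∀ h : H, ∀ x ∈ S.C, (h : G) * x * (h : G)⁻¹ = x ∨
      (h : G) * x * (h : G)⁻¹ = x * e₀ := by
    intro h x hx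
    obtain ⟨t, ht, rfl⟩ := hsurj hT16 x hx
    rcases hKT _ (comm_mem_of_sq K hK h t) (hcommT h t ht) with e | e <;>
      simp only [coe_mul, coe_inv] at e
    · exact Or.inl (mul_inv_eq_one.mp e)
    · right
      rw [mul_inv_eq_iff_eq_mul.mp e]
      exact hcC _ _ (S.E_le_C he0E) hx
  have he0fix : ∀ h : H, (h : G) * e₀ * (h : G)⁻¹ = e₀ := fun h => by
    rcases hcomm h e₀ (S.E_le_C he0E) with e | e
    · exact e
    · rw [S.sqE _ he0E] at e
      exact absurd (conj_eq_one_iff.mp e) hmove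
  have he0V : S.IsV e₀ := by
    refine ⟨he0E, ?_⟩
    obtain ⟨h', k, hk, e⟩ := hσH h0'
    have hσe0 : S.σ e₀ = (h' : G) * S.σ x0 * (h' : G)⁻¹ * (S.σ x0)⁻¹ := by
      rw [he₀, S.σ_mul, S.σ_mul, S.σ_mul, S.σ_inv, S.σ_inv, e, mul_inv_rev]
      calc (h' : G) * k * S.σ x0 * (k⁻¹ * (h' : G)⁻¹) * (S.σ x0)⁻¹
          = (h' : G) * (k * S.σ x0 * k⁻¹) * (h' : G)⁻¹ * (S.σ x0)⁻¹ := by group
        _ = _ := by rw [hCconj _ _ hk (S.σ_C (S.E_le_C hx0))]
    rcases hcomm h' _ (S.σ_C (S.E_le_C hx0)) with e' | e'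
    · rw [e', mul_inv_cancel] at hσe0
      exact absurd (by rw [← S.σ_σ e₀, hσe0, S.σ_one]) hmove
    · rw [hσe0, e', hcC _ _ (S.σ_C (S.E_le_C hx0)) (S.E_le_C he0E), mul_inv_cancel_right]
  obtain ⟨v', hv', hv1', hvw'⟩ : ∃ y, S.IsV y ∧ y ≠ 1 ∧ y ≠ S.w := ⟨v, hv, hv1, hvw⟩
  -- coordinates `(f v, f e)`
  have key : ∀ (g : G), g ∈ H → ∀ (h : G), h ∈ H → ∀ x ∈ S.C,
      (g * x * g⁻¹ = x ↔ h * x * h⁻¹ = x) → (g⁻¹ * h) * x = x * (g⁻¹ * h) := by
    intro g hg h hh x hx hiff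
    have heq : g * x * g⁻¹ = h * x * h⁻¹ := by
      by_cases hx' : g * x * g⁻¹ = x
      · rw [hx', hiff.mp hx']
      · rw [(hcomm ⟨g, hg⟩ x hx).resolve_left hx',
          (hcomm ⟨h, hh⟩ x hx).resolve_left fun h' => hx' (hiff.mpr h')]
    calc (g⁻¹ * h) * x = g⁻¹ * (h * x * h⁻¹) * h := by group
      _ = g⁻¹ * (g * x * g⁻¹) * h := by rw [heq]
      _ = x * (g⁻¹ * h) := by group
  -- a second element of `V`, outside `⟨e₀⟩`
  obtain ⟨v₂, hv₂, hsplit⟩ : ∃ v₂, S.IsV v₂ ∧ ∀ y, S.IsV y →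
      y = 1 ∨ y = e₀ ∨ y = v₂ ∨ y = e₀ * v₂ := by
    by_cases h0w : e₀ = S.w
    · exact ⟨v', hv', fun y hy => h0w.symm ▸ S.cases_V hy hv' hv1' hvw'⟩
    · refine ⟨S.w, S.w_isV, fun y hy => ?_⟩
      rcases S.cases_V hy he0V hmove h0w with e | e | e | e
      · exact Or.inl e
      · exact Or.inr (Or.inr (Or.inl e))
      · exact Or.inr (Or.inl e)
      · exact Or.inr (Or.inr (Or.inr (by rw [e, S.commE _ S.w_isV.1 _ he0E])))
  have hcoord : ∀ g : G, g * e₀ = e₀ * g → g * v₂ = v₂ * g → g * S.e = S.e * g → g ∈ S.C := by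
    intro g h1 h2 h3
    refine S.mem_C_of h3 fun y hy => ?_
    rcases hsplit y hy with e | e | e | e <;> subst e
    · simp
    · exact h1
    · exact h2
    · exact (show Commute g (e₀ * v₂) from Commute.mul_right h1 h2)
  let f : G → Bool × Bool := fun h =>
    (decide (h * v₂ * h⁻¹ = v₂), decide (h * S.e * h⁻¹ = S.e))
  have hval : ∀ p : Bool × Bool, ∃ h : H, f h = p := by
    intro p
    by_contra! hno
    have h3 := relIndex_le_card S.C H f (Finset.univ.erase p)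
      (fun g hg => Finset.mem_erase.mpr ⟨hno ⟨g, hg⟩, Finset.mem_univ _⟩)
      fun g hg h hh e => by
        simp only [f, Prod.mk.injEq, decide_eq_decide] at e
        refine hcoord _ ?_ (key g hg h hh _ (S.E_le_C hv₂.1) e.1)
          (key g hg h hh _ (S.E_le_C S.e_mem) e.2)
        exact key g hg h hh _ (S.E_le_C he0E)
          (iff_of_true (he0fix ⟨g, hg⟩) (he0fix ⟨h, hh⟩))
    rw [Finset.card_erase_of_mem (Finset.mem_univ p), Finset.card_univ,
      show Fintype.card (Bool × Bool) = 4 by simp] at h3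
    omega
  obtain ⟨h₀, hh0⟩ := hval (true, false)
  obtain ⟨h₁, hh1⟩ := hval (false, true)
  simp only [f, Prod.mk.injEq, decide_eq_true_eq, decide_eq_false_iff_not] at hh0 hh1
  have h0e : (h₀ : G) * S.e * (h₀ : G)⁻¹ = S.e * e₀ :=
    (hcomm h₀ _ (S.E_le_C S.e_mem)).resolve_left hh0.2
  have hcE : c ∉ S.E := fun h => hh0' (by
    refine absurd ?_ (show ¬ Nat.card T ≤ 8 by omega)
    refine (Nat.card_le_card_of_injective (fun t : T => (⟨((t : H) : G), by
      obtain ⟨e, he, i, h'⟩ := hgen _ (mem_subgroupOf.mp t.2)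
      rw [h']; exact mul_mem he (zpow_mem h i)⟩ : S.E))
      fun x y e => Subtype.ext (Subtype.ext (congrArg (fun u : S.E => (u : G)) e))).trans S.cardE.le)
  by_cases h0w : e₀ = S.w
  · -- `h₀` acts as `a`
    have hha : (h₀ : G) * S.a ∈ S.C := by
      have hfix : ∀ y, S.σ y = y → (h₀ : G) * y * (h₀ : G)⁻¹ = y →
          (h₀ : G) * S.a * y = y * ((h₀ : G) * S.a) := fun y h1 h2 =>
        mul_inv_eq_iff_eq_mul.mp (by
          rw [show (h₀ : G) * S.a * y * ((h₀ : G) * S.a)⁻¹ = h₀ * (S.a * y * S.a⁻¹) * (h₀ : G)⁻¹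
            by group, ← S.σ_eq_conj, h1, h2])
      refine hcoord _ (hfix _ he0V.2 (he0fix _)) (hfix _ hv₂.2 hh0.1)
        (mul_inv_eq_iff_eq_mul.mp ?_)
      rw [show (h₀ : G) * S.a * S.e * ((h₀ : G) * S.a)⁻¹ = h₀ * (S.a * S.e * S.a⁻¹) * (h₀ : G)⁻¹
          by group, ← S.σ_eq_conj, S.σ_e, ← h0w, ← conj_mul, h0e, he0fix, mul_assoc,
        S.sqE _ he0E, mul_one]
    have h1 := hCconj _ _ hha hc
    rw [show (h₀ : G) * S.a * c * ((h₀ : G) * S.a)⁻¹ = h₀ * (S.a * c * S.a⁻¹) * (h₀ : G)⁻¹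
      by group, ← S.σ_eq_conj] at h1
    obtain ⟨hne1, hnew⟩ := S.diff_ne hc hcE
    rcases hcomm h₀ _ (S.σ_C hc) with e | e <;> rw [e] at h1
    · exact hne1 (by rw [h1, inv_mul_cancel])
    · refine hnew ?_
      have h2 : e₀ = (S.σ c)⁻¹ * c := eq_inv_mul_of_mul_eq h1
      rw [← h0w, ← S.inv_E he0E, h2, mul_inv_rev, inv_inv]
  -- `e₀ ≠ w`; then `v₂` is moved by `h₁` and fixed by `h₀`
  have h1v : (h₁ : G) * v₂ * (h₁ : G)⁻¹ = v₂ * e₀ :=
    (hcomm h₁ _ (S.E_le_C hv₂.1)).resolve_left hh1.1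
  have hwfix : (h₀ : G) * S.w * (h₀ : G)⁻¹ = S.w := by
    rcases hsplit _ S.w_isV with e | e | e | e
    · rw [e]; group
    · rw [e, he0fix]
    · rw [e, hh0.1]
    · rw [e, ← conj_mul, he0fix, hh0.1]
  have hconj : ∀ g x : G, S.σ g * x * (S.σ g)⁻¹ = S.σ (g * S.σ x * g⁻¹) := by
    intro g x
    rw [S.σ_mul, S.σ_mul, S.σ_inv, S.σ_σ]
  set x := (h₀ : G)⁻¹ * S.σ h₀ with hx
  have hσh0 : S.σ (h₀ : G) = h₀ * x := (mul_inv_cancel_left _ _).symm
  have hsolve : ∀ y, S.σ h₀ * y * (S.σ h₀)⁻¹ = (h₀ : G) * y * (h₀ : G)⁻¹ → x * y = y * x := by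
    intro y e
    calc x * y = (h₀ : G)⁻¹ * (S.σ h₀ * y * (S.σ h₀)⁻¹) * S.σ h₀ := by rw [hx]; group
      _ = (h₀ : G)⁻¹ * ((h₀ : G) * y * (h₀ : G)⁻¹) * S.σ h₀ := by rw [e]
      _ = y * x := by rw [hx]; group
  have hxC : x ∈ S.C := by
    refine hcoord _ (hsolve _ ?_) (hsolve _ ?_) (hsolve _ ?_)
    · rw [hconj, he0V.2, he0fix, he0V.2]
    · rw [hconj, hv₂.2, hh0.1, hv₂.2]
    · rw [hconj, S.σ_e, ← conj_mul, h0e, hwfix, S.σ_mul, S.σ_mul, S.σ_e, S.w_isV.2, he0V.2,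
        mul_assoc (S.e * S.w), S.commE _ he0E _ S.w_isV.1, ← mul_assoc, mul_assoc S.e,
        S.sqE _ S.w_isV.1, mul_one]
  by_cases hxE : x ∈ S.E
  · have hσcE : c⁻¹ * S.σ c ∈ S.E :=
      (hcoset _ (S.σ_C hc)).resolve_left fun h => hcE (S.σ_E_iff.mp h)
    refine S.no_extra (g := (h₀ : G)) ?_ ?_ ?_ hxE hc hcE hσcE
    · intro y hy
      refine mul_inv_eq_iff_eq_mul.mp ?_
      rcases hsplit y hy with e | e | e | e <;> subst e
      · group
      · exact he0fix _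
      · exact hh0.1
      · rw [← conj_mul, he0fix, hh0.1]
    · exact fun h => hh0.2 (by rw [← h S.e S.e_mem, mul_inv_cancel_right])
    · intro h
      have h2 : (h₀ : G) * S.σ S.e * (h₀ : G)⁻¹ = S.e := by
        calc (h₀ : G) * S.σ S.e * (h₀ : G)⁻¹ = h₀ * S.a * S.e * ((h₀ : G) * S.a)⁻¹ := by
              rw [mul_inv_rev, S.a_inv]; simp only [Eight.σ, mul_assoc]
          _ = S.e := by rw [← h S.e S.e_mem, mul_inv_cancel_right]
      rw [S.σ_e, ← conj_mul, h0e, hwfix, mul_assoc] at h2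
      exact h0w (by rw [eq_inv_of_mul_eq_one_left (mul_eq_left.mp h2), S.inv_E S.w_isV.1])
  have hxinv : S.σ x = x⁻¹ := by rw [hx, S.inverted_diff]
  have hhh : ((h₀ * h₀ : H) : G) = 1 ∨ ((h₀ * h₀ : H) : G) = e₀ := by
    refine hKT _ (hK h₀) (mem_subgroupOf.mpr ?_)
    rw [coe_mul]
    refine hcoord _ (mul_inv_eq_iff_eq_mul.mp ?_) (mul_inv_eq_iff_eq_mul.mp ?_)
      (mul_inv_eq_iff_eq_mul.mp ?_)
    · rw [show (h₀ : G) * h₀ * e₀ * ((h₀ : G) * h₀)⁻¹ =
        h₀ * ((h₀ : G) * e₀ * (h₀ : G)⁻¹) * (h₀ : G)⁻¹ by group, he0fix, he0fix]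
    · rw [show (h₀ : G) * h₀ * v₂ * ((h₀ : G) * h₀)⁻¹ =
        h₀ * ((h₀ : G) * v₂ * (h₀ : G)⁻¹) * (h₀ : G)⁻¹ by group, hh0.1, hh0.1]
    · rw [show (h₀ : G) * h₀ * S.e * ((h₀ : G) * h₀)⁻¹ =
        h₀ * ((h₀ : G) * S.e * (h₀ : G)⁻¹) * (h₀ : G)⁻¹ by group, h0e, ← conj_mul, h0e, he0fix,
        mul_assoc, S.sqE _ he0E, mul_one]
  have hsqfix : S.σ ((h₀ : G) * h₀) = h₀ * h₀ := by
    rw [← coe_mul]
    rcases hhh with e | e <;> rw [e]
    exacts [S.σ_one, he0V.2]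
  have hinvx : (h₀ : G) * x * (h₀ : G)⁻¹ = x⁻¹ := by
    rw [S.σ_mul, hσh0] at hsqfix
    have h1 : x * ((h₀ : G) * x) = h₀ :=
      mul_left_cancel ((mul_assoc (h₀ : G) x ((h₀ : G) * x)).symm.trans hsqfix)
    -- `x h₀ x = h₀`
    refine mul_inv_eq_iff_eq_mul.mpr ?_
    calc (h₀ : G) * x = x⁻¹ * (x * ((h₀ : G) * x)) := (inv_mul_cancel_left _ _).symm
      _ = x⁻¹ * h₀ := congrArg (x⁻¹ * ·) h1
  -- conjugation by `σ h₁` and by `h₀ h₁` agree on `C`
  have hk1 : (S.σ h₁)⁻¹ * ((h₀ : G) * h₁) ∈ S.C := by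
    have hsame : ∀ y, S.σ h₁ * y * (S.σ h₁)⁻¹ = (h₀ : G) * h₁ * y * ((h₀ : G) * h₁)⁻¹ →
        (S.σ h₁)⁻¹ * ((h₀ : G) * h₁) * y = y * ((S.σ h₁)⁻¹ * ((h₀ : G) * h₁)) := by
      intro y e
      calc (S.σ h₁)⁻¹ * ((h₀ : G) * h₁) * y
          = (S.σ h₁)⁻¹ * ((h₀ : G) * h₁ * y * ((h₀ : G) * h₁)⁻¹) * ((h₀ : G) * h₁) := by group
        _ = (S.σ h₁)⁻¹ * (S.σ h₁ * y * (S.σ h₁)⁻¹) * ((h₀ : G) * h₁) := by rw [e]
        _ = y * ((S.σ h₁)⁻¹ * ((h₀ : G) * h₁)) := by group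
    have hwv : (h₁ : G) * S.w * (h₁ : G)⁻¹ = S.w * e₀ := by
      rcases hsplit _ S.w_isV with e | e | e | e
      · exact absurd e S.w_ne
      · exact absurd e (Ne.symm h0w)
      · rw [e, h1v]
      · rw [e, ← conj_mul, he0fix, h1v, ← mul_assoc]
    have hsp : ∀ y, (h₀ : G) * h₁ * y * ((h₀ : G) * h₁)⁻¹ =
        h₀ * ((h₁ : G) * y * (h₁ : G)⁻¹) * (h₀ : G)⁻¹ := fun y => by group
    refine hcoord _ (hsame _ ?_) (hsame _ ?_) (hsame _ ?_)
    · rw [hconj, he0V.2, he0fix, he0V.2, hsp, he0fix, he0fix]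
    · rw [hconj, hv₂.2, h1v, S.σ_mul, hv₂.2, he0V.2, hsp, h1v, ← conj_mul, hh0.1, he0fix]
    · rw [hconj, S.σ_e, ← conj_mul, hh1.2, hwv, S.σ_mul, S.σ_e, S.σ_mul, S.w_isV.2, he0V.2,
        hsp, hh1.2, h0e, ← mul_assoc, mul_assoc S.e, S.sqE _ S.w_isV.1, mul_one]
  have hsame : S.σ h₁ * x * (S.σ h₁)⁻¹ = (h₀ : G) * h₁ * x * ((h₀ : G) * h₁)⁻¹ := by
    calc S.σ h₁ * x * (S.σ h₁)⁻¹
        = S.σ h₁ * (((S.σ h₁)⁻¹ * ((h₀ : G) * h₁)) * x * ((S.σ h₁)⁻¹ * ((h₀ : G) * h₁))⁻¹) *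
            (S.σ h₁)⁻¹ := by rw [hCconj _ _ hk1 hxC]
      _ = _ := by group
  have hxx : x * x = 1 := by
    rw [hconj, hxinv, show (h₀ : G) * h₁ * x * ((h₀ : G) * h₁)⁻¹ =
      h₀ * ((h₁ : G) * x * (h₁ : G)⁻¹) * (h₀ : G)⁻¹ by group,
      show (h₁ : G) * x⁻¹ * (h₁ : G)⁻¹ = ((h₁ : G) * x * (h₁ : G)⁻¹)⁻¹ by group] at hsame
    rcases hcomm h₁ x hxC with e | e <;> rw [e] at hsame
    · rw [S.σ_inv, hxinv, inv_inv, hinvx] at hsame
      nth_rewrite 2 [hsame]
      exact mul_inv_cancel x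
    · rw [S.σ_inv, S.σ_mul, hxinv, he0V.2, ← conj_mul, hinvx, he0fix, mul_inv_rev, inv_inv,
        S.inv_E he0E, hcC _ _ (S.E_le_C he0E) hxC] at hsame
      have := mul_right_cancel hsame
      nth_rewrite 2 [this]
      exact mul_inv_cancel x
  exact hxE (S.fixed hxC (by rw [hxinv, inv_eq_of_mul_eq_one_left hxx]))

end Eight

end Cfsg.Agent.PGroups.SelfCentEight
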