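import Cfsg.Agent.Lib.PGroups.SelfCentEight.Main

/-!
Two-groups `P` containing `T = D × B`, where `B` is a four-group, `D` has a cyclic subgroup of
index two and every involution of `B` has centralizer `T`.
-/

set_option autoImplicit false

namespace Cfsg.Agent.PGroups.SelfCentEight

open Subgroup

variable {P : Type*} [Group P] [Finite P]

/-- A normal elementary abelian subgroup of order sixteen, of index at most four, on which no
element outside fixes more than four elements. -/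
theorem index_le_of_sixteen (T : Subgroup P) [hTn : T.Normal] (h16 : Nat.card T = 16)
    (hTc : ∀ x ∈ T, ∀ y ∈ T, x * y = y * x)
    (hidx : T.index ≤ 4)
    (hfix : ∀ g, g ∉ T → Nat.card (T ⊓ centralizer {g} : Subgroup P) ≤ 4)
    {H : Subgroup P} (K : Subgroup H) (hK : ∀ x : H, x * x ∈ K) : K.index ≤ 16 := by
  haveI := FourGenerator.normal_of_sq K hK
  rw [index_eq_mul T K hK]
  set T' := T.subgroupOf H with hT'
  have hr : (K ⊔ T').index ≤ 4 := by
    refine le_trans (Nat.le_of_dvd (Nat.pos_of_ne_zero (index_ne_zero_of_finite (H := T')))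
      (index_dvd_of_le le_sup_right)) ?_
    exact le_trans (Nat.le_of_dvd (Nat.pos_of_ne_zero index_ne_zero_of_finite)
      (relIndex_dvd_index_of_normal T H)) hidx
  have hidx' : Nat.card (K.subgroupOf T') * K.relIndex T' = Nat.card T' := card_mul_index _
  have hpos : 0 < Nat.card (K.subgroupOf T') := Nat.card_pos
  by_cases hall : ∀ h : H, (h : P) ∈ T
  · have htop : T' = ⊤ := eq_top_iff.mpr fun h _ => mem_subgroupOf.mpr (hall h)
    have hm : K.relIndex T' ≤ 16 := by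
      refine ((Nat.le_mul_of_pos_left _ hpos).trans hidx'.le).trans ?_
      exact h16 ▸ Nat.card_le_card_of_injective (fun t : T' => (⟨((t : H) : P), t.2⟩ : T))
        fun x y e => Subtype.ext (Subtype.ext (congrArg (fun u : T => (u : P)) e))
    have : (K ⊔ T').index = 1 := index_eq_one.mpr (by rw [htop, sup_top_eq])
    rw [this, one_mul]
    exact hm
  obtain ⟨g, hg⟩ := not_forall.mp hall
  let f : T' → K.subgroupOf T' := fun t =>
    ⟨⟨g * t * g⁻¹ * (t : H)⁻¹, mul_mem (Normal.conj_mem normal_subgroupOf _ t.2 g) (inv_mem t.2)⟩,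
      mem_subgroupOf.mpr (comm_mem_of_sq K hK g t)⟩
  have hle := FourGenerator.card_le_range_mul f (fun t : T' => ((t : H) : P))
    (fun x y e => Subtype.ext (Subtype.ext e)) (T ⊓ centralizer {(g : P)}) fun x y e => by
    have hx : ((x : H) : P) ∈ T := x.2
    have hy : ((y : H) : P) ∈ T := y.2
    refine ⟨mul_mem (T.inv_mem hx) hy, mem_centralizer_singleton_iff.mpr ?_⟩
    have e' : (g : P) * x * (g : P)⁻¹ * ((x : H) : P)⁻¹ = g * y * (g : P)⁻¹ * ((y : H) : P)⁻¹ := by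
      simpa [f] using congrArg (fun u : K.subgroupOf T' => (((u : T') : H) : P)) e
    have hgx : (g : P) * x * (g : P)⁻¹ ∈ T := hTn.conj_mem _ hx _
    have hgy : (g : P) * y * (g : P)⁻¹ ∈ T := hTn.conj_mem _ hy _
    have h1 : (g : P) * ((x : H) : P)⁻¹ * (g : P)⁻¹ * (g * y * (g : P)⁻¹) =
        ((x : H) : P)⁻¹ * y := by
      calc (g : P) * ((x : H) : P)⁻¹ * (g : P)⁻¹ * (g * y * (g : P)⁻¹)
          = ((g : P) * x * (g : P)⁻¹)⁻¹ * (g * y * (g : P)⁻¹ * ((y : H) : P)⁻¹) * y := by group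
        _ = ((g : P) * x * (g : P)⁻¹)⁻¹ * (g * x * (g : P)⁻¹ * ((x : H) : P)⁻¹) * y := by rw [e']
        _ = ((x : H) : P)⁻¹ * y := by group
    refine (mul_inv_eq_iff_eq_mul.mp ?_).symm
    calc (g : P) * (((x : H) : P)⁻¹ * y) * (g : P)⁻¹
        = (g : P) * ((x : H) : P)⁻¹ * (g : P)⁻¹ * (g * y * (g : P)⁻¹) := by group
      _ = ((x : H) : P)⁻¹ * y := h1
  have hr' : Nat.card (Set.range f) ≤ Nat.card (K.subgroupOf T') :=
    Nat.card_le_card_of_injective _ Subtype.val_injective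
  have hm : K.relIndex T' ≤ 4 := Nat.le_of_mul_le_mul_left
    ((hidx'.le.trans hle).trans (Nat.mul_le_mul hr' (hfix _ hg))) hpos
  exact (Nat.mul_le_mul hr hm).trans le_rfl

variable (hP : IsPGroup 2 P) (T B : Subgroup P) (hB4 : Nat.card B = 4) (hBT : B ≤ T)
  (hcent : ∀ b ∈ B, b ≠ 1 → ∀ g, g * b = b * g → g ∈ T)
include hP hB4 hBT hcent

/-- A normal elementary abelian `T` of order sixteen. -/
theorem index_le_normal [hTn : T.Normal] (h16 : Nat.card T = 16)
    (hTc : ∀ x ∈ T, ∀ y ∈ T, x * y = y * x) (hT2 : ∀ x ∈ T, x * x = 1)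
    {H : Subgroup P} (K : Subgroup H) (hK : ∀ x : H, x * x ∈ K) : K.index ≤ 16 := by
  classical
  haveI : Fact (Nat.Prime 2) := ⟨Nat.prime_two⟩
  by_cases htop : T = ⊤
  · refine (Nat.le_of_dvd (by norm_num) ?_)
    have h1 := K.index_dvd_card
    have h2 := Subgroup.card_subgroup_dvd_card H
    rw [show Nat.card P = 16 by rw [← h16, htop, card_top]] at h2
    exact h1.trans h2
  obtain ⟨U, hUn, hUT, hU⟩ := Normal.exists_normal_le_card hP T 3 (by rw [h16]; norm_num)
  haveI := hUn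
  have hU8 : Nat.card U = 8 := by rw [hU]; norm_num
  have hb : ∃ b ∈ U ⊓ B, b ≠ 1 := by
    by_contra! hno
    have := Nat.card_le_card_of_injective (fun p : U × B => (⟨(p.1 : P) * p.2,
      mul_mem (hUT p.1.2) (hBT p.2.2)⟩ : T)) fun p q e => by
        have e' : (p.1 : P) * p.2 = q.1 * q.2 := congrArg (fun u : T => (u : P)) e
        have h2 : (q.1 : P)⁻¹ * p.1 = q.2 * (p.2 : P)⁻¹ := by
          rw [eq_mul_inv_iff_mul_eq, mul_assoc, e', inv_mul_cancel_left]
        have h1 := hno _ ⟨mul_mem (U.inv_mem q.1.2) p.1.2,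
          h2 ▸ mul_mem q.2.2 (B.inv_mem p.2.2)⟩
        rw [h1] at h2
        exact Prod.ext (Subtype.ext (inv_mul_eq_one.mp h1).symm)
          (Subtype.ext (mul_inv_eq_one.mp h2.symm).symm)
    rw [Nat.card_prod, hU8, hB4, h16] at this
    omega
  obtain ⟨b, ⟨hbU, hbB⟩, hb1⟩ := hb
  -- a central element of `U`
  obtain ⟨z, hzU, hz1, -, hzc⟩ := AbelianNormal.exists_step hP (B := (⊥ : Subgroup P))
    (N := U) (bot_lt_iff_ne_bot.mpr fun h => by rw [h, card_bot] at hU8; omega)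
  have hz1' : z ≠ 1 := fun h => hz1 (mem_bot.mpr h)
  have hzb : b ≠ z := fun h => htop (eq_top_iff.mpr fun g _ => hcent b hbB hb1 g (by
    rw [h]; exact mul_inv_eq_iff_eq_mul.mp (mul_inv_eq_one.mp (mem_bot.mp (hzc g)))))
  have hzfix : ∀ g : P, g * z * g⁻¹ = z := fun g => mul_inv_eq_one.mp (mem_bot.mp (hzc g))
  haveI : Fintype (U : Set P) := Fintype.ofFinite _
  let s : Finset P := ((U : Set P).toFinset.erase 1).erase z
  have hUcard : (U : Set P).toFinset.card = 8 := by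
    rw [← hU8, ← Set.ncard_eq_toFinset_card']; rfl
  have hs : s.card = 6 := by
    rw [Finset.card_erase_of_mem (by simpa [hz1'] using hzU),
      Finset.card_erase_of_mem (by simp), hUcard]
  have hidx : T.index ≤ 4 := by
    have h6 : T.index ≤ 6 := by
      rw [← relIndex_top_right]
      refine (relIndex_le_card T ⊤ (fun g => g * b * g⁻¹) s (fun g _ => ?_) fun g _ h _ e => ?_).trans
        hs.le
      · simp only [s, Finset.mem_erase, Set.mem_toFinset, SetLike.mem_coe]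
        refine ⟨fun h => hzb ?_, fun h => hb1 (conj_eq_one_iff.mp h), hUn.conj_mem b hbU g⟩
        exact mul_left_cancel (mul_right_cancel (h.trans (hzfix g).symm))
      · refine hcent b hbB hb1 _ ?_
        calc g⁻¹ * h * b = g⁻¹ * (h * b * h⁻¹) * h := by group
          _ = g⁻¹ * (g * b * g⁻¹) * h := by rw [e]
          _ = b * (g⁻¹ * h) := by group
    obtain ⟨k, hk⟩ := FourGenerator.exists_pow_two hP T
    exact (FourGenerator.le_of_pow_two hk (show T.index < 8 by omega)).2.1 rfl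
  refine index_le_of_sixteen T h16 hTc hidx (fun g hg => ?_) K hK
  have hinj := Nat.card_le_card_of_injective
    (fun p : (T ⊓ centralizer {g} : Subgroup P) × B => (⟨(p.1 : P) * p.2,
      mul_mem p.1.2.1 (hBT p.2.2)⟩ : T)) fun p q e => by
      have e' : (p.1 : P) * p.2 = q.1 * q.2 := congrArg (fun u : T => (u : P)) e
      have h2 : (q.1 : P)⁻¹ * p.1 = q.2 * (p.2 : P)⁻¹ := by
        rw [eq_mul_inv_iff_mul_eq, mul_assoc, e', inv_mul_cancel_left]
      have hm := mul_mem ((T ⊓ centralizer {g} : Subgroup P).inv_mem q.1.2) p.1.2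
      have h1 : (q.1 : P)⁻¹ * p.1 = 1 := by
        by_contra hne
        exact hg (hcent _ (h2 ▸ mul_mem q.2.2 (B.inv_mem p.2.2)) hne g
          (mem_centralizer_singleton_iff.mp hm.2).symm)
      rw [h1] at h2
      exact Prod.ext (Subtype.ext (inv_mul_eq_one.mp h1).symm)
        (Subtype.ext (mul_inv_eq_one.mp h2.symm).symm)
  rw [Nat.card_prod, hB4, h16] at hinj
  omega

/-- The case where `T` is elementary abelian of order sixteen. -/
theorem index_le_elementary (h16 : Nat.card T = 16)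
    (hTc : ∀ x ∈ T, ∀ y ∈ T, x * y = y * x) (hT2 : ∀ x ∈ T, x * x = 1)
    {H : Subgroup P} (K : Subgroup H) (hK : ∀ x : H, x * x ∈ K) : K.index ≤ 16 := by
  classical
  haveI : Fact (Nat.Prime 2) := ⟨Nat.prime_two⟩
  by_cases hnorm : T.Normal
  · exact index_le_normal hP T B hB4 hBT hcent h16 hTc hT2 K hK
  by_cases hno : ∀ A : Subgroup P, A.Normal → IsMulCommutative A → (∀ a ∈ A, a ^ 2 = 1) →
      Nat.card A ≤ 4
  · obtain ⟨S⟩ := FourGenerator.exists_setup hP hno
    exact S.index_le K hK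
  push Not at hno
  obtain ⟨A, hAn, hAc, hA2, hA4⟩ := hno
  haveI := hAn
  have hA8 : 2 ^ 3 ≤ Nat.card A := by
    obtain ⟨k, hk⟩ := (hP.to_subgroup A).exists_card_eq
    rw [hk] at hA4 ⊢
    refine Nat.pow_le_pow_right (Nat.succ_pos 1) ?_
    by_contra h
    exact absurd ((Nat.pow_le_pow_right (Nat.succ_pos 1) (show k ≤ 2 by omega)).trans le_rfl :
      2 ^ k ≤ 4) (not_le.mpr hA4)
  obtain ⟨U, hUn, hUA, hU⟩ := Normal.exists_normal_le_card hP A 3 hA8
  haveI := hUn
  have hU8 : Nat.card U = 8 := by rw [hU]; norm_num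
  have hUc : ∀ x ∈ U, ∀ y ∈ U, x * y = y * x := fun x hx y hy =>
    congrArg Subtype.val (hAc.is_comm.comm ⟨x, hUA hx⟩ ⟨y, hUA hy⟩)
  have hU2 : ∀ x ∈ U, x * x = 1 := fun x hx => by rw [← sq]; exact hA2 x (hUA hx)
  by_cases hself : centralizer (U : Set P) ≤ U
  · exact index_le_of_self U hP hU8 hUc hU2 hself K hK
  exfalso
  apply hnorm
  set C := centralizer (U : Set P) with hC
  haveI : C.Normal := by rw [hC]; infer_instance
  have hinvT : ∀ x ∈ T, x⁻¹ = x := fun x hx => inv_eq_of_mul_eq_one_left (hT2 x hx)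
  have hUT : ¬ U ≤ T := by
    intro hle
    have hb : ∃ b ∈ U ⊓ B, b ≠ 1 := by
      by_contra! hno
      have := Nat.card_le_card_of_injective (fun p : U × B => (⟨(p.1 : P) * p.2,
        mul_mem (hle p.1.2) (hBT p.2.2)⟩ : T)) fun p q e => by
          have e' : (p.1 : P) * p.2 = q.1 * q.2 := congrArg (fun u : T => (u : P)) e
          have h2 : (q.1 : P)⁻¹ * p.1 = q.2 * (p.2 : P)⁻¹ := by
            rw [eq_mul_inv_iff_mul_eq, mul_assoc, e', inv_mul_cancel_left]
          have h1 := hno _ ⟨mul_mem (U.inv_mem q.1.2) p.1.2,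
            h2 ▸ mul_mem q.2.2 (B.inv_mem p.2.2)⟩
          rw [h1] at h2
          exact Prod.ext (Subtype.ext (inv_mul_eq_one.mp h1).symm)
            (Subtype.ext (mul_inv_eq_one.mp h2.symm).symm)
      rw [Nat.card_prod, hU8, hB4, h16] at this
      omega
    obtain ⟨b, ⟨hbU, hbB⟩, hb1⟩ := hb
    refine hnorm ?_
    have : C = T := le_antisymm (fun x hx => hcent b hbB hb1 x (hx b hbU).symm)
      fun t ht u hu => hTc u (hle hu) t ht
    rw [← this]; infer_instance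
  set R := U ⊓ T with hR
  have hbR : ∀ b ∈ B, b ≠ 1 → ∀ u ∈ U, b * u = u * b → u ∈ T := fun b hb hb1 u _ h =>
    hcent b hb hb1 u h.symm
  have hBinv : ∀ b ∈ B, b⁻¹ = b := fun b hb => hinvT b (hBT hb)
  obtain ⟨b₀, hb₀, hb₀1⟩ : ∃ b ∈ B, b ≠ 1 := by
    by_contra! h
    have : B = ⊥ := eq_bot_iff.mpr fun b hb => mem_bot.mpr (h b hb)
    rw [this, card_bot] at hB4
    omega
  have hR4 : Nat.card R = 4 := by
    have h1 := card_le_fixed_sq U hUc hU2 b₀ (hT2 _ (hBT hb₀))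
    have h2 := Subgroup.card_le_of_le (show U ⊓ centralizer {b₀} ≤ R from fun u hu =>
      ⟨hu.1, hbR b₀ hb₀ hb₀1 u hu.1 (mem_centralizer_singleton_iff.mp hu.2).symm⟩)
    have h3 := h1.trans (Nat.pow_le_pow_left h2 2)
    have hlt : Nat.card R < 8 := by
      by_contra h
      exact hUT (inf_eq_left.mp (eq_of_le_of_card_ge inf_le_left (by
        rw [hU8]; exact not_lt.mp h)))
    obtain ⟨k, hk⟩ := (hP.to_subgroup R).exists_card_eq
    have h4 := (FourGenerator.le_of_pow_two hk hlt).2.1 rfl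
    have h5 : 3 ≤ Nat.card R := by
      by_contra h
      have := Nat.pow_le_pow_left (show Nat.card R ≤ 2 by omega) 2
      rw [hU8] at h3
      exact absurd (h3.trans this) (by norm_num)
    by_contra h
    have := (FourGenerator.le_of_pow_two hk (show Nat.card R < 4 by omega)).1 rfl
    omega
  obtain ⟨e, heU, heT⟩ := SetLike.not_le_iff_exists.mp hUT
  have heR : e ∉ R := fun h => heT h.2
  have hRU : R ≤ U := inf_le_left
  have hidxR : (R.subgroupOf U).index = 2 := by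
    have h := card_mul_index (R.subgroupOf U)
    rw [Nat.card_congr (subgroupOfEquivOfLe hRU).toEquiv, hR4, hU8] at h
    omega
  have hUcases : ∀ u ∈ U, u ∈ R ∨ u * e ∈ R := by
    intro u hu
    by_cases huR : u ∈ R
    · exact Or.inl huR
    · have h := mul_mem_iff_of_index_two (H := R.subgroupOf U) hidxR (a := ⟨u, hu⟩) (b := ⟨e, heU⟩)
      simp only [mem_subgroupOf, coe_mul] at h
      exact Or.inr (h.mpr (iff_of_false huR heR))
  -- the subgroup `C ⊓ T` is `R`, and `T = R B`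
  have hgenC : ∀ g, (∀ r ∈ R, g * r = r * g) → g * e = e * g → g ∈ C := by
    intro g hgR hge u hu
    rcases hUcases u hu with h | h
    · exact (hgR u h).symm
    · have h1 : Commute g (u * e) := hgR _ h
      have h2 := h1.mul_right (show Commute g e from hge)
      rw [mul_assoc, hU2 e heU, mul_one] at h2
      exact h2.symm.eq
  have hθ : ∀ t ∈ T, t * e * t⁻¹ * e⁻¹ ∈ R := by
    intro t ht
    have hm := hUn.conj_mem e heU t
    rw [show e⁻¹ = e from inv_eq_of_mul_eq_one_left (hU2 e heU)]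
    refine (hUcases _ hm).resolve_left fun h => heR ?_
    have hfix : t * (t * e * t⁻¹) = (t * e * t⁻¹) * t := hTc t ht _ h.2
    have h' : t * e * t⁻¹ = e :=
      mul_left_cancel (a := t) (hfix.trans (inv_mul_cancel_right (t * e) t))
    rwa [h'] at h
  have hTfix : ∀ t ∈ T, ∀ r ∈ R, t * r = r * t := fun t ht r hr => hTc t ht r hr.2
  have hCT : C ⊓ T ≤ R := by
    intro t ht
    by_contra htR
    have hle : R ≤ C ⊓ T := fun r hr => ⟨fun u hu => hUc u hu r hr.1, hr.2⟩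
    have h8 := two_mul_card_le (lt_of_le_of_ne hle fun h => htR (h ▸ ht))
    have hinj := Nat.card_le_card_of_injective (fun p : (C ⊓ T : Subgroup P) × B =>
      (⟨(p.1 : P) * p.2, mul_mem p.1.2.2 (hBT p.2.2)⟩ : T)) fun p q e' => by
        have e'' : (p.1 : P) * p.2 = q.1 * q.2 := congrArg (fun u : T => (u : P)) e'
        have h2 : (q.1 : P)⁻¹ * p.1 = q.2 * (p.2 : P)⁻¹ := by
          rw [eq_mul_inv_iff_mul_eq, mul_assoc, e'', inv_mul_cancel_left]
        have hm := mul_mem ((C ⊓ T : Subgroup P).inv_mem q.1.2) p.1.2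
        have h1 : (q.1 : P)⁻¹ * p.1 = 1 := by
          by_contra hne
          have := hbR _ (h2 ▸ mul_mem q.2.2 (B.inv_mem p.2.2)) hne e heU (hm.1 e heU).symm
          exact heT this
        rw [h1] at h2
        exact Prod.ext (Subtype.ext (inv_mul_eq_one.mp h1).symm)
          (Subtype.ext (mul_inv_eq_one.mp h2.symm).symm)
    rw [Nat.card_prod, hB4, h16] at hinj
    omega
  have hCb : ∀ b ∈ B, b ≠ 1 → ∀ x ∈ C, b * x = x * b → x ∈ R := fun b hb hb1 x hx h =>
    hCT ⟨hx, hcent b hb hb1 x h.symm⟩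
  -- the displacements of `e` exhaust `R`
  have hθsurj : ∀ r ∈ R, ∃ b ∈ B, b * e * b⁻¹ * e⁻¹ = r := by
    intro r hr
    let f : B → R := fun b => ⟨(b : P) * e * (b : P)⁻¹ * e⁻¹, hθ _ (hBT b.2)⟩
    have hf : Function.Injective f := by
      intro b b' h
      have h' := mul_right_cancel (congrArg Subtype.val h :
        (b : P) * e * (b : P)⁻¹ * e⁻¹ = b' * e * (b' : P)⁻¹ * e⁻¹)
      by_contra hne
      refine heT (hbR ((b' : P)⁻¹ * b) (mul_mem (B.inv_mem b'.2) b.2) ?_ e heU ?_)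
      · exact fun h1 => hne (Subtype.ext (inv_mul_eq_one.mp h1).symm)
      · calc (b' : P)⁻¹ * b * e = (b' : P)⁻¹ * ((b : P) * e * (b : P)⁻¹) * b := by group
          _ = (b' : P)⁻¹ * (b' * e * (b' : P)⁻¹) * b := by rw [h']
          _ = e * ((b' : P)⁻¹ * b) := by group
    obtain ⟨b, hb⟩ := ((Nat.bijective_iff_injective_and_card f).mpr
      ⟨hf, by rw [hB4, hR4]⟩).2 ⟨r, hr⟩
    exact ⟨b, b.2, congrArg Subtype.val hb⟩
  -- `R` is normal
  have hRn : R.Normal := by
    obtain ⟨U₂, hU₂n, hU₂U, hU₂⟩ := Normal.exists_normal_le_card hP U 2 (by rw [hU8]; norm_num)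
    suffices R ≤ U₂ by
      rw [eq_of_le_of_card_ge this (by rw [hR4, hU₂]; norm_num)]
      exact hU₂n
    by_contra hne
    obtain ⟨u, hu, huR⟩ : ∃ u ∈ U₂, u ∉ R := by
      by_contra! h
      exact hne (eq_of_le_of_card_ge h (by rw [hR4, hU₂]; norm_num)).ge
    refine hne fun r hr => ?_
    obtain ⟨b, hb, hbr⟩ := hθsurj r hr
    have hue : u * e ∈ R := (hUcases u (hU₂U hu)).resolve_left huR
    have hconj : b * u * b⁻¹ = u * r := by
      have h1 : b * (u * e) * b⁻¹ = u * e := by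
        rw [hTfix b (hBT hb) _ hue, mul_inv_cancel_right]
      have hre : Commute r e := hUc r hr.1 e heU
      calc b * u * b⁻¹ = (b * (u * e) * b⁻¹) * (b * e * b⁻¹)⁻¹ := by group
        _ = u * e * (r * e)⁻¹ := by rw [h1, ← hbr, inv_mul_cancel_right]
        _ = u * r⁻¹ := by rw [mul_inv_rev, mul_assoc, mul_inv_cancel_left]
        _ = u * r := by rw [show r⁻¹ = r from inv_eq_of_mul_eq_one_left (hU2 r hr.1)]
    have := mul_mem (U₂.inv_mem hu) (hU₂n.conj_mem u hu b)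
    rwa [hconj, inv_mul_cancel_left] at this
  haveI := hRn
  -- `C` is abelian of order `16`
  obtain ⟨c, hcC, hcU, hc2, hcg⟩ := AbelianNormal.exists_step hP
    (lt_of_le_of_ne (fun u hu v hv => hUc v hv u hu : U ≤ C) fun h => hself h.ge)
  have hUcC : ∀ x ∈ C, ∀ u ∈ U, Commute x u := fun x hx u hu => (hx u hu).symm
  have hδ : ∀ x ∈ C, x ∉ U → ∀ b ∈ B, b ≠ 1 → x⁻¹ * (b * x * b⁻¹) ∈ U →
      x⁻¹ * (b * x * b⁻¹) ∈ R ∧ x⁻¹ * (b * x * b⁻¹) ≠ 1 ∧
      x⁻¹ * (b * x * b⁻¹) ≠ b * e * b⁻¹ * e⁻¹ := by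
    intro x hx hxU b hb hb1 hmem
    have hbb : b * b = 1 := hT2 b (hBT hb)
    have hbi : b⁻¹ = b := hBinv b hb
    refine ⟨⟨hmem, hbR b hb hb1 _ hmem ?_⟩, fun h => ?_, fun h => ?_⟩
    · set r := x⁻¹ * (b * x * b⁻¹) with hr
      have h1 : b * r * b⁻¹ = r⁻¹ := by
        rw [hr, hbi]; simp only [mul_inv_rev, inv_inv, hbi, mul_assoc, hbb, mul_one]
      rw [inv_eq_of_mul_eq_one_left (hU2 r hmem)] at h1
      exact mul_inv_eq_iff_eq_mul.mp h1
    · exact hxU (hCb b hb hb1 x hx (mul_inv_eq_iff_eq_mul.mp (inv_mul_eq_one.mp h).symm)).1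
    · refine hxU ?_
      have hxe : b * (x * e) * b⁻¹ = x * e := by
        set r := b * e * b⁻¹ * e⁻¹ with hrdef
        have hr : r ∈ R := hθ b (hBT hb)
        have he' : b * e * b⁻¹ = r * e := by rw [hrdef, inv_mul_cancel_right]
        rw [← conj_mul, inv_mul_eq_iff_eq_mul.mp h, he', mul_assoc, ← mul_assoc r, hU2 r hr.1,
          one_mul]
      have := hCb b hb hb1 _ (mul_mem hx (fun u hu => hUc u hu e heU))
        (mul_inv_eq_iff_eq_mul.mp hxe)
      have h2 := mul_mem this.1 (U.inv_mem heU)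
      rwa [mul_inv_cancel_right] at h2
  set C1 := U ⊔ zpowers c with hC1
  have hC1n : C1.Normal := AbelianNormal.normal_sup_zpowers hcg
  have hC1le : C1 ≤ C := sup_le (fun u hu v hv => hUc v hv u hu) (zpowers_le.mpr hcC)
  have hC1cases : ∀ x ∈ C1, x ∈ U ∨ c⁻¹ * x ∈ U := by
    intro x hx
    obtain ⟨u, hu, s, hs, rfl⟩ := mem_sup_of_normal_left.mp hx
    obtain ⟨i, rfl⟩ := mem_zpowers_iff.mp hs
    have h2 : c ^ (2 : ℤ) ∈ U := by rw [zpow_two, ← sq]; exact hc2
    obtain ⟨j, rfl | rfl⟩ := Int.even_or_odd' i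
    · exact Or.inl (by rw [zpow_mul]; exact mul_mem hu (zpow_mem h2 j))
    · right
      rw [zpow_add_one, zpow_mul]
      have h3 := hUn.conj_mem _ (mul_mem hu (zpow_mem h2 j)) c⁻¹
      simpa [mul_assoc] using h3
  have hcfix : ∀ b : P, c⁻¹ * (b * c * b⁻¹) ∈ U := fun b => by
    have h := hUn.conj_mem _ (hcg b) c⁻¹
    simpa [mul_assoc] using h
  have hCeq : C = C1 := by
    by_contra hne
    haveI := hC1n
    obtain ⟨d, hdC, hdC1, -, hdg⟩ := AbelianNormal.exists_step hP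
      (lt_of_le_of_ne hC1le (Ne.symm hne))
    have hdg' : ∀ b : P, d⁻¹ * (b * d * b⁻¹) ∈ C1 := fun b => by
      have h := hC1n.conj_mem _ (hdg b) d⁻¹
      simpa [mul_assoc] using h
    have hdU : d ∉ U := fun h => hdC1 (mem_sup_left h)
    -- some involution of `B` fixes `d` modulo `U`
    obtain ⟨b, hb, hb1, hdb⟩ : ∃ b ∈ B, b ≠ 1 ∧ d⁻¹ * (b * d * b⁻¹) ∈ U := by
      by_contra! hno
      obtain ⟨b', hb', hb'1, hbb'⟩ : ∃ b' ∈ B, b' ≠ 1 ∧ b' ≠ b₀ := by
        by_contra! h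
        have hle : Nat.card B ≤ 2 := (Nat.card_le_card_of_injective
          (fun x : B => decide ((x : P) = 1)) fun x y e => by
            refine Subtype.ext ?_
            by_cases hx : (x : P) = 1
            · by_cases hy : (y : P) = 1
              · rw [hx, hy]
              · simp [hx, hy] at e
            · by_cases hy : (y : P) = 1
              · simp [hx, hy] at e
              · rw [h _ x.2 hx, h _ y.2 hy]).trans (by simp)
        omega
      have h1 := (hC1cases _ (hdg' b₀)).resolve_left (hno b₀ hb₀ hb₀1)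
      have h2 := (hC1cases _ (hdg' b')).resolve_left (hno b' hb' hb'1)
      refine hno (b₀ * b') (mul_mem hb₀ hb') (fun h => hbb' ?_) ?_
      · rw [← hBinv b₀ hb₀]; exact eq_inv_of_mul_eq_one_right h
      · have key : d⁻¹ * (b₀ * b' * d * (b₀ * b')⁻¹) = (c * (c⁻¹ * (d⁻¹ * (b₀ * d * b₀⁻¹)))) *
            (b₀ * c * b₀⁻¹ * (b₀ * (c⁻¹ * (d⁻¹ * (b' * d * b'⁻¹))) * b₀⁻¹)) := by group
        rw [key, show b₀ * c * b₀⁻¹ = c * (c⁻¹ * (b₀ * c * b₀⁻¹)) from
          (mul_inv_cancel_left _ _).symm]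
        have m1 := hcfix b₀
        have m2 := hUn.conj_mem _ h2 b₀
        set p := c⁻¹ * (d⁻¹ * (b₀ * d * b₀⁻¹))
        set q := b₀ * (c⁻¹ * (d⁻¹ * (b' * d * b'⁻¹))) * b₀⁻¹
        set s := c⁻¹ * (b₀ * c * b₀⁻¹)
        have e1 : c * p * (c * s * q) = c ^ 2 * (p * (s * q)) := by
          rw [mul_assoc c p, mul_assoc c s, ← mul_assoc p c, ← (hUcC c hcC p h1).eq, sq]
          simp only [mul_assoc]
        rw [e1]
        exact mul_mem hc2 (mul_mem h1 (mul_mem m1 m2))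
    obtain ⟨hr, hr1, hrw⟩ := hδ c hcC hcU b hb hb1 (hcfix b)
    obtain ⟨hs, hs1, hsw⟩ := hδ d hdC hdU b hb hb1 hdb
    set r := c⁻¹ * (b * c * b⁻¹) with hrdef
    set s := d⁻¹ * (b * d * b⁻¹) with hsdef
    set t := b * e * b⁻¹ * e⁻¹ with htdef
    have ht : t ∈ R := hθ b (hBT hb)
    have ht1 : t ≠ 1 := fun h => heT (hbR b hb hb1 e heU
      (mul_inv_eq_iff_eq_mul.mp (mul_inv_eq_one.mp h)))
    have hrinv : r⁻¹ = r := inv_eq_of_mul_eq_one_left (hU2 r hr.1)
    have hsR : s = r ∨ s = r * t := by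
      by_contra! h
      have hrt1 : r * t ≠ 1 := fun e' => hrw (by
        rw [eq_inv_of_mul_eq_one_left e', inv_eq_of_mul_eq_one_left (hU2 t ht.1)])
      let f : Finset P := {1, t, r, r * t, s}
      have hf : f.card = 5 := by
        simp [f, Finset.card_insert_of_notMem, Ne.symm ht1, Ne.symm hr1, Ne.symm hrt1, Ne.symm hs1,
          Ne.symm hrw, Ne.symm hsw, Ne.symm h.1, Ne.symm h.2,
          show t ≠ r * t from fun e' => hr1 (mul_eq_right.mp e'.symm),
          show r ≠ r * t from fun e' => ht1 (mul_eq_left.mp e'.symm)]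
      have hfR : ∀ y ∈ f, y ∈ R := by
        intro y hy
        simp only [f, Finset.mem_insert, Finset.mem_singleton] at hy
        rcases hy with rfl | rfl | rfl | rfl | rfl
        exacts [R.one_mem, ht, hr, mul_mem hr ht, hs]
      have := Nat.card_le_card_of_injective (fun y : f => (⟨y, hfR y y.2⟩ : R))
        fun y y' e' => Subtype.ext (congrArg (fun u : R => (u : P)) e')
      simp [hf, hR4] at this
    have hσ : b * (c⁻¹ * d) * b⁻¹ = c⁻¹ * d * (r * s) := by
      calc b * (c⁻¹ * d) * b⁻¹ = r⁻¹ * (c⁻¹ * d) * s := by rw [hrdef, hsdef]; group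
        _ = c⁻¹ * d * (r * s) := by
          rw [hrinv, ← (hUcC _ (mul_mem (C.inv_mem hcC) hdC) r hr.1).eq, mul_assoc]
    refine hdC1 ?_
    have hcd : c⁻¹ * d ∈ C1 := by
      rcases hsR with h | h
      · rw [h, hU2 r hr.1, mul_one] at hσ
        exact mem_sup_left (hCb b hb hb1 _ (mul_mem (C.inv_mem hcC) hdC)
          (mul_inv_eq_iff_eq_mul.mp hσ)).1
      · rw [h, ← mul_assoc r, hU2 r hr.1, one_mul] at hσ
        have hfix : b * (c⁻¹ * d * e) * b⁻¹ = c⁻¹ * d * e := by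
          rw [← conj_mul, hσ, show b * e * b⁻¹ = t * e by rw [htdef, inv_mul_cancel_right],
            mul_assoc, ← mul_assoc t, hU2 t ht.1, one_mul]
        have := (hCb b hb hb1 _ (mul_mem (mul_mem (C.inv_mem hcC) hdC)
          (fun u hu => hUc u hu e heU)) (mul_inv_eq_iff_eq_mul.mp hfix)).1
        have h2 := mul_mem this (U.inv_mem heU)
        rw [mul_inv_cancel_right] at h2
        exact mem_sup_left h2
    have := mul_mem (mem_sup_right (mem_zpowers c) : c ∈ C1) hcd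
    rwa [mul_inv_cancel_left] at this
  have hCcases : ∀ x ∈ C, x ∈ U ∨ c⁻¹ * x ∈ U := fun x hx => hC1cases x (hCeq ▸ hx)
  have hCab : ∀ x ∈ C, ∀ y ∈ C, Commute x y := by
    intro x hx y hy
    have hcx : ∀ z ∈ C, Commute c z := fun z hz => by
      rcases hCcases z hz with h | h
      · exact hUcC c hcC z h
      · have := (Commute.refl c).mul_right (hUcC c hcC _ h)
        rwa [mul_inv_cancel_left] at this
    rcases hCcases x hx with h | h
    · exact (hUcC y hy x h).symm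
    · have := (hcx y hy).mul_left (hUcC y hy _ h).symm
      rwa [mul_inv_cancel_left] at this
  -- every element centralizing `R` lies in `C B`
  have hM : ∀ g, (∀ r ∈ R, g * r = r * g) → ∃ k ∈ C, ∃ b ∈ B, g = k * b := by
    intro g hg
    have hm := hUn.conj_mem e heU g
    have hr : g * e * g⁻¹ * e⁻¹ ∈ R := by
      rw [show e⁻¹ = e from inv_eq_of_mul_eq_one_left (hU2 e heU)]
      refine (hUcases _ hm).resolve_left fun h => heR ?_
      have h1 := hg _ h
      rw [← mul_assoc, ← mul_assoc, inv_mul_cancel_right] at h1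
      have h2 : g * e * g⁻¹ = e := mul_left_cancel (by rw [← mul_assoc, ← mul_assoc]; exact h1)
      rwa [h2] at h
    obtain ⟨b, hb, hbr⟩ := hθsurj _ hr
    refine ⟨g * b⁻¹, hgenC _ (fun r hr => ?_) ?_, b, hb, (inv_mul_cancel_right _ _).symm⟩
    · exact (show Commute g r from hg r hr).mul_left
        (show Commute b r from hTfix b (hBT hb) r hr).inv_left
    · have h1 : b * e * b⁻¹ = g * e * g⁻¹ := mul_right_cancel hbr
      calc g * b⁻¹ * e = g * (b⁻¹ * e * b) * b⁻¹ := by group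
        _ = g * (b⁻¹ * e * b⁻¹⁻¹) * b⁻¹ := by rw [inv_inv]
        _ = g * (b * e * b⁻¹) * b⁻¹ := by rw [hBinv b hb, hBinv b hb]
        _ = g * (g * e * g⁻¹) * b⁻¹ := by rw [h1]
        _ = (g * g) * e * (g * g)⁻¹ * (g * b⁻¹) := by group
        _ = e * (g * b⁻¹) := by
          congr 1
          -- `g²` centralizes `e`
          set r := g * e * g⁻¹ * e⁻¹ with hrdef
          have hge : g * e * g⁻¹ = r * e := by rw [hrdef, inv_mul_cancel_right]
          calc g * g * e * (g * g)⁻¹ = (g * r * g⁻¹) * (g * e * g⁻¹) := by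
                rw [hrdef]; group
            _ = r * (r * e) := by rw [hg r hr, mul_inv_cancel_right, hge]
            _ = e := by rw [← mul_assoc, hU2 r hr.1, one_mul]
  -- elements of `C` commuting with the conjugate of `B`
  have hmap : ∀ g : P, ∀ b ∈ B, g * b * g⁻¹ ∈ T := by
    intro g
    have hy : ∀ b ∈ B, ∃ k ∈ C, ∃ β ∈ B, g * b * g⁻¹ = k * β ∧ (β = 1 → b = 1) := by
      intro b hb
      obtain ⟨k, hk, β, hβ, he⟩ := hM (g * b * g⁻¹) fun r hr => by
        have hr' : g⁻¹ * r * g ∈ R := by simpa using hRn.conj_mem r hr g⁻¹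
        calc g * b * g⁻¹ * r = g * (b * (g⁻¹ * r * g)) * g⁻¹ := by group
          _ = g * ((g⁻¹ * r * g) * b) * g⁻¹ := by rw [hTfix b (hBT hb) _ hr']
          _ = r * (g * b * g⁻¹) := by group
      refine ⟨k, hk, β, hβ, he, fun h1 => ?_⟩
      by_contra hb1
      rw [h1, mul_one] at he
      have hbC : b ∈ C := by
        have := (inferInstance : C.Normal).conj_mem _ hk g⁻¹
        rw [← he] at this
        simpa [mul_assoc] using this
      exact heT (hbR b hb hb1 e heU (hbC e heU).symm)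
    -- the displacement homomorphisms
    intro b₁ hb₁
    obtain ⟨k₁, hk₁, β₁, hβ₁, hy₁, hβ₁'⟩ := hy b₁ hb₁
    by_cases hb11 : b₁ = 1
    · rw [hb11, mul_one, mul_inv_cancel]; exact T.one_mem
    have hinv : ∀ k β : P, β ∈ B → (k * β) * (k * β) = 1 → β * k * β⁻¹ = k⁻¹ := by
      intro k β hβ h
      refine eq_inv_of_mul_eq_one_right ?_
      rw [hBinv β hβ, ← h]; group
    have hb₁sq : (k₁ * β₁) * (k₁ * β₁) = 1 := by
      rw [← hy₁, ← sq, conj_pow, sq, hT2 b₁ (hBT hb₁), mul_one, mul_inv_cancel]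
    have hk₁i := hinv k₁ β₁ hβ₁ hb₁sq
    by_cases hk₁U : k₁ ∈ U
    · rw [hy₁]
      refine mul_mem ?_ (hBT hβ₁)
      refine (hCb β₁ hβ₁ (fun h => hb11 (hβ₁' h)) k₁ hk₁ (mul_inv_eq_iff_eq_mul.mp ?_)).2
      rw [hk₁i, inv_eq_of_mul_eq_one_left (hU2 k₁ hk₁U)]
    exfalso
    have hckU : ∀ k ∈ C, k ∉ U → c⁻¹ * k ∈ U := fun k hk hkU => (hCcases k hk).resolve_left hkU
    obtain ⟨b₂, hb₂, hb21, hb2b⟩ : ∃ b' ∈ B, b' ≠ 1 ∧ b' ≠ b₁ := by
      by_contra! h
      have hle : Nat.card B ≤ 2 := (Nat.card_le_card_of_injective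
        (fun x : B => decide ((x : P) = 1)) fun x y e => by
          refine Subtype.ext ?_
          by_cases hx : (x : P) = 1
          · by_cases hy : (y : P) = 1
            · rw [hx, hy]
            · simp [hx, hy] at e
          · by_cases hy : (y : P) = 1
            · simp [hx, hy] at e
            · rw [h _ x.2 hx, h _ y.2 hy]).trans (by simp)
      omega
    -- choose the second element with its `C`-part outside `U`
    obtain ⟨b₂, hb₂, hb21, hb2b, k₂, hk₂, β₂, hβ₂, hy₂, hk₂U⟩ : ∃ b' ∈ B, b' ≠ 1 ∧ b' ≠ b₁ ∧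
        ∃ k ∈ C, ∃ β ∈ B, g * b' * g⁻¹ = k * β ∧ k ∉ U := by
      obtain ⟨k₂, hk₂, β₂, hβ₂, hy₂, -⟩ := hy b₂ hb₂
      by_cases hk₂U : k₂ ∈ U
      swap
      · exact ⟨b₂, hb₂, hb21, hb2b, k₂, hk₂, β₂, hβ₂, hy₂, hk₂U⟩
      refine ⟨b₁ * b₂, mul_mem hb₁ hb₂, fun h => hb2b ?_, fun h => hb21 (mul_eq_left.mp h),
        k₁ * (β₁ * k₂ * β₁⁻¹), mul_mem hk₁ ((inferInstance : C.Normal).conj_mem _ hk₂ _),
        β₁ * β₂, mul_mem hβ₁ hβ₂, ?_, ?_⟩
      · rw [eq_inv_of_mul_eq_one_right h, hBinv b₁ hb₁]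
      · rw [← conj_mul, hy₁, hy₂]; group
      · intro h
        apply hk₁U
        have := mul_mem h (U.inv_mem (hUn.conj_mem _ hk₂U β₁))
        rwa [mul_inv_cancel_right] at this
    have hb₂sq : (k₂ * β₂) * (k₂ * β₂) = 1 := by
      rw [← hy₂, ← sq, conj_pow, sq, hT2 b₂ (hBT hb₂), mul_one, mul_inv_cancel]
    have hk₂i := hinv k₂ β₂ hβ₂ hb₂sq
    -- equal squares
    have hsq : k₁ * k₁ = k₂ * k₂ := by
      have h1 := hckU k₁ hk₁ hk₁U
      have h2 := hckU k₂ hk₂ hk₂U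
      have e1 : ∀ k ∈ C, c⁻¹ * k ∈ U → k * k = c * c := fun k hk h => by
        calc k * k = (c * (c⁻¹ * k)) * (c * (c⁻¹ * k)) := by rw [mul_inv_cancel_left]
          _ = (c * c) * ((c⁻¹ * k) * (c⁻¹ * k)) := by
            rw [mul_assoc c, ← mul_assoc (c⁻¹ * k) c, ← (hUcC c hcC _ h).eq]
            simp only [mul_assoc]
          _ = c * c := by rw [hU2 _ h, mul_one]
      rw [e1 k₁ hk₁ h1, e1 k₂ hk₂ h2]
    -- commutation of the conjugates
    have hcomm : (k₁ * β₁) * (k₂ * β₂) = (k₂ * β₂) * (k₁ * β₁) := by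
      rw [← hy₁, ← hy₂, conj_mul, conj_mul, hTc _ (hBT hb₁) _ (hBT hb₂)]
    set x12 := β₁ * k₂ * β₁⁻¹ with hx12
    set x21 := β₂ * k₁ * β₂⁻¹ with hx21
    have hx12C : x12 ∈ C := (inferInstance : C.Normal).conj_mem _ hk₂ _
    have hx21C : x21 ∈ C := (inferInstance : C.Normal).conj_mem _ hk₁ _
    have hkey : k₁ * x12 = k₂ * x21 := by
      have hbb : β₁ * β₂ = β₂ * β₁ := hTc _ (hBT hβ₁) _ (hBT hβ₂)
      refine mul_right_cancel (b := β₁ * β₂) ?_
      calc k₁ * x12 * (β₁ * β₂) = (k₁ * β₁) * (k₂ * β₂) := by rw [hx12]; group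
        _ = (k₂ * β₂) * (k₁ * β₁) := hcomm
        _ = k₂ * x21 * (β₂ * β₁) := by rw [hx21]; group
        _ = k₂ * x21 * (β₁ * β₂) := by rw [hbb]
    -- the difference is fixed by `β₁ β₂`
    have hβne : β₁ * β₂ ≠ 1 := by
      intro h
      have h3 : g * (b₁ * b₂) * g⁻¹ ∈ C := by
        rw [← conj_mul, hy₁, hy₂, show k₁ * β₁ * (k₂ * β₂) = k₁ * x12 * (β₁ * β₂) by
          rw [hx12]; group, h, mul_one]
        exact mul_mem hk₁ hx12C
      have hbC : b₁ * b₂ ∈ C := by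
        have := (inferInstance : C.Normal).conj_mem _ h3 g⁻¹
        simpa [mul_assoc] using this
      refine heT (hbR _ (mul_mem hb₁ hb₂) (fun h' => hb2b ?_) e heU (hbC e heU).symm)
      rw [eq_inv_of_mul_eq_one_right h', hBinv b₁ hb₁]
    set β := β₁ * β₂ with hβdef
    have hβB : β ∈ B := mul_mem hβ₁ hβ₂
    have hk₂i' : k₂⁻¹ ∈ C := C.inv_mem hk₂
    have hk₁i' : k₁⁻¹ ∈ C := C.inv_mem hk₁
    -- `x12` in terms of `k₁, k₂`
    have e21 : x21 = k₂⁻¹ * (k₁ * x12) := by rw [hkey, inv_mul_cancel_left]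
    have hA : β * k₁ * β⁻¹ = x21⁻¹ := by
      calc β * k₁ * β⁻¹ = β₂ * (β₁ * k₁ * β₁⁻¹) * β₂⁻¹ := by
            rw [hβdef, hTc _ (hBT hβ₁) _ (hBT hβ₂)]; group
        _ = x21⁻¹ := by rw [hk₁i, hx21]; group
    have hB' : β * k₂ * β⁻¹ = x12⁻¹ := by
      calc β * k₂ * β⁻¹ = β₁ * (β₂ * k₂ * β₂⁻¹) * β₁⁻¹ := by rw [hβdef]; group
        _ = x12⁻¹ := by rw [hk₂i, hx12]; group
    have hfix : β * (k₁⁻¹ * k₂) * β⁻¹ = k₁⁻¹ * k₂ := by
      calc β * (k₁⁻¹ * k₂) * β⁻¹ = (β * k₁ * β⁻¹)⁻¹ * (β * k₂ * β⁻¹) := by group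
        _ = k₂⁻¹ * (k₁ * (x12 * x12⁻¹)) := by rw [hA, hB', inv_inv, e21]; group
        _ = k₂⁻¹ * k₁ := by rw [mul_inv_cancel, mul_one]
        _ = k₂⁻¹ * (k₁ * k₁) * k₁⁻¹ := by group
        _ = k₂ * k₁⁻¹ := by rw [hsq]; group
        _ = k₁⁻¹ * k₂ := (hCab _ hk₂ _ hk₁i').eq
    have hm := hCb β hβB hβne _ (mul_mem hk₁i' hk₂) (mul_inv_eq_iff_eq_mul.mp hfix)
    -- hence `k₁` is fixed by `β`
    have hx12' : x12 = k₂⁻¹ := by
      have h1 : β₁ * (k₁⁻¹ * k₂) * β₁⁻¹ = k₁⁻¹ * k₂ := by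
        rw [hTfix _ (hBT hβ₁) _ hm, mul_inv_cancel_right]
      calc x12 = (β₁ * k₁ * β₁⁻¹) * (β₁ * (k₁⁻¹ * k₂) * β₁⁻¹) := by rw [hx12]; group
        _ = k₁⁻¹ * (k₁⁻¹ * k₂) := by rw [hk₁i, h1]
        _ = (k₁ * k₁)⁻¹ * k₂ := by group
        _ = k₂⁻¹ := by rw [hsq]; group
    have hk₁fix : β * k₁ * β⁻¹ = k₁ := by
      rw [hA, e21, hx12', mul_inv_rev, mul_inv_rev, inv_inv]
      calc k₂ * k₁⁻¹ * k₂ = k₁⁻¹ * (k₂ * k₂) := by
            rw [(hCab _ hk₂ _ hk₁i').eq, mul_assoc]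
        _ = k₁ := by rw [← hsq, inv_mul_cancel_left]
    exact hk₁U (hCb β hβB hβne k₁ hk₁ (mul_inv_eq_iff_eq_mul.mp hk₁fix)).1
  -- `T` is generated by `R` and `B`
  have hRB : T ≤ R ⊔ B := by
    intro t ht
    obtain ⟨b, hb, hbr⟩ := hθsurj _ (hθ t ht)
    have h1 : b * e * b⁻¹ = t * e * t⁻¹ := mul_right_cancel hbr
    have hm : b⁻¹ * t ∈ C := hgenC _ (fun r hr => ((show Commute b r from hTfix b (hBT hb) r
      hr).inv_left).mul_left (hTfix t ht r hr)) (by
        calc b⁻¹ * t * e = b⁻¹ * (t * e * t⁻¹) * t := by group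
          _ = b⁻¹ * (b * e * b⁻¹) * t := by rw [h1]
          _ = e * (b⁻¹ * t) := by group)
    have := mul_mem (mem_sup_right hb : b ∈ R ⊔ B)
      (mem_sup_left (hCT ⟨hm, mul_mem (T.inv_mem (hBT hb)) ht⟩))
    rwa [mul_inv_cancel_left] at this
  refine ⟨fun t ht g => ?_⟩
  have hle : R ⊔ B ≤ T.comap (MulAut.conj g).toMonoidHom := sup_le
    (fun r hr => show g * r * g⁻¹ ∈ T from (hRn.conj_mem r hr g).2)
    (fun b hb => show g * b * g⁻¹ ∈ T from hmap g b hb)
  exact hle (hRB ht)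

omit hB4 hBT hcent in
/-- A group with an abelian subgroup of index at most two having at most eight involutions. -/
theorem index_le_of_abelian_index_two (M Z : Subgroup P) [M.Normal]
    (hMc : ∀ x ∈ M, ∀ y ∈ M, x * y = y * x) (hidx : M.index ≤ 2) (hZ : Nat.card Z = 8)
    (hinv : ∀ x ∈ M, x * x = 1 → x ∈ Z) {H : Subgroup P} (K : Subgroup H)
    (hK : ∀ x : H, x * x ∈ K) : K.index ≤ 16 := by
  haveI := FourGenerator.normal_of_sq K hK
  rw [index_eq_mul M K hK]
  have hr : (K ⊔ M.subgroupOf H).index ≤ 2 :=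
    le_trans (Nat.le_of_dvd (Nat.pos_of_ne_zero (index_ne_zero_of_finite (H := M.subgroupOf H)))
      (index_dvd_of_le le_sup_right))
    (le_trans (Nat.le_of_dvd (Nat.pos_of_ne_zero index_ne_zero_of_finite)
      (relIndex_dvd_index_of_normal M H)) hidx)
  have hm := (sq_bound K (M.subgroupOf H) hK Z hZ fun x hx y hy e => by
    have e' : (x : P) * x = y * y := by simpa only [coe_mul] using congrArg Subtype.val e
    refine hinv _ (mul_mem (M.inv_mem hx) hy) ?_
    rw [← sq, (show Commute (x : P) y from hMc _ hx _ hy).inv_left.mul_pow, inv_pow, sq, sq, e',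
      inv_mul_cancel]).1
  exact (Nat.mul_le_mul hr hm).trans le_rfl

end Cfsg.Agent.PGroups.SelfCentEight
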