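import Cfsg.Agent.Lib.PGroups.SelfCentEight.KleinFactor

/-!
The case of a nonabelian factor `D`: then `T` is the whole group; and the reduction from a finite
group to a Sylow subgroup.
-/

set_option autoImplicit false

namespace Cfsg.Agent.PGroups.SelfCentEight

open Subgroup
open scoped commutatorElement

variable {P : Type*} [Group P] [Finite P]

/-- Elementary sections of a group have order at most sixteen when this holds in a Sylow
subgroup. -/
theorem sectionalRank_of_sylow {G : Type*} [Group G] [Finite G] (S : Sylow 2 G)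
    (h : ∀ (H : Subgroup S) (K : Subgroup H), (∀ x : H, x * x ∈ K) → K.index ≤ 16) :
    Cfsg.SectionalPRankLE 2 4 G := by
  classical
  haveI : Fact (Nat.Prime 2) := ⟨Nat.prime_two⟩
  intro H N _ B hBc hB2
  let L : Subgroup H := B.comap (QuotientGroup.mk' N)
  let f : L →* B := ((QuotientGroup.mk' N).comp L.subtype).codRestrict B fun x => x.2
  have hf : Function.Surjective f := by
    intro b
    obtain ⟨x, hx⟩ := QuotientGroup.mk'_surjective N (b : ↥H ⧸ N)
    exact ⟨⟨x, by rw [mem_comap, hx]; exact b.2⟩, Subtype.ext hx⟩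
  haveI : Finite B := Finite.of_surjective f hf
  let Q : Sylow 2 L := default
  have hB : IsPGroup 2 B := fun b => ⟨1, Subtype.ext (by simpa using hB2 _ b.2)⟩
  -- the Sylow subgroup of the preimage covers the section
  have hQtop : (Q : Subgroup L).map f = ⊤ := by
    have hdvd : ((Q : Subgroup L).map f).index ∣ (Q : Subgroup L).index :=
      index_map_dvd _ hf
    obtain ⟨k, hk⟩ := hB.index ((Q : Subgroup L).map f)
    refine index_eq_one.mp ?_
    rcases Nat.eq_zero_or_pos k with rfl | hk0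
    · rw [hk, pow_zero]
    · exfalso
      rw [hk] at hdvd
      exact Q.not_dvd_index ((dvd_pow_self 2 hk0.ne').trans hdvd)
  -- move it into `S`
  let ι : L →* G := H.subtype.comp L.subtype
  have hι : Function.Injective ι := H.subtype_injective.comp L.subtype_injective
  obtain ⟨R, hR⟩ := (Q.isPGroup'.map ι).exists_le_sylow
  obtain ⟨g, hg⟩ := MulAction.exists_smul_eq G R S
  let j : Q →* S :=
    { toFun := fun x => ⟨g * ι x * g⁻¹, by
        have hm : (MulAut.conj g) (ι x) ∈ ((g • R : Sylow 2 G) : Subgroup G) := by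
          rw [Sylow.coe_subgroup_smul]
          exact ⟨ι x, hR ⟨x, x.2, rfl⟩, rfl⟩
        rw [hg] at hm
        exact hm⟩
      map_one' := Subtype.ext (by simp)
      map_mul' := fun x y => Subtype.ext (by simp [mul_assoc]) }
  have hj : Function.Injective j := fun x y e =>
    Subtype.ext (hι (mul_left_cancel (mul_right_cancel (congrArg Subtype.val e))))
  let e : Q ≃* j.range := MonoidHom.ofInjective hj
  let φ : j.range →* B := (f.comp (Q : Subgroup L).subtype).comp e.symm.toMonoidHom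
  have hφ : Function.Surjective φ := by
    intro b
    obtain ⟨x, hx, hxb⟩ := (hQtop ▸ mem_top b : b ∈ (Q : Subgroup L).map f)
    exact ⟨e ⟨x, hx⟩, by simp [φ, hxb]⟩
  have hk := h j.range φ.ker fun x => by
    rw [MonoidHom.mem_ker, map_mul, ← sq]
    exact Subtype.ext (by simpa using hB2 _ (φ x).2)
  rw [index_ker, MonoidHom.range_eq_top.mpr hφ, card_top] at hk
  exact hk

/-- With a nonabelian `D` having a cyclic subgroup of index two, `T` is the whole group. -/
theorem index_le_nonabelian (hP : IsPGroup 2 P) (T D B : Subgroup P) (hDT : D ≤ T) (hBT : B ≤ T)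
    (hT : T = D ⊔ B) (hDB : ∀ d ∈ D, ∀ b ∈ B, d * b = b * d) (hinf : D ⊓ B = ⊥)
    (hB4 : Nat.card B = 4) (hBc : ∀ x ∈ B, ∀ y ∈ B, x * y = y * x) (hB2 : ∀ x ∈ B, x * x = 1)
    (hcent : ∀ b ∈ B, b ≠ 1 → ∀ g, g * b = b * g → g ∈ T)
    (c : P) (hcD : c ∈ D) (hc : (zpowers c).relIndex D = 2)
    (hnab : ∃ x ∈ D, ∃ y ∈ D, x * y ≠ y * x)
    {H : Subgroup P} (K : Subgroup H) (hK : ∀ x : H, x * x ∈ K) : K.index ≤ 16 := by
  classical
  haveI : Fact (Nat.Prime 2) := ⟨Nat.prime_two⟩
  let DB : Subgroup P :=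
    { carrier := {t | ∃ d ∈ D, ∃ b ∈ B, t = d * b}
      one_mem' := ⟨1, D.one_mem, 1, B.one_mem, (one_mul _).symm⟩
      mul_mem' := by
        rintro p q ⟨d, hd, b, hb, rfl⟩ ⟨d', hd', b', hb', rfl⟩
        exact ⟨d * d', mul_mem hd hd', b * b', mul_mem hb hb', by
          rw [mul_assoc, ← mul_assoc b d', ← hDB d' hd' b hb]; simp only [mul_assoc]⟩
      inv_mem' := by
        rintro p ⟨d, hd, b, hb, rfl⟩
        exact ⟨d⁻¹, inv_mem hd, b⁻¹, inv_mem hb, by
          rw [mul_inv_rev]; exact (hDB _ (inv_mem hd) _ (inv_mem hb)).symm⟩ }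
  have hform : ∀ t ∈ T, ∃ d ∈ D, ∃ b ∈ B, t = d * b := fun t ht =>
    (sup_le (fun d hd => ⟨d, hd, 1, B.one_mem, (mul_one d).symm⟩)
      (fun b hb => ⟨1, D.one_mem, b, hb, (one_mul b).symm⟩) : D ⊔ B ≤ DB) (hT ▸ ht)
  -- commutators of `T` lie in `D`
  have hTT : ⁅T, T⁆ ≤ D := by
    rw [commutator_le]
    intro p hp q hq
    obtain ⟨d, hd, b, hb, rfl⟩ := hform p hp
    obtain ⟨d', hd', b', hb', rfl⟩ := hform q hq
    have e : ⁅d * b, d' * b'⁆ = ⁅d, d'⁆ := by
      rw [commutatorElement_def, commutatorElement_def]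
      have c1 : Commute b d' := (hDB d' hd' b hb).symm
      have c2 : Commute b' d⁻¹ := (hDB _ (inv_mem hd) b' hb').symm
      have c3 : Commute b b' := hBc b hb b' hb'
      have c4 : Commute b' d'⁻¹ := (hDB _ (inv_mem hd') b' hb').symm
      calc d * b * (d' * b') * (d * b)⁻¹ * (d' * b')⁻¹
          = d * (b * d') * b' * b⁻¹ * d⁻¹ * b'⁻¹ * d'⁻¹ := by group
        _ = d * d' * (b * b') * b⁻¹ * d⁻¹ * b'⁻¹ * d'⁻¹ := by rw [c1.eq]; group
        _ = d * d' * (b' * d⁻¹) * b'⁻¹ * d'⁻¹ := by rw [c3.eq]; group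
        _ = d * d' * d⁻¹ * d'⁻¹ := by rw [c2.eq]; group
    rw [e, commutatorElement_def]
    exact mul_mem (mul_mem (mul_mem hd hd') (inv_mem hd)) (inv_mem hd')
  -- a central involution of `T` among the commutators
  obtain ⟨z, hzTT, hz1, hz2, hzT⟩ : ∃ z ∈ ⁅T, T⁆, z ≠ 1 ∧ z * z = 1 ∧ ∀ t ∈ T, t * z = z * t := by
    haveI : (⁅(⊤ : Subgroup T), (⊤ : Subgroup T)⁆).Normal := commutator_normal _ _
    have hne : ⁅(⊤ : Subgroup T), (⊤ : Subgroup T)⁆ ≠ ⊥ := by
      intro h
      obtain ⟨x, hx, y, hy, hxy⟩ := hnab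
      have hm := commutator_mem_commutator (mem_top (⟨x, hDT hx⟩ : T)) (mem_top (⟨y, hDT hy⟩ : T))
      rw [h, mem_bot, commutatorElement_eq_one_iff_mul_comm] at hm
      exact hxy (congrArg Subtype.val hm)
    obtain ⟨z, hz, hz1, hz2, hzc⟩ := AbelianNormal.exists_step (hP.to_subgroup T)
      (B := (⊥ : Subgroup T)) (bot_lt_iff_ne_bot.mpr hne)
    refine ⟨z, ?_, fun h => hz1 (mem_bot.mpr (Subtype.ext h)), ?_, fun t ht => ?_⟩
    · have hm : (z : P) ∈ (⁅(⊤ : Subgroup T), (⊤ : Subgroup T)⁆).map T.subtype := ⟨z, hz, rfl⟩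
      rwa [map_commutator, ← MonoidHom.range_eq_map, range_subtype] at hm
    · rw [← sq]
      exact congrArg Subtype.val (mem_bot.mp hz2)
    · exact congrArg Subtype.val
        (mul_inv_eq_iff_eq_mul.mp (mul_inv_eq_one.mp (mem_bot.mp (hzc ⟨t, ht⟩))))
  have hcle : zpowers c ≤ D := zpowers_le.mpr hcD
  have hDcases : ∀ x ∈ D, ∀ y ∈ D, x ∉ zpowers c → y ∉ zpowers c → x⁻¹ * y ∈ zpowers c := by
    intro x hx y hy hxc hyc
    have h := mul_mem_iff_of_index_two (H := (zpowers c).subgroupOf D) hc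
      (a := (⟨x, hx⟩ : D)⁻¹) (b := ⟨y, hy⟩)
    simp only [mem_subgroupOf, coe_mul, coe_inv, inv_mem_iff] at h
    exact h.mpr (iff_of_false hxc hyc)
  -- a central involution of `D` is a power of `c`
  have hcentc : ∀ z ∈ D, (∀ t ∈ T, t * z = z * t) → z ∈ zpowers c := by
    intro z hzD hzT
    by_contra hzc
    obtain ⟨x, hx, y, hy, hxy⟩ := hnab
    have hgen : ∀ x ∈ D, x ∈ zpowers c ∨ z⁻¹ * x ∈ zpowers c := fun x hx => by
      by_cases h : x ∈ zpowers c
      · exact Or.inl h
      · exact Or.inr (hDcases z hzD x hx hzc h)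
    have hcc : ∀ p ∈ zpowers c, ∀ q ∈ zpowers c, Commute p q := by
      rintro _ ⟨i, rfl⟩ _ ⟨j, rfl⟩
      exact Commute.zpow_zpow_self c i j
    have hzc' : ∀ p ∈ zpowers c, Commute z p := fun p hp => (hzT p (hDT (hcle hp))).symm
    refine hxy ?_
    rcases hgen x hx with h1 | h1 <;> rcases hgen y hy with h2 | h2
    · exact hcc x h1 y h2
    · have := ((hzc' x h1).symm).mul_right (hcc x h1 _ h2)
      rwa [mul_inv_cancel_left] at this
    · have := (hzc' y h2).mul_left (hcc _ h1 y h2)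
      rwa [mul_inv_cancel_left] at this
    · have := ((Commute.refl z).mul_right (hzc' _ h2)).mul_left
        ((hzc' _ h1).symm.mul_right (hcc _ h1 _ h2))
      rwa [mul_inv_cancel_left, mul_inv_cancel_left] at this
  have hzD : z ∈ D := hTT hzTT
  have hzc : z ∈ zpowers c := hcentc z hzD hzT
  let Z : Subgroup P :=
    { carrier := {t | ∃ b ∈ B, t = b ∨ t = z * b}
      one_mem' := ⟨1, B.one_mem, Or.inl rfl⟩
      mul_mem' := by
        rintro p q ⟨b, hb, hp⟩ ⟨b', hb', hq⟩
        refine ⟨b * b', mul_mem hb hb', ?_⟩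
        rcases hp with rfl | rfl <;> rcases hq with rfl | rfl
        · exact Or.inl rfl
        · exact Or.inr (by rw [← mul_assoc, hzT _ (hBT hb), mul_assoc])
        · exact Or.inr (mul_assoc _ _ _)
        · exact Or.inl (by
            rw [mul_assoc z b, ← mul_assoc b z, hzT _ (hBT hb), mul_assoc z b, ← mul_assoc z z, hz2,
              one_mul])
      inv_mem' := by
        rintro p ⟨b, hb, hp⟩
        refine ⟨b, hb, ?_⟩
        rcases hp with rfl | rfl
        · exact Or.inl (inv_eq_of_mul_eq_one_left (hB2 _ hb))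
        · exact Or.inr (by
            rw [mul_inv_rev, inv_eq_of_mul_eq_one_left (hB2 _ hb), inv_eq_of_mul_eq_one_left hz2,
              hzT _ (hBT hb)]) }
  have hzB : z ∉ B := fun h => hz1 (mem_bot.mp (hinf ▸ ⟨hzD, h⟩))
  have hZT : Z ≤ T := by
    rintro _ ⟨b, hb, rfl | rfl⟩
    exacts [hBT hb, mul_mem (hDT hzD) (hBT hb)]
  have hZ8 : Nat.card Z = 8 := by
    let f : B × Bool → Z := fun p => ⟨if p.2 then z * (p.1 : P) else p.1, p.1, p.1.2, by
      cases p.2 <;> simp⟩
    have hf : Function.Bijective f := by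
      refine ⟨?_, ?_⟩
      · rintro ⟨p, i⟩ ⟨q, j⟩ h
        have h' : (if i then z * (p : P) else p) = if j then z * (q : P) else q :=
          congrArg Subtype.val h
        cases i <;> cases j <;> simp only [Bool.false_eq_true, ↓reduceIte] at h'
        · exact Prod.ext (Subtype.ext h') rfl
        · exact absurd ((eq_mul_inv_of_mul_eq h'.symm) ▸ mul_mem p.2 (B.inv_mem q.2)) hzB
        · exact absurd ((eq_mul_inv_of_mul_eq h') ▸ mul_mem q.2 (B.inv_mem p.2)) hzB
        · exact Prod.ext (Subtype.ext (mul_left_cancel h')) rfl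
      · rintro ⟨_, b, hb, rfl | rfl⟩
        · exact ⟨(⟨_, hb⟩, false), Subtype.ext (by simp [f])⟩
        · exact ⟨(⟨b, hb⟩, true), Subtype.ext (by simp [f])⟩
    rw [← Nat.card_congr (Equiv.ofBijective f hf), Nat.card_prod, hB4,
      show Nat.card Bool = 2 by simp]
  -- central involutions
  have hinvol : ∀ d ∈ zpowers c, ∀ b ∈ B, (d * b) * (d * b) = 1 → d * b ∈ Z := by
    intro d hd b hb h
    have hdb : Commute d b := hDB d (hcle hd) b hb
    have hd2 : d * d = 1 := by
      rwa [← sq, hdb.mul_pow, sq, sq, hB2 b hb, mul_one] at h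
    by_cases hd1 : d = 1
    · exact ⟨b, hb, Or.inl (by rw [hd1, one_mul])⟩
    · exact ⟨b, hb, Or.inr (by rw [eq_of_involution hP hd hzc hd2 hz2 hd1 hz1])⟩
  -- `T` is the whole group
  have htop : T = ⊤ := by
    by_contra hne
    haveI := hP.isNilpotent
    obtain ⟨g₀, hg₀N, hg₀T⟩ :=
      SetLike.exists_of_lt (normalizerCondition_of_isNilpotent T (lt_top_iff_ne_top.mpr hne))
    obtain ⟨g, hgN, hgT, hg2⟩ : ∃ g ∈ normalizer (T : Set P), g ∉ T ∧ g * g ∈ T := by
      obtain ⟨k, hk⟩ := hP g₀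
      have : ∀ k, g₀ ^ 2 ^ k ∈ T → ∃ i, g₀ ^ 2 ^ i ∉ T ∧ g₀ ^ 2 ^ i * g₀ ^ 2 ^ i ∈ T := by
        intro k
        induction k with
        | zero => intro h; rw [pow_zero, pow_one] at h; exact absurd h hg₀T
        | succ k ih =>
          intro h
          by_cases h' : g₀ ^ 2 ^ k ∈ T
          · exact ih h'
          · exact ⟨k, h', by rwa [← pow_add, ← two_mul, ← pow_succ']⟩
      obtain ⟨i, h1, h2⟩ := this k (hk ▸ T.one_mem)
      exact ⟨_, pow_mem hg₀N _, h1, h2⟩
    have hconjT : ∀ t ∈ T, g * t * g⁻¹ ∈ T := fun t ht => (mem_normalizer_iff.mp hgN t).mp ht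
    have hconjT' : ∀ t, g * t * g⁻¹ ∈ T → t ∈ T := fun t ht => (mem_normalizer_iff.mp hgN t).mpr ht
    have hTg : T.map (MulAut.conj g).toMonoidHom = T := by
      ext t
      constructor
      · rintro ⟨s, hs, rfl⟩; exact hconjT s hs
      · intro ht
        exact ⟨g⁻¹ * t * g, hconjT' _ (by
          rwa [show g * (g⁻¹ * t * g) * g⁻¹ = t by group]), by
          show g * (g⁻¹ * t * g) * g⁻¹ = t
          group⟩
    -- `g` fixes `z`
    have hgz : g * z * g⁻¹ = z := by
      have hm : g * z * g⁻¹ ∈ ⁅T, T⁆ := by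
        have h : g * z * g⁻¹ ∈ (⁅T, T⁆).map (MulAut.conj g).toMonoidHom := ⟨z, hzTT, rfl⟩
        rwa [map_commutator, hTg] at h
      have h2 : g * z * g⁻¹ * (g * z * g⁻¹) = 1 := by
        rw [conj_mul, hz2, mul_one, mul_inv_cancel]
      have hc' : ∀ t ∈ T, t * (g * z * g⁻¹) = g * z * g⁻¹ * t := by
        intro t ht
        have h := hzT (g⁻¹ * t * g) (hconjT' _ (by
          rwa [show g * (g⁻¹ * t * g) * g⁻¹ = t by group]))
        calc t * (g * z * g⁻¹) = g * ((g⁻¹ * t * g) * z) * g⁻¹ := by group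
          _ = g * (z * (g⁻¹ * t * g)) * g⁻¹ := by rw [h]
          _ = g * z * g⁻¹ * t := by group
      exact eq_of_involution hP (hcentc _ (hTT hm) hc') hzc h2 hz2
        (fun h => hz1 (conj_eq_one_iff.mp h)) hz1
    have hZcent : ∀ y ∈ Z, ∀ t ∈ T, t * y = y * t := by
      rintro y ⟨b, hb, hy⟩ t ht
      have hb' : t * b = b * t := by
        obtain ⟨d, hd, b', hb', rfl⟩ := hform t ht
        exact (show Commute d b from hDB d hd b hb).mul_left (hBc b' hb' b hb)
      rcases hy with rfl | rfl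
      · exact hb'
      · exact (show Commute t z from hzT t ht).mul_right hb'
    -- `g` permutes `Z`
    have hgZ : ∀ b ∈ B, g * b * g⁻¹ ∈ Z := by
      intro b hb
      obtain ⟨d, hd, b', hb', he⟩ := hform _ (hconjT b (hBT hb))
      have hcent' : ∀ t ∈ T, t * d = d * t := by
        intro t ht
        have h1 := hZcent b ⟨b, hb, Or.inl rfl⟩ (g⁻¹ * t * g) (hconjT' _ (by
          rwa [show g * (g⁻¹ * t * g) * g⁻¹ = t by group]))
        have h2 : Commute t (d * b') := by
          rw [← he]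
          calc t * (g * b * g⁻¹) = g * ((g⁻¹ * t * g) * b) * g⁻¹ := by group
            _ = g * (b * (g⁻¹ * t * g)) * g⁻¹ := by rw [h1]
            _ = g * b * g⁻¹ * t := by group
        have h3 := h2.mul_right
          (show Commute t b'⁻¹ from Commute.inv_right (hZcent b' ⟨b', hb', Or.inl rfl⟩ t ht))
        rwa [mul_inv_cancel_right] at h3
      rw [he]
      refine hinvol d (hcentc d hd hcent') b' hb' ?_
      rw [← he, conj_mul, hB2 b hb, mul_one, mul_inv_cancel]
    -- the products `b * gbg⁻¹` are fixed and meet `B` trivially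
    have hgg : ∀ y ∈ Z, g * (g * y * g⁻¹) * g⁻¹ = y := by
      intro y hy
      rw [show g * (g * y * g⁻¹) * g⁻¹ = g * g * y * (g * g)⁻¹ by group, hZcent y hy _ hg2,
        mul_inv_cancel_right]
    have hphi : ∀ b ∈ B, b * (g * b * g⁻¹) ∈ Z ∧
        g * (b * (g * b * g⁻¹)) * g⁻¹ = b * (g * b * g⁻¹) := by
      intro b hb
      have hbZ : b ∈ Z := ⟨b, hb, Or.inl rfl⟩
      refine ⟨mul_mem hbZ (hgZ b hb), ?_⟩
      rw [← conj_mul, hgg b hbZ]
      exact hZcent b hbZ _ (hZT (hgZ b hb))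
    have hfixB : ∀ b ∈ B, g * b * g⁻¹ = b → b = 1 := fun b hb h => by
      by_contra hb1
      exact hgT (hcent b hb hb1 g (mul_inv_eq_iff_eq_mul.mp h))
    have hinj : Function.Injective
        (fun p : B × B => (⟨((p.1 : P) * (g * p.1 * g⁻¹)) * p.2,
          mul_mem (hphi _ p.1.2).1 ⟨_, p.2.2, Or.inl rfl⟩⟩ : Z)) := by
      rintro ⟨p, q⟩ ⟨p', q'⟩ h
      have h' : ((p : P) * (g * p * g⁻¹)) * q = ((p' : P) * (g * p' * g⁻¹)) * q' :=
        congrArg Subtype.val h
      have hfp := (hphi _ p.2).2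
      have hfp' := (hphi _ p'.2).2
      set u := (p : P) * (g * p * g⁻¹)
      set u' := (p' : P) * (g * p' * g⁻¹)
      have h2 : u'⁻¹ * u = q' * (q : P)⁻¹ := by
        rw [eq_mul_inv_iff_mul_eq, mul_assoc, h', inv_mul_cancel_left]
      have h3 : u'⁻¹ * u = 1 := by
        refine hfixB _ (h2 ▸ mul_mem q'.2 (B.inv_mem q.2)) ?_
        calc g * (u'⁻¹ * u) * g⁻¹ = (g * u' * g⁻¹)⁻¹ * (g * u * g⁻¹) := by group
          _ = u'⁻¹ * u := by rw [hfp, hfp']
      rw [h3] at h2
      have hu : u' = u := inv_mul_eq_one.mp h3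
      -- `p⁻¹ p'` is fixed
      have hpp : (p : P) = p' := by
        have hm : (p : P) * p' = 1 := by
          refine hfixB _ (mul_mem p.2 p'.2) ?_
          have hsw : ∀ x : B, ((x : P) * (g * x * g⁻¹)) = (x : P) * (g * x * g⁻¹) := fun _ => rfl
          have hZp : (p : P) ∈ Z := ⟨_, p.2, Or.inl rfl⟩
          have e1 : g * p * g⁻¹ = (p : P) * u := by
            simp only [u]; rw [← mul_assoc, hB2 _ p.2, one_mul]
          have e2 : g * p' * g⁻¹ = (p' : P) * u' := by
            simp only [u']; rw [← mul_assoc, hB2 _ p'.2, one_mul]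
          have hu2 : u * u = 1 := by
            obtain ⟨b, hb, e⟩ := (hphi _ p.2).1
            have hcb : Commute z b := (hzT b (hBT hb)).symm
            rcases e with e | e <;> rw [show u = _ from e]
            · exact hB2 b hb
            · rw [← sq, hcb.mul_pow, sq, sq, hz2, hB2 b hb, mul_one]
          rw [← conj_mul, e1, e2, hu, mul_assoc (p : P) u,
            ← mul_assoc u, hZcent u (hphi _ p.2).1 (p' : P) (hBT p'.2) |>.symm, mul_assoc (p' : P) u,
            hu2, mul_one]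
        rw [eq_inv_of_mul_eq_one_left hm, inv_eq_of_mul_eq_one_left (hB2 _ p'.2)]
      exact Prod.ext (Subtype.ext hpp) (Subtype.ext (mul_inv_eq_one.mp h2.symm).symm)
    have := Nat.card_le_card_of_injective _ hinj
    rw [Nat.card_prod, hB4, hZ8] at this
    omega
  subst htop
  -- the abelian subgroup of index two
  let M : Subgroup P :=
    { carrier := {t | ∃ d ∈ zpowers c, ∃ b ∈ B, t = d * b}
      one_mem' := ⟨1, one_mem _, 1, B.one_mem, (one_mul _).symm⟩
      mul_mem' := by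
        rintro p q ⟨d, hd, b, hb, rfl⟩ ⟨d', hd', b', hb', rfl⟩
        exact ⟨d * d', mul_mem hd hd', b * b', mul_mem hb hb', by
          rw [mul_assoc, ← mul_assoc b d', ← hDB d' (hcle hd') b hb]; simp only [mul_assoc]⟩
      inv_mem' := by
        rintro p ⟨d, hd, b, hb, rfl⟩
        exact ⟨d⁻¹, inv_mem hd, b⁻¹, inv_mem hb, by
          rw [mul_inv_rev]; exact (hDB _ (inv_mem (hcle hd)) _ (inv_mem hb)).symm⟩ }
  have hMidx : M.index ≤ 2 := by
    rw [← relIndex_top_right]
    refine (relIndex_le_card M ⊤ (fun t => decide (t ∈ M)) Finset.univ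
      (fun t _ => Finset.mem_univ _) fun g _ h _ e => ?_).trans (by simp)
    simp only [decide_eq_decide] at e
    obtain ⟨d, hd, b, hb, rfl⟩ := hform g (mem_top g)
    obtain ⟨d', hd', b', hb', rfl⟩ := hform h (mem_top h)
    by_cases h1 : d * b ∈ M
    · exact mul_mem (inv_mem h1) (e.mp h1)
    · have hd1 : d ∉ zpowers c := fun h => h1 ⟨d, h, b, hb, rfl⟩
      have hd2 : d' ∉ zpowers c := fun h => h1 (e.mpr ⟨d', h, b', hb', rfl⟩)
      refine ⟨d⁻¹ * d', hDcases d hd d' hd' hd1 hd2, b⁻¹ * b', mul_mem (B.inv_mem hb) hb', ?_⟩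
      have hc1 : Commute b⁻¹ (d⁻¹ * d') :=
        (hDB _ (mul_mem (D.inv_mem hd) hd') _ (B.inv_mem hb)).symm
      calc (d * b)⁻¹ * (d' * b') = b⁻¹ * (d⁻¹ * d') * b' := by group
        _ = _ := by rw [hc1.eq]; group
  haveI hMn : M.Normal := by
    rcases Nat.lt_or_ge M.index 2 with hlt | hge
    · rw [index_eq_one.mp (show M.index = 1 by
        have := index_ne_zero_of_finite (H := M); omega)]
      infer_instance
    · exact normal_of_index_eq_two (le_antisymm hMidx hge)
  refine index_le_of_abelian_index_two hP M Z ?_ hMidx hZ8 ?_ K hK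
  · rintro p ⟨d, hd, b, hb, rfl⟩ q ⟨d', hd', b', hb', rfl⟩
    obtain ⟨i, rfl⟩ := mem_zpowers_iff.mp hd
    obtain ⟨j, rfl⟩ := mem_zpowers_iff.mp hd'
    exact ((Commute.zpow_zpow_self c i j).mul_right (hDB _ (hcle hd) b' hb')).mul_left
      ((show Commute b (c ^ j) from (hDB _ (hcle hd') b hb).symm).mul_right (hBc b hb b' hb'))
  · rintro x ⟨d, hd, b, hb, rfl⟩ h
    exact hinvol d hd b hb h

end Cfsg.Agent.PGroups.SelfCentEight
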