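import Cfsg.Agent.Lib.PGroups.SelfCentEight.Count

/-!
An element `u` of `C(E)` commuting with its image and whose square lies outside `E`.
-/

set_option autoImplicit false

namespace Cfsg.Agent.PGroups.SelfCentEight

open Subgroup

variable {G : Type*} [Group G]

/-- In a `2`-group an odd power of a nontrivial element is nontrivial. -/
theorem zpow_odd_ne_one [Finite G] (hG : IsPGroup 2 G) {x : G} (hx : x ≠ 1) (j : ℤ) :
    x ^ (2 * j + 1) ≠ 1 := by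
  intro h
  obtain ⟨k, hk'⟩ := hG x
  have hk : x ^ ((2 : ℤ) ^ k) = 1 := by rw [← hk', ← zpow_natCast]; congr 1
  obtain ⟨s, t, hst⟩ := (show IsCoprime (2 : ℤ) (2 * j + 1) from ⟨-j, 1, by ring⟩).pow_left (m := k)
  refine hx ?_
  calc x = x ^ (s * 2 ^ k + t * (2 * j + 1)) := by rw [hst, zpow_one]
    _ = (x ^ ((2 : ℤ) ^ k)) ^ s * (x ^ (2 * j + 1)) ^ t := by
      rw [← zpow_mul, ← zpow_mul, ← zpow_add, mul_comm s, mul_comm t]
    _ = 1 := by rw [hk, h, one_zpow, one_zpow, one_mul]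

/-- In a `2`-group an odd power generates. -/
theorem mem_zpowers_odd [Finite G] (hG : IsPGroup 2 G) (x : G) (j : ℤ) :
    x ∈ zpowers (x ^ (2 * j + 1)) := by
  obtain ⟨k, hk'⟩ := hG x
  have hk : x ^ ((2 : ℤ) ^ k) = 1 := by rw [← hk', ← zpow_natCast]; congr 1
  obtain ⟨s, t, hst⟩ := (show IsCoprime (2 : ℤ) (2 * j + 1) from ⟨-j, 1, by ring⟩).pow_left (m := k)
  refine mem_zpowers_iff.mpr ⟨t, ?_⟩
  calc (x ^ (2 * j + 1)) ^ t = (x ^ ((2 : ℤ) ^ k)) ^ s * x ^ ((2 * j + 1) * t) := by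
        rw [hk, one_zpow, one_mul, zpow_mul]
    _ = x ^ (s * 2 ^ k + t * (2 * j + 1)) := by
      rw [← zpow_mul, ← zpow_add, mul_comm s, mul_comm t]
    _ = x := by rw [hst, zpow_one]

/-- A cyclic group has at most one involution. -/
theorem eq_of_involution [Finite G] (hG : IsPGroup 2 G) {g x y : G} (hx : x ∈ zpowers g)
    (hy : y ∈ zpowers g) (hx2 : x * x = 1) (hy2 : y * y = 1) (hx1 : x ≠ 1) (hy1 : y ≠ 1) :
    x = y := by
  obtain ⟨i, rfl⟩ := mem_zpowers_iff.mp hx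
  obtain ⟨j, rfl⟩ := mem_zpowers_iff.mp hy
  rw [← zpow_add, ← orderOf_dvd_iff_zpow_eq_one] at hx2 hy2
  have hi : ¬ ((orderOf g : ℤ) ∣ i) := fun h => hx1 (orderOf_dvd_iff_zpow_eq_one.mp h)
  have hj : ¬ ((orderOf g : ℤ) ∣ j) := fun h => hy1 (orderOf_dvd_iff_zpow_eq_one.mp h)
  obtain ⟨a, ha⟩ := hx2
  obtain ⟨b, hb⟩ := hy2
  obtain ⟨a', rfl | rfl⟩ := Int.even_or_odd' a
  · exact absurd ⟨a', by linarith⟩ hi
  obtain ⟨b', rfl | rfl⟩ := Int.even_or_odd' b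
  · exact absurd ⟨b', by linarith⟩ hj
  refine zpow_eq_zpow_iff_modEq.mpr (Int.modEq_iff_dvd.mpr ⟨b' - a', by linarith⟩)

namespace Eight

variable {S : Eight G} {u : G}

/-- The hypotheses on `u`. -/
structure IsLong (S : Eight G) (u : G) : Prop where
  mem : u ∈ S.C
  nsq : u ^ 2 ∉ S.E
  comm : Commute u (S.σ u)

theorem IsLong.sq_inverted (hu : IsLong S u) {y : G} (hy : y ∈ zpowers (u ^ 2)) :
    S.σ y = y⁻¹ := by
  obtain ⟨i, rfl⟩ := mem_zpowers_iff.mp hy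
  rw [S.σ_zpow, S.σ_sq hu.mem hu.comm, inv_zpow]

theorem IsLong.mem_C (hu : IsLong S u) {y : G} (hy : y ∈ zpowers (u ^ 2)) : y ∈ S.C :=
  (zpowers_le.mpr (pow_mem hu.mem 2)) hy

theorem IsLong.mem_E_of_sq (hu : IsLong S u) {y : G} (hy : y ∈ zpowers (u ^ 2))
    (h : y * y = 1) : y ∈ S.E :=
  S.fixed (hu.mem_C hy) (by rw [hu.sq_inverted hy, inv_eq_of_mul_eq_one_left h])

theorem IsLong.quad_ne (hu : IsLong S u) : (u ^ 2) * (u ^ 2) ≠ 1 := fun h =>
  hu.nsq (hu.mem_E_of_sq (mem_zpowers _) h)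

theorem IsLong.sq_ne_one (hu : IsLong S u) : u ^ 2 ≠ 1 := fun h =>
  hu.nsq (h ▸ S.E.one_mem)

theorem IsLong.sq_form (hu : IsLong S u) {x e : G} {i : ℤ} (he : e ∈ S.E) (hx : x = e * u ^ i) :
    x * x = (u ^ 2) ^ i := by
  have hc : e * u ^ i = u ^ i * e := S.comm_C (zpow_mem hu.mem i) he
  calc x * x = (e * u ^ i) * (u ^ i * e) := by rw [hx]; nth_rewrite 2 [hc]; rfl
    _ = e * (u ^ i * u ^ i) * e := by simp only [mul_assoc]
    _ = (u ^ i * u ^ i) * (e * e) := by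
      rw [S.comm_C (mul_mem (zpow_mem hu.mem i) (zpow_mem hu.mem i)) he]; simp only [mul_assoc]
    _ = (u ^ 2) ^ i := by
      rw [S.sqE e he, mul_one, ← zpow_natCast u 2, ← zpow_add, ← zpow_mul]
      congr 1
      push_cast
      ring

theorem IsLong.omega [Finite G] (hu : IsLong S u) {x e : G} {i : ℤ} (he : e ∈ S.E)
    (hx : x = e * u ^ i) (h : x * x = 1) : x ∈ S.E := by
  rw [hu.sq_form he hx] at h
  obtain ⟨j, rfl | rfl⟩ := Int.even_or_odd' i
  · rw [hx]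
    refine mul_mem he ?_
    have e2 : u ^ (2 * j) = (u ^ 2) ^ j := by rw [zpow_mul]; norm_cast
    rw [e2]
    refine hu.mem_E_of_sq (zpow_mem (mem_zpowers _) j) ?_
    rw [← zpow_add, ← h]
    congr 1
    ring
  · exact absurd h (zpow_odd_ne_one S.isTwo hu.sq_ne_one j)

theorem IsLong.fibre [Finite G] (hu : IsLong S u) {x y : G}
    (hx : x ∈ S.E ⊔ zpowers u) (hy : y ∈ S.E ⊔ zpowers u) (h : x * x = y * y) :
    x⁻¹ * y ∈ S.E := by
  haveI := S.normalE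
  have hcomm : Commute x y := by
    obtain ⟨e, he, s, hs, rfl⟩ := mem_sup_of_normal_left.mp hx
    obtain ⟨f, hf, t, ht, rfl⟩ := mem_sup_of_normal_left.mp hy
    obtain ⟨i, rfl⟩ := mem_zpowers_iff.mp hs
    obtain ⟨j, rfl⟩ := mem_zpowers_iff.mp ht
    have h1 : Commute e (u ^ j) := S.comm_C (zpow_mem hu.mem j) he
    have h2 : Commute (u ^ i) f := (S.comm_C (zpow_mem hu.mem i) hf).symm
    exact ((show Commute e f from S.commE e he f hf).mul_right h1).mul_left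
      (h2.mul_right (Commute.zpow_zpow_self u i j))
  have hm : x⁻¹ * y ∈ S.E ⊔ zpowers u := mul_mem (inv_mem hx) hy
  obtain ⟨e, he, s, hs, hes⟩ := mem_sup_of_normal_left.mp hm
  obtain ⟨i, rfl⟩ := mem_zpowers_iff.mp hs
  refine hu.omega he hes.symm ?_
  rw [← sq, hcomm.inv_left.mul_pow, inv_pow, sq, sq, h, inv_mul_cancel]

/-- The involution of the cyclic group of squares. -/
theorem IsLong.exists_socle [Finite G] (hu : IsLong S u) :
    ∃ e₀, S.IsV e₀ ∧ e₀ ≠ 1 ∧ e₀ ≠ S.w ∧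
      (∀ x ∈ zpowers (u ^ 2), x * x = 1 → x = 1 ∨ x = e₀) ∧
      ((∀ x ∈ S.C, x ^ 4 ∈ zpowers (u ^ 2)) → ∀ g, g * e₀ * g⁻¹ = e₀) := by
  obtain ⟨n, h4, h2⟩ := FourGenerator.exists_order_four S.isTwo
    (v := u ^ 2) (by rw [sq]; exact hu.quad_ne)
  set y := (u ^ 2) ^ n with hy
  have hymem : y ∈ zpowers (u ^ 2) := pow_mem (mem_zpowers _) n
  have hy2 : y * y ≠ 1 := by rw [← sq]; exact h2
  have hy4 : (y * y) * (y * y) = 1 := by rw [← h4]; simp only [pow_succ, pow_zero, one_mul, mul_assoc]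
  have he : y * y ∈ S.E := hu.mem_E_of_sq (mul_mem hymem hymem) hy4
  have huniq : ∀ x ∈ zpowers (u ^ 2), x * x = 1 → x = 1 ∨ x = y * y := fun x hx hx2 => by
    by_cases hx1 : x = 1
    · exact Or.inl hx1
    · exact Or.inr (eq_of_involution S.isTwo hx (mul_mem hymem hymem) hx2 hy4 hx1 hy2)
  refine ⟨y * y, ⟨he, ?_⟩, hy2, S.sq_ne_w (hu.mem_C hymem) (hu.sq_inverted hymem) hy2, huniq,
    fun hall g => ?_⟩
  · rw [S.σ_mul, hu.sq_inverted hymem, ← mul_inv_rev, inv_eq_of_mul_eq_one_left hy4]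
  · have hg : g * (y * y) * g⁻¹ ∈ zpowers (u ^ 2) := by
      have e : g * (y * y) * g⁻¹ = (g * u ^ n * g⁻¹) ^ 4 := by
        rw [conj_pow, hy, ← sq, ← pow_mul, ← pow_mul, ← pow_mul]
        congr 3
        ring
      rw [e]
      exact hall _ (S.normalC.conj_mem _ (pow_mem hu.mem n) g)
    rcases huniq _ hg (by
      rw [← sq, conj_pow, sq, hy4, mul_one, mul_inv_cancel]) with h | h
    · exact absurd (conj_eq_one_iff.mp h) hy2
    · exact h

end Eight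

end Cfsg.Agent.PGroups.SelfCentEight
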