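import Mathlib.GroupTheory.PGroup
import Mathlib.GroupTheory.SpecificGroups.Cyclic
import Mathlib.GroupTheory.QuotientGroup.Basic
import Mathlib.Tactic.Group

/-!
A finite `2`-group with an involutory automorphism fixing at most two elements is cyclic, or it is
generated by an element `c` and its image, where the two have the same fixed square.
-/

set_option autoImplicit false

namespace Cfsg.Agent.PGroups.SelfCentEight

open Subgroup

/-- A finite `2`-group with an involutory map of order two fixing `1` fixes a second element. -/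
theorem exists_other_fixed {X : Type*} [Fintype X] [DecidableEq X] (e : X → X)
    (he : Function.Involutive e) (heven : Even (Fintype.card X)) {x₀ : X} (hx : e x₀ = x₀) :
    ∃ y, y ≠ x₀ ∧ e y = y := by
  by_contra! h
  let σ : Equiv.Perm X := he.toPerm
  have hσ : σ ^ (2 ^ 1) = 1 := by
    ext y
    simp only [pow_one, sq, Equiv.Perm.mul_apply, Equiv.Perm.one_apply]
    exact he y
  have hsupp : σ.support = Finset.univ.erase x₀ := by
    ext y
    simp only [Equiv.Perm.mem_support, Finset.mem_erase, Finset.mem_univ, and_true]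
    exact ⟨fun hy e' => hy (by rw [e']; exact hx), fun hy => h y hy⟩
  have h2 : (Finset.univ.erase x₀).card % 2 = 0 := by
    rw [← hsupp]
    haveI : Fact (Nat.Prime 2) := ⟨Nat.prime_two⟩
    have := Equiv.Perm.card_compl_support_modEq (p := 2) hσ
    rw [Finset.card_compl] at this
    have hle := Finset.card_le_univ σ.support
    obtain ⟨r, hr⟩ := heven
    unfold Nat.ModEq at this
    omega
  rw [Finset.card_erase_of_mem (Finset.mem_univ _), Finset.card_univ] at h2
  obtain ⟨r, hr⟩ := heven
  have : 0 < Fintype.card X := Fintype.card_pos_iff.mpr ⟨x₀⟩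
  omega

theorem exists_order_two_power {D : Type*} [Group D] [Finite D] (hD : IsPGroup 2 D) {v : D}
    (hv : v ≠ 1) : ∃ n : ℕ, v ^ n ≠ 1 ∧ (v ^ n) ^ 2 = 1 := by
  obtain ⟨k, hk⟩ := hD v
  induction k with
  | zero => rw [pow_zero, pow_one] at hk; exact absurd hk hv
  | succ k ih =>
    by_cases h : v ^ 2 ^ k = 1
    · exact ih h
    · exact ⟨2 ^ k, h, by rw [← pow_mul, ← pow_succ]; exact hk⟩

variable {D : Type*} [Group D]

/-- A fixed element other than one, when there is at most one. -/
theorem eq_of_fixed (α : D ≃* D) (hfix : ∀ x y, α x = x → α y = y → x ≠ 1 → y ≠ 1 → x = y)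
    {z : D} (hz : α z = z) (hz1 : z ≠ 1) {x : D} (hx : α x = x) : x = 1 ∨ x = z := by
  by_cases h : x = 1
  · exact Or.inl h
  · exact Or.inr (hfix x z hx hz h hz1)

theorem structure_aux : ∀ n : ℕ, ∀ (D : Type _) [Group D] [Finite D], Nat.card D = n →
    IsPGroup 2 D → ∀ α : D ≃* D, (∀ x, α (α x) = x) →
      (∀ x y, α x = x → α y = y → x ≠ 1 → y ≠ 1 → x = y) →
        IsCyclic D ∨ ∃ c, closure {c, α c} = ⊤ ∧ α (c ^ 2) = c ^ 2 := by
  intro n
  induction n using Nat.strong_induction_on with
  | _ n ih =>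
  intro D _ _ hn hD α hα hfix
  rcases subsingleton_or_nontrivial D with hs | hs
  · exact Or.inl ⟨⟨1, fun x => ⟨0, Subsingleton.elim _ _⟩⟩⟩
  haveI : Fact (Nat.Prime 2) := ⟨Nat.prime_two⟩
  -- a central fixed element
  obtain ⟨z, hzc, hz, hz1⟩ : ∃ z, z ∈ center D ∧ α z = z ∧ z ≠ 1 := by
    classical
    haveI := hD.center_nontrivial
    haveI := Fintype.ofFinite (center D)
    have hmem : ∀ x : center D, α (x : D) ∈ center D := fun x => mem_center_iff.mpr fun g => by
      have := congrArg α (mem_center_iff.mp x.2 (α g))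
      rwa [map_mul, map_mul, hα] at this
    obtain ⟨k, hk⟩ := (hD.to_subgroup (center D)).exists_card_eq
    have hk0 : k ≠ 0 := fun h => by
      rw [h, pow_zero] at hk
      have := Finite.one_lt_card (α := center D)
      omega
    obtain ⟨y, hy1, hy⟩ := exists_other_fixed (fun x : center D => (⟨α x, hmem x⟩ : center D))
      (fun x => Subtype.ext (hα x))
      (by rw [← Nat.card_eq_fintype_card, hk]; exact Nat.even_pow.mpr ⟨even_two, hk0⟩)
      (x₀ := 1) (Subtype.ext (map_one α))
    exact ⟨y, y.2, congrArg Subtype.val hy, fun h => hy1 (Subtype.ext h)⟩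
  have hz2 : z * z = 1 := by
    rcases eq_of_fixed α hfix hz hz1 (x := z * z) (by rw [map_mul, hz]) with h | h
    · exact h
    · exact absurd (mul_eq_left.mp h) hz1
  have hcomm : ∀ g : D, g * z = z * g := mem_center_iff.mp hzc
  let Z : Subgroup D :=
    { carrier := {x | x = 1 ∨ x = z}
      one_mem' := Or.inl rfl
      mul_mem' := by
        rintro a b (rfl | rfl) (rfl | rfl) <;> simp [hz2]
      inv_mem' := by
        rintro a (rfl | rfl)
        · simp
        · exact Or.inr (inv_eq_of_mul_eq_one_left hz2) }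
  have hmemZ : ∀ x, x ∈ Z ↔ x = 1 ∨ x = z := fun _ => Iff.rfl
  haveI hZn : Z.Normal := ⟨fun x hx g => by
    rcases hx with rfl | rfl
    · simp
    · rw [hcomm g, mul_inv_cancel_right]; exact Or.inr rfl⟩
  have hαZ : ∀ x ∈ Z, α x = x := by
    rintro x (rfl | rfl)
    exacts [map_one α, hz]
  let π := QuotientGroup.mk' Z
  have hmap : Z.map (α : D →* D) = Z := by
    ext x
    exact ⟨fun ⟨y, hy, e⟩ => by rw [← e]; change α y ∈ Z; rw [hαZ y hy]; exact hy,
      fun hx => ⟨x, hx, hαZ x hx⟩⟩
  let β : D ⧸ Z ≃* D ⧸ Z := QuotientGroup.congr Z Z α hmap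
  have hβ : ∀ x : D, β (π x) = π (α x) := fun x => rfl
  have hπ : ∀ x y : D, π x = π y → y = x ∨ y = x * z := by
    intro x y h
    rcases (hmemZ _).mp (QuotientGroup.eq.mp h) with e | e
    · exact Or.inl (inv_mul_eq_one.mp e).symm
    · exact Or.inr (inv_mul_eq_iff_eq_mul.mp e)
  have hlt : Nat.card (D ⧸ Z) < n := by
    rw [← hn, card_eq_card_quotient_mul_card_subgroup Z]
    haveI : Nontrivial Z := ⟨⟨1, Or.inl rfl⟩, ⟨z, Or.inr rfl⟩, fun h =>
      hz1 (congrArg Subtype.val h).symm⟩
    exact lt_mul_of_one_lt_right Nat.card_pos Finite.one_lt_card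
  -- the fixed points of the quotient
  have hfixQ : ∀ x y : D ⧸ Z, β x = x → β y = y → x ≠ 1 → y ≠ 1 → x = y := by
    intro x y
    obtain ⟨x, rfl⟩ := QuotientGroup.mk'_surjective Z x
    obtain ⟨y, rfl⟩ := QuotientGroup.mk'_surjective Z y
    intro hx hy hx1 hy1
    have hout : ∀ v : D, π v ≠ 1 → v ≠ 1 ∧ v ≠ z := fun v hv =>
      ⟨fun e => hv (by rw [e, map_one]), fun e => hv (by
        rw [e]; exact (QuotientGroup.eq_one_iff z).mpr (Or.inr rfl))⟩
    have hxa : α x = x * z := (hπ _ _ hx.symm).resolve_left fun e => by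
      rcases eq_of_fixed α hfix hz hz1 e with h | h
      exacts [(hout x hx1).1 h, (hout x hx1).2 h]
    have hya : α y = y * z := (hπ _ _ hy.symm).resolve_left fun e => by
      rcases eq_of_fixed α hfix hz hz1 e with h | h
      exacts [(hout y hy1).1 h, (hout y hy1).2 h]
    have hxy : α (x * y⁻¹) = x * y⁻¹ := by
      rw [map_mul, map_inv, hxa, hya, mul_inv_rev, mul_assoc x z, ← mul_assoc z,
        mul_inv_cancel, one_mul]
    refine (QuotientGroup.eq.mpr ?_)
    have hm : x * y⁻¹ ∈ Z := eq_of_fixed α hfix hz hz1 hxy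
    have := inv_mem (hZn.conj_mem _ hm x⁻¹)
    rw [inv_inv, inv_mul_cancel_left] at this
    simpa using this
  rcases ih _ hlt (D ⧸ Z) rfl (hD.to_quotient Z) β
    (fun x => by
      obtain ⟨x, rfl⟩ := QuotientGroup.mk'_surjective Z x
      rw [hβ, hβ, hα]) hfixQ with hcyc | ⟨c', hgen, hc'⟩
  · -- cyclic quotient
    obtain ⟨g, hg⟩ := hcyc.exists_generator
    obtain ⟨y, rfl⟩ := QuotientGroup.mk'_surjective Z g
    have hform : ∀ x, ∃ i : ℤ, x = y ^ i ∨ x = y ^ i * z := fun x => by
      obtain ⟨i, hi⟩ := mem_zpowers_iff.mp (hg (π x))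
      exact ⟨i, hπ _ _ (by rw [map_zpow]; exact hi)⟩
    by_cases hzy : z ∈ zpowers y
    · refine Or.inl ⟨⟨y, fun x => ?_⟩⟩
      obtain ⟨i, rfl | rfl⟩ := hform x
      exacts [zpow_mem (mem_zpowers y) i, mul_mem (zpow_mem (mem_zpowers y) i) hzy]
    · by_cases hy2 : y ^ 2 = 1
      · have hy0 : ∀ i : ℤ, y ^ i = 1 ∨ y ^ i = y := fun i => by
          rcases Int.even_or_odd' i with ⟨j, rfl | rfl⟩
          · left; rw [zpow_mul, zpow_two, ← sq, hy2, one_zpow]
          · right; rw [zpow_add_one, zpow_mul, zpow_two, ← sq, hy2, one_zpow, one_mul]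
        by_cases hy1 : y = 1
        · refine Or.inl ⟨⟨z, fun x => ?_⟩⟩
          obtain ⟨i, rfl | rfl⟩ := hform x
          · rw [hy1, one_zpow]; exact ⟨0, zpow_zero _⟩
          · rw [hy1, one_zpow, one_mul]; exact mem_zpowers z
        have hay : α y = y * z := by
          obtain ⟨i, e | e⟩ := hform (α y) <;> rcases hy0 i with h | h <;> rw [h] at e
          · exact absurd (α.map_eq_one_iff.mp e) hy1
          · rcases eq_of_fixed α hfix hz hz1 e with k | k
            exacts [absurd k hy1, absurd (k ▸ mem_zpowers y) hzy]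
          · rw [one_mul] at e
            have k : y = z := by rw [← hα y, e, hz]
            exact absurd (k ▸ mem_zpowers y) hzy
          · exact e
        refine Or.inr ⟨y, eq_top_iff.mpr fun x _ => ?_, by rw [hy2, map_one]⟩
        have hy_mem : y ∈ closure ({y, α y} : Set D) := subset_closure (Or.inl rfl)
        have hay_mem : α y ∈ closure ({y, α y} : Set D) := subset_closure (Or.inr rfl)
        have hz_mem : z ∈ closure ({y, α y} : Set D) := by
          have := mul_mem (inv_mem hy_mem) hay_mem
          have e : y⁻¹ * α y = z := by rw [hay, inv_mul_cancel_left]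
          rwa [e] at this
        obtain ⟨j, rfl | rfl⟩ := hform x
        exacts [zpow_mem hy_mem j, mul_mem (zpow_mem hy_mem j) hz_mem]
      · exfalso
        obtain ⟨m, hm1, hm2⟩ := exists_order_two_power hD hy2
        set v := (y ^ 2) ^ m with hv
        obtain ⟨i, hi⟩ := hform (α y)
        have hay2 : α (y ^ 2) = (y ^ 2) ^ i := by
          rw [map_pow]
          rcases hi with e | e <;> rw [e]
          · rw [← zpow_natCast, ← zpow_mul, mul_comm, zpow_mul, zpow_natCast]
          · rw [(show Commute (y ^ i) z from hcomm _).mul_pow, sq z, hz2, mul_one, ← zpow_natCast,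
              ← zpow_mul, mul_comm, zpow_mul, zpow_natCast]
        have hav : α v = v ^ i := by
          rw [hv, map_pow, hay2, ← zpow_natCast, ← zpow_mul, mul_comm, zpow_mul, zpow_natCast]
        have hvv : v ^ (2 : ℤ) = 1 := by rw [zpow_two, ← sq, hm2]
        rcases Int.even_or_odd' i with ⟨j, rfl | rfl⟩
        · rw [zpow_mul, hvv, one_zpow] at hav
          exact hm1 (by rw [← hα v, hav, map_one])
        · rw [zpow_add_one, zpow_mul, hvv, one_zpow, one_mul] at hav
          rcases eq_of_fixed α hfix hz hz1 hav with h | h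
          · exact hm1 h
          · exact hzy (h ▸ pow_mem (pow_mem (mem_zpowers y) 2) m)
  -- two-generated quotient
  obtain ⟨c, rfl⟩ := QuotientGroup.mk'_surjective Z c'
  set d := α c with hd
  have hform : ∀ x, ∃ k ∈ closure ({c, d} : Set D), x = k ∨ x = k * z := fun x => by
    have hm : π x ∈ (closure ({c, d} : Set D)).map π := by
      rw [MonoidHom.map_closure, Set.image_pair]
      rw [hβ] at hgen
      exact hgen ▸ mem_top _
    obtain ⟨k, hk, e⟩ := hm
    exact ⟨k, hk, hπ _ _ e⟩
  by_cases hzK : z ∈ closure ({c, d} : Set D)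
  swap
  · -- the subgroup generated by `c` and `d` has no fixed element
    by_cases hK : closure ({c, d} : Set D) = ⊥
    · refine Or.inl ⟨⟨z, fun x => ?_⟩⟩
      obtain ⟨k, hk, e⟩ := hform x
      rw [hK, mem_bot] at hk
      rcases e with rfl | rfl
      · rw [hk]; exact ⟨0, zpow_zero _⟩
      · rw [hk, one_mul]; exact mem_zpowers z
    exfalso
    classical
    set K := closure ({c, d} : Set D) with hKdef
    haveI := Fintype.ofFinite K
    have hKα : ∀ x : K, α (x : D) ∈ K := by
      intro x
      have : K.map (α : D →* D) ≤ K := by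
        rw [hKdef, MonoidHom.map_closure, closure_le]
        rintro y ⟨x, hx | hx, rfl⟩
        · rw [hx]; exact subset_closure (Or.inr rfl)
        · rw [Set.mem_singleton_iff.mp hx]
          change α d ∈ _
          rw [hd, hα]; exact subset_closure (Or.inl rfl)
      exact this ⟨x, x.2, rfl⟩
    obtain ⟨k, hk⟩ := (hD.to_subgroup K).exists_card_eq
    have hk0 : k ≠ 0 := fun h => hK (K.eq_bot_of_card_eq (by rw [hk, h, pow_zero]))
    obtain ⟨y, hy1, hy⟩ := exists_other_fixed (fun x : K => (⟨α x, hKα x⟩ : K))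
      (fun x => Subtype.ext (hα x))
      (by rw [← Nat.card_eq_fintype_card, hk]; exact Nat.even_pow.mpr ⟨even_two, hk0⟩)
      (x₀ := 1) (Subtype.ext (map_one α))
    rcases eq_of_fixed α hfix hz hz1 (congrArg Subtype.val hy) with h | h
    · exact hy1 (Subtype.ext h)
    · exact hzK (h ▸ y.2)
  have hgenD : closure ({c, d} : Set D) = ⊤ := eq_top_iff.mpr fun x _ => by
    obtain ⟨k, hk, rfl | rfl⟩ := hform x
    exacts [hk, mul_mem hk hzK]
  by_cases hcd : α (c ^ 2) = c ^ 2
  · exact Or.inr ⟨c, hgenD, hcd⟩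
  set y := c ^ 2 with hy
  have hay : α y = y * z := by
    have h : π (α y) = π y := by
      rw [← hβ, hy, map_pow π]
      exact hc'
    exact (hπ _ _ h.symm).resolve_left hcd
  have hdd : d * d = y * z := by rw [hd, ← map_mul, ← sq]; exact hay
  have hcy : Commute y c := (Commute.refl c).pow_left 2
  have hdy : Commute y d := by
    have h1 : Commute (y * z) d := by rw [← hdd]; exact (Commute.refl d).mul_left (Commute.refl d)
    have h2 : Commute z d := (hcomm d).symm
    have := h1.mul_left h2
    rwa [mul_assoc, hz2, mul_one] at this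
  have hycent : ∀ g : D, Commute y g := by
    intro g
    have : (closure ({c, d} : Set D)) ≤ centralizer {y} := by
      rw [closure_le]
      rintro x (rfl | hx)
      · exact mem_centralizer_singleton_iff.mpr hcy.symm.eq
      · rw [Set.mem_singleton_iff.mp hx]; exact mem_centralizer_singleton_iff.mpr hdy.symm.eq
    rw [hgenD] at this
    exact (mem_centralizer_singleton_iff.mp (this (mem_top g))).symm
  have hy2 : y * y = 1 ∨ y * y = z := eq_of_fixed α hfix hz hz1 (by
    rw [map_mul, hay]
    calc y * z * (y * z) = y * (z * y) * z := by group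
      _ = y * (y * z) * z := by rw [hcomm y]
      _ = y * y * (z * z) := by group
      _ = y * y := by rw [hz2, mul_one])
  set w := c * d with hw
  have hdc : α w = d * c := by rw [hw, map_mul, hd, hα]
  have hwdc : w * (d * c) = y * y * z := by
    calc w * (d * c) = c * (d * d) * c := by rw [hw]; group
      _ = c * (y * z) * c := by rw [hdd]
      _ = y * z * (c * c) := by
        rw [← mul_assoc c, ← hcy.eq, mul_assoc y c z, hcomm c]; group
      _ = y * z * y := by rw [hy, sq]
      _ = y * y * z := by rw [mul_assoc, ← hcomm y, ← mul_assoc]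
  have hcw : c * w * c⁻¹ = d * c := by
    calc c * w * c⁻¹ = y * d * c⁻¹ := by rw [hw, hy, sq]; group
      _ = d * (y * c⁻¹) := by rw [hdy.eq, mul_assoc]
      _ = d * c := by rw [hy, sq, mul_inv_cancel_right]
  have hηc : ∀ g : D, Commute (y * y * z) g := fun g =>
    ((hycent g).mul_left (hycent g)).mul_left (hcomm g).symm
  have hη2 : (y * y * z) * (y * y * z) = 1 := by
    rcases hy2 with h | h <;> rw [h] <;> simp [hz2]
  have hdc' : d * c = w⁻¹ * (y * y * z) := by rw [← hwdc, inv_mul_cancel_left]
  have hw2 : α (w ^ 2) = (w ^ 2)⁻¹ ∧ c * w ^ 2 * c⁻¹ = (w ^ 2)⁻¹ := by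
    have e : (d * c) ^ 2 = (w ^ 2)⁻¹ := by
      rw [hdc', ((hηc w⁻¹).symm).mul_pow, sq (y * y * z), hη2, mul_one, inv_pow]
    exact ⟨by rw [map_pow, hdc, e], by rw [← conj_pow, hcw, e]⟩
  have hcontra : ∀ v : D, α (v * y) = v * y → v * y = 1 ∨ v * y = z := fun v h =>
    eq_of_fixed α hfix hz hz1 h
  have hvc : ∀ v : D, (v * y = 1 ∨ v * y = z) → ∀ g, Commute v g := by
    intro v h g
    rcases h with h | h
    · rw [eq_inv_of_mul_eq_one_left h]; exact (hycent g).inv_left
    · rw [eq_mul_inv_of_mul_eq h]; exact (show Commute z g from (hcomm g).symm).mul_left (hycent g).inv_left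
  by_cases hw4 : (w ^ 2) ^ 2 = 1
  swap
  · exfalso
    obtain ⟨n, hn4, hn2⟩ := exists_order_two_power hD hw4
    set v := (w ^ 2) ^ n with hv
    have hvv : v * v ≠ 1 := fun h => hn4 (by
      rw [← pow_mul, mul_comm, pow_mul, ← hv, sq, h])
    have hv4 : (v * v) * (v * v) = 1 := by
      rw [← sq v, ← sq, hv, ← pow_mul (w ^ 2), mul_comm n 2, pow_mul, hn2]
    have hav : α v = v⁻¹ := by rw [hv, map_pow, hw2.1, inv_pow]
    have hcv : c * v * c⁻¹ = v⁻¹ := by rw [hv, ← conj_pow, hw2.2, inv_pow]
    have hvz : v * v = z := (eq_of_fixed α hfix hz hz1 (x := v * v) (by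
      rw [map_mul, hav, ← mul_inv_rev]; exact inv_eq_of_mul_eq_one_left hv4)).resolve_left hvv
    have hfinish : (v * y = 1 ∨ v * y = z) → False := fun h => hvv <| by
      have e : c * v * c⁻¹ = v := by rw [(hvc v h c).symm.eq, mul_inv_cancel_right]
      rw [hcv] at e
      calc v * v = v⁻¹ * v := by rw [e]
        _ = 1 := inv_mul_cancel v
    refine hfinish ?_
    have hvy : Commute v y := (hycent v).symm
    rcases hy2 with h | h
    · -- `y` is an involution
      refine hcontra v ?_
      have e : v⁻¹ = v * z := by rw [← hvz, inv_eq_iff_mul_eq_one, ← hv4]; group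
      rw [map_mul, hav, hay, e, mul_assoc v z, ← mul_assoc z, ← hcomm y, mul_assoc y, hz2,
        mul_one]
    · -- `y` has order four
      refine hcontra v ?_
      have e : (v * y) * (v * y) = 1 := by
        rw [← sq, hvy.mul_pow, sq, sq, hvz, h, hz2]
      have hyinv : y⁻¹ = y * z := by
        rw [← h, inv_eq_iff_mul_eq_one, ← mul_assoc, h, hz2]
      rw [map_mul, hav, hay, ← hyinv, ← mul_inv_rev, (hvy.symm).eq]
      exact inv_eq_of_mul_eq_one_left e
  -- small cases
  have hw2fix : α (w ^ 2) = w ^ 2 := by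
    rw [hw2.1]
    exact inv_eq_of_mul_eq_one_left (by rw [← sq]; exact hw4)
  have hw2z : w * w = 1 ∨ w * w = z := by rw [← sq]; exact eq_of_fixed α hfix hz hz1 hw2fix
  have hwy : Commute w y := (hycent w).symm
  have hfinish2 : ((w * y = 1 ∨ w * y = z)) → False := by
    intro h
    -- then `d` is `c` up to `z`, so the squares agree
    have : d = c ∨ d = c * z := by
      have hcc : c⁻¹ * y⁻¹ = c⁻¹ * c⁻¹ * c⁻¹ := by rw [hy, sq]; group
      rcases h with h | h
      · have e : d = c⁻¹ * y⁻¹ := by rw [← eq_inv_of_mul_eq_one_left h, hw, inv_mul_cancel_left]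
        rcases hy2 with k | k
        · left; rw [e, inv_eq_of_mul_eq_one_left k, hy, sq, inv_mul_cancel_left]
        · right
          rw [e, show y⁻¹ = y * z by rw [← k, inv_eq_iff_mul_eq_one, ← mul_assoc, k, hz2], hy, sq]
          group
      · have e : d = c⁻¹ * (z * y⁻¹) := by
          rw [← eq_mul_inv_of_mul_eq h, hw, inv_mul_cancel_left]
        rcases hy2 with k | k
        · right
          rw [e, inv_eq_of_mul_eq_one_left k, ← hcomm y, hy, sq]
          group
        · left
          rw [e, show y⁻¹ = y * z by rw [← k, inv_eq_iff_mul_eq_one, ← mul_assoc, k, hz2],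
            ← mul_assoc z, ← hcomm y, mul_assoc y, hz2, mul_one, hy, sq]
          group
    refine hcd ?_
    rw [hay]
    have e2 : d * d = c * c := by
      rcases this with e | e
      · rw [e]
      · rw [e, mul_assoc c z, ← mul_assoc z, ← hcomm c, mul_assoc c z z, hz2, mul_one]
    rw [← hdd, e2, hy, sq]
  rcases hy2 with h | h
  · -- `y` is an involution
    have haw : α w = w⁻¹ * z := by rw [hdc, hdc', h, one_mul]
    rcases hw2z with k | k
    · refine absurd ?_ hfinish2
      refine hcontra w ?_
      rw [map_mul, haw, hay, inv_eq_of_mul_eq_one_left k, mul_assoc w z, ← mul_assoc z,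
        ← hcomm y, mul_assoc y, hz2, mul_one]
    · exfalso
      have : α w = w := by rw [haw, ← k, inv_mul_cancel_left]
      rcases eq_of_fixed α hfix hz hz1 this with e | e
      · rw [e, one_mul] at k; exact hz1 k.symm
      · rw [e, hz2] at k; exact hz1 k.symm
  · -- `y` has order four
    have haw : α w = w⁻¹ := by rw [hdc, hdc', h, hz2, mul_one]
    have hyinv : y⁻¹ = y * z := by rw [← h, inv_eq_iff_mul_eq_one, ← mul_assoc, h, hz2]
    rcases hw2z with k | k
    · -- the group is cyclic
      have hwfix : α w = w := by rw [haw]; exact inv_eq_of_mul_eq_one_left k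
      refine Or.inl ⟨⟨c, fun x => ?_⟩⟩
      have hzc' : z ∈ zpowers c := by
        rw [← h]; exact mul_mem (pow_mem (mem_zpowers c) 2) (pow_mem (mem_zpowers c) 2)
      have hdm : d ∈ zpowers c := by
        rcases eq_of_fixed α hfix hz hz1 hwfix with e | e
        · rw [eq_inv_of_mul_eq_one_right e]; exact inv_mem (mem_zpowers c)
        · rw [eq_inv_mul_of_mul_eq e]; exact mul_mem (inv_mem (mem_zpowers c)) hzc'
      have hle : closure ({c, d} : Set D) ≤ zpowers c := by
        rw [closure_le]
        rintro t (rfl | ht)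
        · exact mem_zpowers _
        · rw [Set.mem_singleton_iff.mp ht]; exact hdm
      exact hle (hgenD ▸ mem_top x)
    · refine absurd ?_ hfinish2
      refine hcontra w ?_
      rw [map_mul, haw, hay, ← hyinv, ← mul_inv_rev, hwy.symm.eq]
      exact inv_eq_of_mul_eq_one_left (by rw [← sq, hwy.mul_pow, sq, sq, k, h, hz2])

end Cfsg.Agent.PGroups.SelfCentEight
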