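import Cfsg.Agent.Lib.PGroups.FourGenerator.Basic
import Cfsg.Agent.Lib.PGroups.Normal
import Cfsg.Agent.Lib.PGroups.SelfCentEight.TwoFixed

/-!
Two-groups with a self-centralizing elementary abelian subgroup of order eight and a normal
elementary abelian subgroup `E` of order eight: the basic configuration.
-/

set_option autoImplicit false

namespace Cfsg.Agent.PGroups.SelfCentEight

open Subgroup

/-- The configuration: an involution `a` moving `E` whose centralizer in `C(E)` lies in `E`. -/
structure Eight (G : Type*) [Group G] where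
  isTwo : IsPGroup 2 G
  E : Subgroup G
  a : G
  normalE : E.Normal
  cardE : Nat.card E = 8
  commE : ∀ x ∈ E, ∀ y ∈ E, x * y = y * x
  sqE : ∀ x ∈ E, x * x = 1
  a2 : a * a = 1
  moves : ∃ e ∈ E, a * e * a ≠ e
  fixC : ∀ x ∈ centralizer (E : Set G), a * x * a = x → x ∈ E
  fixB : ∀ g, a * g * a = g → (∀ v ∈ E, a * v * a = v → g * v = v * g) →
    g ∈ centralizer (E : Set G) ∨ g * a ∈ centralizer (E : Set G)

variable {G : Type*} [Group G] (S : Eight G)

/-- The centralizer of `E`. -/
def Eight.C : Subgroup G := centralizer (S.E : Set G)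

/-- Conjugation by `a`. -/
def Eight.σ (x : G) : G := S.a * x * S.a

/-- The fixed points of `a` on `E`. -/
def Eight.IsV (x : G) : Prop := x ∈ S.E ∧ S.σ x = x

variable {S}

theorem Eight.a_inv : S.a⁻¹ = S.a := inv_eq_of_mul_eq_one_left S.a2

theorem Eight.σ_mul (x y : G) : S.σ (x * y) = S.σ x * S.σ y := by
  simp only [Eight.σ, mul_assoc, ← mul_assoc S.a S.a, S.a2, one_mul]

theorem Eight.σ_σ (x : G) : S.σ (S.σ x) = x := by
  simp only [Eight.σ, mul_assoc, S.a2, mul_one, ← mul_assoc S.a S.a, one_mul]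

theorem Eight.σ_one : S.σ 1 = 1 := by simp [Eight.σ, S.a2]

theorem Eight.σ_inv (x : G) : S.σ x⁻¹ = (S.σ x)⁻¹ := by
  simp only [Eight.σ, mul_inv_rev, S.a_inv, mul_assoc]

theorem Eight.σ_pow (x : G) (n : ℕ) : S.σ (x ^ n) = S.σ x ^ n := by
  induction n with
  | zero => simp [S.σ_one]
  | succ n ih => rw [pow_succ, pow_succ, S.σ_mul, ih]

theorem Eight.σ_zpow (x : G) (n : ℤ) : S.σ (x ^ n) = S.σ x ^ n := by
  cases n with
  | ofNat n => simp [S.σ_pow]
  | negSucc n => simp [zpow_negSucc, S.σ_inv, S.σ_pow]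

theorem Eight.σ_eq_conj (x : G) : S.σ x = S.a * x * S.a⁻¹ := by rw [S.a_inv]; rfl

theorem Eight.inv_E {x : G} (hx : x ∈ S.E) : x⁻¹ = x := inv_eq_of_mul_eq_one_left (S.sqE x hx)

theorem Eight.σ_E {x : G} (hx : x ∈ S.E) : S.σ x ∈ S.E := by
  rw [S.σ_eq_conj]; exact S.normalE.conj_mem x hx _

theorem Eight.σ_E_iff {x : G} : S.σ x ∈ S.E ↔ x ∈ S.E :=
  ⟨fun h => by simpa [S.σ_σ] using S.σ_E h, S.σ_E⟩

theorem Eight.normalC : S.C.Normal := by
  haveI := S.normalE; exact inferInstanceAs (centralizer (S.E : Set G)).Normal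

theorem Eight.σ_C {x : G} (hx : x ∈ S.C) : S.σ x ∈ S.C := by
  rw [S.σ_eq_conj]; exact S.normalC.conj_mem x hx _

theorem Eight.E_le_C : S.E ≤ S.C := fun x hx y hy => S.commE y hy x hx

theorem Eight.comm_C {x e : G} (hx : x ∈ S.C) (he : e ∈ S.E) : e * x = x * e := hx e he

theorem Eight.fixed {x : G} (hx : x ∈ S.C) (h : S.σ x = x) : x ∈ S.E := S.fixC x hx h

theorem Eight.isV_mul {x y : G} (hx : S.IsV x) (hy : S.IsV y) : S.IsV (x * y) :=
  ⟨mul_mem hx.1 hy.1, by rw [S.σ_mul, hx.2, hy.2]⟩

theorem Eight.isV_of_inverted {r : G} (hr : r ∈ S.E) (h : S.σ r = r⁻¹) : S.IsV r :=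
  ⟨hr, by rw [h, S.inv_E hr]⟩

theorem Eight.inverted_diff (x : G) : S.σ (x⁻¹ * S.σ x) = (x⁻¹ * S.σ x)⁻¹ := by
  rw [S.σ_mul, S.σ_inv, S.σ_σ, mul_inv_rev, inv_inv]

/-- `x * σ x` is fixed for commuting factors, hence in `E`. -/
theorem Eight.mul_σ_mem {x : G} (hx : x ∈ S.C) (hc : Commute x (S.σ x)) :
    S.IsV (x * S.σ x) := by
  have h : S.σ (x * S.σ x) = x * S.σ x := by rw [S.σ_mul, S.σ_σ, hc.eq]
  exact ⟨S.fixed (mul_mem hx (S.σ_C hx)) h, h⟩

theorem Eight.σ_sq {x : G} (hx : x ∈ S.C) (hc : Commute x (S.σ x)) :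
    S.σ (x ^ 2) = (x ^ 2)⁻¹ := by
  have h := S.sqE _ (S.mul_σ_mem hx hc).1
  rw [← sq, hc.mul_pow] at h
  rw [S.σ_pow, eq_inv_of_mul_eq_one_right h]

variable (S)

/-- A chosen moved element of `E` and its displacement. -/
theorem Eight.exists_frame [Finite G] : ∃ e w, e ∈ S.E ∧ ¬ S.IsV e ∧ S.IsV w ∧ w ≠ 1 ∧
    S.σ e = e * w ∧ (∀ x ∈ S.E, S.IsV x ∨ S.IsV (x * e)) ∧
    (∀ x, S.IsV x → ∀ v, S.IsV v → v ≠ 1 → v ≠ w → x = 1 ∨ x = w ∨ x = v ∨ x = w * v) ∧
    ∃ v, S.IsV v ∧ v ≠ 1 ∧ v ≠ w := by
  classical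
  obtain ⟨e, he, hmove⟩ := S.moves
  let f : S.E →* S.E := MonoidHom.mk' (fun x => ⟨x * S.σ x, mul_mem x.2 (S.σ_E x.2)⟩) fun x y =>
    Subtype.ext (by
      change (x : G) * y * S.σ (x * y) = x * S.σ x * (y * S.σ y)
      have h1 : (y : G) * S.σ x = S.σ x * y := S.commE _ y.2 _ (S.σ_E x.2)
      rw [S.σ_mul, mul_assoc, ← mul_assoc (y : G), h1]
      simp only [mul_assoc])
  have hker : ∀ x : S.E, x ∈ f.ker ↔ S.IsV x := by
    intro x
    rw [MonoidHom.mem_ker]
    constructor
    · intro h
      refine ⟨x.2, ?_⟩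
      have h' : (x : G) * S.σ x = 1 := congrArg Subtype.val h
      rw [← inv_eq_of_mul_eq_one_right h', S.inv_E x.2]
    · intro h
      refine Subtype.ext ?_
      change (x : G) * S.σ x = 1
      rw [h.2, S.sqE _ x.2]
  have hrange : f.range ≤ f.ker := by
    rintro _ ⟨x, rfl⟩
    rw [hker]
    refine ⟨mul_mem x.2 (S.σ_E x.2), ?_⟩
    change S.σ ((x : G) * S.σ x) = x * S.σ x
    rw [S.σ_mul, S.σ_σ]
    exact S.commE _ (S.σ_E x.2) _ x.2
  have hm := card_mul_index f.ker
  rw [index_ker, S.cardE] at hm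
  have hle := Subgroup.card_le_of_le hrange
  have hne : Nat.card f.range ≠ 1 := fun h1 => hmove (by
    have h2 : f ⟨e, he⟩ = 1 := by
      rw [← mem_bot, ← f.range.eq_bot_of_card_eq h1]; exact ⟨_, rfl⟩
    exact ((hker ⟨e, he⟩).mp h2).2)
  obtain ⟨i, -, hi⟩ := (Nat.dvd_prime_pow Nat.prime_two).mp
    (show Nat.card f.range ∣ 2 ^ 3 from ⟨Nat.card f.ker, by rw [mul_comm, hm]; norm_num⟩)
  have hcases : Nat.card f.ker = 4 ∧ Nat.card f.range = 2 := by
    have h3 : i ≤ 3 := by
      by_contra h
      have h16 := Nat.pow_le_pow_right (Nat.succ_pos 1) (show 4 ≤ i by omega)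
      have h8 := Subgroup.card_le_card_group f.range
      rw [S.cardE, hi] at h8
      have := h16.trans h8
      norm_num at this
    interval_cases i <;> simp only [hi] at hm hle hne ⊢ <;> omega
  obtain ⟨hk4, hr2⟩ := hcases
  have hindex : f.ker.index = 2 := by rw [index_ker, hr2]
  have hwV : S.IsV (e * S.σ e) := (hker ⟨_, _⟩).mp (hrange ⟨⟨e, he⟩, rfl⟩)
  have henV : ¬ S.IsV e := fun h => hmove h.2
  have hw1 : e * S.σ e ≠ 1 := fun h => henV ⟨he, by
    rw [← inv_eq_of_mul_eq_one_right h, S.inv_E he]⟩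
  refine ⟨e, e * S.σ e, he, henV, hwV, hw1, by rw [← mul_assoc, S.sqE e he, one_mul], ?_, ?_, ?_⟩
  · intro x hx
    have h := mul_mem_iff_of_index_two (H := f.ker) hindex (a := ⟨x, hx⟩) (b := ⟨e, he⟩)
    rw [hker, hker, hker] at h
    by_cases hxV : S.IsV x
    · exact Or.inl hxV
    · exact Or.inr (h.mpr ⟨fun h' => absurd h' hxV, fun h' => absurd h' henV⟩)
  · intro x hx v hv hv1 hvw
    by_contra! hno
    set w := e * S.σ e
    have hwv1 : w * v ≠ 1 := fun h => hvw (by
      rw [← inv_eq_of_mul_eq_one_right h, S.inv_E hwV.1])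
    have hwvw : w * v ≠ w := fun h => hv1 (mul_eq_left.mp h)
    have hwvv : w * v ≠ v := fun h => hw1 (mul_eq_right.mp h)
    let s : Finset G := {1, w, v, w * v, x}
    have hs : s.card = 5 := by
      simp [s, Finset.card_insert_of_notMem, Ne.symm hw1, Ne.symm hv1, Ne.symm hwv1,
        Ne.symm hno.1, Ne.symm hvw, Ne.symm hwvw, Ne.symm hno.2.1, Ne.symm hwvv,
        Ne.symm hno.2.2.1, Ne.symm hno.2.2.2]
    have hmem : ∀ y ∈ s, S.IsV y := by
      intro y hy
      simp only [s, Finset.mem_insert, Finset.mem_singleton] at hy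
      rcases hy with rfl | rfl | rfl | rfl | rfl
      exacts [⟨S.E.one_mem, S.σ_one⟩, hwV, hv, S.isV_mul hwV hv, hx]
    have := Nat.card_le_card_of_injective
      (fun y : s => (⟨⟨y, (hmem y y.2).1⟩, (hker _).mpr (hmem y y.2)⟩ : f.ker))
      fun y z h => Subtype.ext (congrArg (fun u : f.ker => ((u : S.E) : G)) h)
    rw [show Nat.card s = 5 by simpa using hs, hk4] at this
    omega
  · by_contra! hno
    have := Nat.card_le_card_of_injective (fun y : f.ker => decide (((y : S.E) : G) = 1))
      fun y z h => by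
        refine Subtype.ext (Subtype.ext ?_)
        by_cases hy : ((y : S.E) : G) = 1
        · by_cases hz : ((z : S.E) : G) = 1
          · rw [hy, hz]
          · simp [hy, hz] at h
        · by_cases hz : ((z : S.E) : G) = 1
          · simp [hy, hz] at h
          · rw [hno _ ((hker _).mp y.2) hy, hno _ ((hker _).mp z.2) hz]
    rw [hk4, show Nat.card Bool = 2 by simp] at this
    omega

variable [Finite G]

/-- The moved element. -/
noncomputable def Eight.e : G := (S.exists_frame).choose

/-- The displacement of the moved element. -/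
noncomputable def Eight.w : G := (S.exists_frame).choose_spec.choose

variable {S}

theorem Eight.e_mem : S.e ∈ S.E := (S.exists_frame).choose_spec.choose_spec.1

theorem Eight.e_nV : ¬ S.IsV S.e := (S.exists_frame).choose_spec.choose_spec.2.1

theorem Eight.w_isV : S.IsV S.w := (S.exists_frame).choose_spec.choose_spec.2.2.1

theorem Eight.w_ne : S.w ≠ 1 := (S.exists_frame).choose_spec.choose_spec.2.2.2.1

theorem Eight.σ_e : S.σ S.e = S.e * S.w := (S.exists_frame).choose_spec.choose_spec.2.2.2.2.1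

theorem Eight.coset_e {x : G} (hx : x ∈ S.E) : S.IsV x ∨ S.IsV (x * S.e) :=
  (S.exists_frame).choose_spec.choose_spec.2.2.2.2.2.1 x hx

theorem Eight.cases_V {x : G} (hx : S.IsV x) {v : G} (hv : S.IsV v) (h1 : v ≠ 1) (hw : v ≠ S.w) :
    x = 1 ∨ x = S.w ∨ x = v ∨ x = S.w * v :=
  (S.exists_frame).choose_spec.choose_spec.2.2.2.2.2.2.1 x hx v hv h1 hw

/-- An element centralizing `e` and `V` centralizes `E`. -/
theorem Eight.mem_C_of {g : G} (he : g * S.e = S.e * g)
    (hV : ∀ v, S.IsV v → g * v = v * g) : g ∈ S.C := by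
  intro x hx
  rcases S.coset_e hx with h | h
  · exact (hV x h).symm
  · have h1 := hV _ h
    have h2 : x = x * S.e * S.e := by rw [mul_assoc, S.sqE _ S.e_mem, mul_one]
    change x * g = g * x
    calc x * g = x * S.e * (S.e * g) := by rw [← mul_assoc, ← h2]
      _ = x * S.e * g * S.e := by rw [← he, ← mul_assoc]
      _ = g * (x * S.e) * S.e := by rw [h1]
      _ = g * x := by rw [mul_assoc, ← h2]

/-- The displacement of an element fixed modulo `E` but outside `E` avoids `⟨w⟩`. -/
theorem Eight.diff_ne {x : G} (hx : x ∈ S.C) (hxE : x ∉ S.E) :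
    x⁻¹ * S.σ x ≠ 1 ∧ x⁻¹ * S.σ x ≠ S.w := by
  refine ⟨fun h => hxE (S.fixed hx (inv_mul_eq_one.mp h).symm), fun h => hxE ?_⟩
  have hfix : S.σ (x * S.e) = x * S.e := by
    rw [S.σ_mul, S.σ_e, show S.σ x = x * S.w from inv_mul_eq_iff_eq_mul.mp h, mul_assoc,
      ← mul_assoc S.w, S.commE _ S.w_isV.1 _ S.e_mem, mul_assoc S.e, S.sqE _ S.w_isV.1, mul_one]
  have := mul_mem (S.fixed (mul_mem hx (S.E_le_C S.e_mem)) hfix) (inv_mem S.e_mem)
  rwa [mul_inv_cancel_right] at this

/-- At most one coset of `E` in `C` outside `E` is fixed by `a`. -/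
theorem Eight.fixed_coset {x y : G} (hx : x ∈ S.C) (hy : y ∈ S.C) (hxE : x ∉ S.E) (hyE : y ∉ S.E)
    (hx' : x⁻¹ * S.σ x ∈ S.E) (hy' : y⁻¹ * S.σ y ∈ S.E) : x⁻¹ * y ∈ S.E := by
  have hr := S.isV_of_inverted hx' (S.inverted_diff x)
  have hs := S.isV_of_inverted hy' (S.inverted_diff y)
  obtain ⟨hr1, hrw⟩ := S.diff_ne hx hxE
  obtain ⟨hs1, hsw⟩ := S.diff_ne hy hyE
  set r := x⁻¹ * S.σ x with hrd
  set s := y⁻¹ * S.σ y with hsd
  have hσ : S.σ (x⁻¹ * y) = x⁻¹ * y * (r * s) := by
    have h1 : S.σ (x⁻¹ * y) = r⁻¹ * (x⁻¹ * (y * s)) := by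
      rw [S.σ_mul, S.σ_inv, hrd, hsd]; group
    have h2 := S.comm_C (mul_mem (inv_mem hx) hy) hr.1
    rw [h1, S.inv_E hr.1, ← mul_assoc x⁻¹, ← mul_assoc, h2]
    simp only [mul_assoc]
  rcases S.cases_V hs hr hr1 hrw with h | h | h | h
  · exact absurd h hs1
  · exact absurd h hsw
  · rw [h, S.sqE _ hr.1, mul_one] at hσ
    exact S.fixed (mul_mem (inv_mem hx) hy) hσ
  · have hrs : r * s = S.w := by
      rw [h, S.commE _ S.w_isV.1 _ hr.1, ← mul_assoc, S.sqE _ hr.1, one_mul]
    have hfix : S.σ (x⁻¹ * y * S.e) = x⁻¹ * y * S.e := by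
      rw [S.σ_mul, hσ, hrs, S.σ_e, mul_assoc, ← mul_assoc S.w, S.commE _ S.w_isV.1 _ S.e_mem,
        mul_assoc S.e, S.sqE _ S.w_isV.1, mul_one]
    have := mul_mem (S.fixed (mul_mem (mul_mem (inv_mem hx) hy) (S.E_le_C S.e_mem)) hfix)
      (inv_mem S.e_mem)
    rwa [mul_inv_cancel_right] at this

/-- No element centralizing `V`, other than those of `C` and `C a`, commutes with `a` modulo `E`
when some element of `C` outside `E` does. -/
theorem Eight.no_extra {g z : G} (hg : ∀ v, S.IsV v → g * v = v * g) (hgC : g ∉ S.C)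
    (hgaC : g * S.a ∉ S.C) (hg' : g⁻¹ * S.σ g ∈ S.E) (hz : z ∈ S.C) (hzE : z ∉ S.E)
    (hz' : z⁻¹ * S.σ z ∈ S.E) : False := by
  have hr := S.isV_of_inverted hg' (S.inverted_diff g)
  have hs := S.isV_of_inverted hz' (S.inverted_diff z)
  obtain ⟨hs1, hsw⟩ := S.diff_ne hz hzE
  set r := g⁻¹ * S.σ g with hrd
  set s := z⁻¹ * S.σ z with hsd
  have hσg : S.σ g = g * r := by rw [hrd, mul_inv_cancel_left]
  have hσz : S.σ z = z * s := by rw [hsd, mul_inv_cancel_left]
  -- adjust `g` to a fixed element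
  have key : ∀ k, k ∈ S.C → S.σ k = r⁻¹ * k → False := by
    intro k hk hσk
    have hfix : S.a * (g * k) * S.a = g * k := by
      change S.σ (g * k) = g * k
      rw [S.σ_mul, hσg, hσk, mul_assoc, mul_inv_cancel_left]
    have hcomm : ∀ v ∈ S.E, S.a * v * S.a = v → g * k * v = v * (g * k) := by
      intro v hv hv'
      rw [mul_assoc, ← S.comm_C hk hv, ← mul_assoc, hg v ⟨hv, hv'⟩, mul_assoc]
    rcases S.fixB _ hfix hcomm with h | h
    · exact hgC ((mul_mem_cancel_right hk).mp h)
    · refine hgaC ?_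
      have hka : S.a * k⁻¹ * S.a ∈ S.C := S.σ_C (inv_mem hk)
      have := mul_mem h hka
      have e' : g * k * S.a * (S.a * k⁻¹ * S.a) = g * S.a := by
        simp only [mul_assoc, ← mul_assoc S.a S.a, S.a2, one_mul, mul_inv_cancel_left]
      rwa [e'] at this
  have hzC : ∀ v, S.IsV v → v * z = z * v := fun v hv => S.comm_C hz hv.1
  rcases S.cases_V hr hs hs1 hsw with h | h | h | h
  · exact key 1 S.C.one_mem (by rw [h, inv_one, one_mul, S.σ_one])
  · refine key S.e (S.E_le_C S.e_mem) ?_
    rw [h, S.σ_e, S.inv_E S.w_isV.1]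
    exact S.commE _ S.e_mem _ S.w_isV.1
  · refine key z hz ?_
    rw [h, hσz, S.inv_E hs.1, hzC s hs]
  · refine key (z * S.e) (mul_mem hz (S.E_le_C S.e_mem)) ?_
    rw [h, S.σ_mul, hσz, S.σ_e, S.inv_E (mul_mem S.w_isV.1 hs.1), ← mul_assoc (S.w * s),
      hzC _ (S.isV_mul S.w_isV hs), mul_assoc z, mul_assoc z]
    congr 1
    rw [S.commE _ (mul_mem S.w_isV.1 hs.1) _ S.e_mem, S.commE _ S.w_isV.1 _ hs.1, ← mul_assoc,
      ← mul_assoc, S.commE _ hs.1 _ S.e_mem]

/-- An element of order four of `C` inverted by `a` does not square to `w`. -/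
theorem Eight.sq_ne_w {y : G} (hy : y ∈ S.C) (h : S.σ y = y⁻¹) (h2 : y * y ≠ 1) :
    y * y ≠ S.w := by
  intro hw
  have hyE : y ∉ S.E := fun hE => h2 (S.sqE y hE)
  refine (S.diff_ne hy hyE).2 ?_
  have h4 : y * y * (y * y) = 1 := by rw [hw, S.sqE _ S.w_isV.1]
  rw [h, ← hw]
  calc y⁻¹ * y⁻¹ = (y * y)⁻¹ := (mul_inv_rev y y).symm
    _ = y * y := inv_eq_of_mul_eq_one_left h4

theorem two_mul_card_le {M N : Subgroup G} (h : M < N) : 2 * Nat.card M ≤ Nat.card N := by
  obtain ⟨k, hk⟩ := Subgroup.card_dvd_of_le h.le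
  rw [hk, mul_comm]
  refine Nat.mul_le_mul_left _ ?_
  have hpos : 0 < Nat.card N := Nat.card_pos
  rcases k with _ | _ | k
  · rw [mul_zero] at hk; omega
  · rw [zero_add, mul_one] at hk
    exact absurd (eq_of_le_of_card_ge h.le hk.le) h.ne
  · omega

/-- An involution normalizing an elementary abelian group fixes at least a square root of it. -/
theorem card_le_fixed_sq (E : Subgroup G) [hE : E.Normal] (hc : ∀ x ∈ E, ∀ y ∈ E, x * y = y * x)
    (h2 : ∀ x ∈ E, x * x = 1) (b : G) (hb : b * b = 1) :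
    Nat.card E ≤ Nat.card (E ⊓ centralizer {b} : Subgroup G) ^ 2 := by
  have hbi : b⁻¹ = b := inv_eq_of_mul_eq_one_left hb
  let f : E →* E := MonoidHom.mk' (fun x => ⟨x * (b * x * b⁻¹), mul_mem x.2
    (hE.conj_mem _ x.2 b)⟩) fun x y => Subtype.ext (by
      change (x : G) * y * (b * (x * y) * b⁻¹) = x * (b * x * b⁻¹) * (y * (b * y * b⁻¹))
      have := hc _ (hE.conj_mem _ x.2 b) _ y.2
      calc (x : G) * y * (b * (x * y) * b⁻¹)
          = x * (y * (b * x * b⁻¹)) * (b * y * b⁻¹) := by group
        _ = x * ((b * x * b⁻¹) * y) * (b * y * b⁻¹) := by rw [← this]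
        _ = _ := by simp only [mul_assoc])
  have hfix : ∀ x : E, b * (x : G) * b⁻¹ = x → (x : G) ∈ E ⊓ centralizer {b} := fun x hx =>
    ⟨x.2, mem_centralizer_singleton_iff.mpr (by
      calc (x : G) * b = b * x * b⁻¹ * b := by rw [hx]
        _ = b * x := inv_mul_cancel_right _ _)⟩
  have hk : Nat.card f.ker ≤ Nat.card (E ⊓ centralizer {b} : Subgroup G) :=
    Nat.card_le_card_of_injective (fun x => ⟨((x : E) : G), hfix x (by
        have hx : ((x : E) : G) * (b * (x : E) * b⁻¹) = 1 := congrArg Subtype.val x.2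
        rw [← inv_eq_of_mul_eq_one_right hx]
        exact inv_eq_of_mul_eq_one_left (h2 _ (x : E).2))⟩)
      fun x y h => Subtype.ext (Subtype.ext (congrArg
        (fun u : (E ⊓ centralizer {b} : Subgroup G) => (u : G)) h))
  have hr : Nat.card f.range ≤ Nat.card (E ⊓ centralizer {b} : Subgroup G) :=
    Nat.card_le_card_of_injective (fun x => ⟨((x : E) : G), hfix x (by
        obtain ⟨u, hu⟩ := x.2
        have hu' : ((x : E) : G) = u * (b * u * b⁻¹) := congrArg Subtype.val hu.symm
        rw [hu', hc _ u.2 _ (hE.conj_mem _ u.2 b)]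
        simp only [hbi]
        calc b * (b * (u : G) * b * u) * b = b * b * u * b * (u * b) := by simp only [mul_assoc]
          _ = u * (b * u * b) := by rw [hb, one_mul]; simp only [mul_assoc]
          _ = b * u * b * u := by
            have := hc _ u.2 _ (hE.conj_mem _ u.2 b)
            rwa [hbi] at this)⟩)
      fun x y h => Subtype.ext (Subtype.ext (congrArg
        (fun u : (E ⊓ centralizer {b} : Subgroup G) => (u : G)) h))
  have hm := card_mul_index f.ker
  rw [index_ker] at hm
  rw [← hm, sq]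
  exact Nat.mul_le_mul hk hr

/-- The configuration exists unless `E` is its own centralizer. -/
theorem exists_eight (hG : IsPGroup 2 G) (A : Subgroup G)
    (hAc : ∀ x ∈ A, ∀ y ∈ A, x * y = y * x) (hA2 : ∀ x ∈ A, x * x = 1) (hA8 : Nat.card A = 8)
    (hC : centralizer (A : Set G) = A) (E : Subgroup G) [hEn : E.Normal] (hE8 : Nat.card E = 8)
    (hEc : ∀ x ∈ E, ∀ y ∈ E, x * y = y * x) (hE2 : ∀ x ∈ E, x * x = 1) :
    centralizer (E : Set G) ≤ E ∨ ∃ S : Eight G, S.E = E := by
  haveI : Fact (Nat.Prime 2) := ⟨Nat.prime_two⟩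
  by_cases hEA : E ≤ A
  · exact Or.inl (by rw [eq_of_le_of_card_ge hEA (by rw [hE8, hA8]), hC])
  right
  -- elements centralizing generators of `A` lie in `A`
  have hgenA : ∀ M : Subgroup G, A ≤ M → ∀ x, M ≤ centralizer {x} → x ∈ A := fun M hM x hx => by
    rw [← hC]
    intro y hy
    exact mem_centralizer_singleton_iff.mp (hx (hM hy))
  obtain ⟨z, hzE, hz1, -, hzc⟩ := AbelianNormal.exists_step hG (B := (⊥ : Subgroup G))
    (N := E) (bot_lt_iff_ne_bot.mpr fun h => by rw [h, card_bot] at hE8; omega)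
  have hzc' : ∀ g, g * z = z * g := fun g =>
    mul_inv_eq_iff_eq_mul.mp (mul_inv_eq_one.mp (mem_bot.mp (hzc g)))
  have hzA : z ∈ A :=
    hgenA A le_rfl z fun y _ => mem_centralizer_singleton_iff.mpr (hzc' y)
  set R := A ⊓ E with hR
  have hR2 : 2 ≤ Nat.card R := by
    refine (Subgroup.one_lt_card_iff_ne_bot R).mpr fun h => ?_
    exact hz1 (h ▸ ⟨hzA, hzE⟩)
  have hRc : ∀ x ∈ E, R ≤ centralizer {x} := fun x hx v hv =>
    mem_centralizer_singleton_iff.mpr (hEc v hv.2 x hx)
  -- the only elements of `A` centralizing `E` are those in `E`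
  have hAE : ∀ u ∈ A, u ∈ centralizer (E : Set G) → u ∈ E := by
    intro u hu huE
    by_contra huE'
    have hlt : R < R ⊔ zpowers u := left_lt_sup.mpr fun h => huE' (h (mem_zpowers u)).2
    have hle : R ⊔ zpowers u ≤ A := sup_le inf_le_left (zpowers_le.mpr hu)
    have hPc : ∀ x ∈ E, R ⊔ zpowers u ≤ centralizer {x} := fun x hx => sup_le (hRc x hx)
      (zpowers_le.mpr (mem_centralizer_singleton_iff.mpr (huE x hx).symm))
    rcases hle.lt_or_eq with hltA | heq
    swap
    · exact hEA fun e he => hgenA _ heq.ge e (hPc e he)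
    obtain ⟨b, hb, hbP⟩ := SetLike.exists_of_lt hltA
    have hlt2 : R ⊔ zpowers u < (R ⊔ zpowers u) ⊔ zpowers b :=
      left_lt_sup.mpr fun h => hbP (h (mem_zpowers b))
    have hle2 : (R ⊔ zpowers u) ⊔ zpowers b ≤ A := sup_le hle (zpowers_le.mpr hb)
    have h1 := two_mul_card_le hlt
    have h2 := two_mul_card_le hlt2
    have h3 := Subgroup.card_le_of_le hle2
    have htop : (R ⊔ zpowers u) ⊔ zpowers b = A := eq_of_le_of_card_ge hle2 (by omega)
    have hfix : E ⊓ centralizer {b} ≤ R := fun x hx => ⟨hgenA _ htop.ge x (sup_le (hPc x hx.1)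
      (zpowers_le.mpr (mem_centralizer_singleton_iff.mpr
        (mem_centralizer_singleton_iff.mp hx.2).symm))), hx.1⟩
    have h4 := card_le_fixed_sq E hEc hE2 b (hA2 b hb)
    have h5 := Nat.pow_le_pow_left (Subgroup.card_le_of_le hfix) 2
    have h6 : Nat.card R ^ 2 ≤ 2 ^ 2 := Nat.pow_le_pow_left (by omega) 2
    omega
  have hlarge : ∀ b ∈ A, 3 ≤ Nat.card (E ⊓ centralizer {b} : Subgroup G) := by
    intro b hb
    have h4 := card_le_fixed_sq E hEc hE2 b (hA2 b hb)
    by_contra h
    have := Nat.pow_le_pow_left (show Nat.card (E ⊓ centralizer {b} : Subgroup G) ≤ 2 by omega) 2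
    omega
  -- the construction from a moving element of `A`
  have build : ∀ a ∈ A, (∃ e ∈ E, a * e * a ≠ e) →
      (∀ x ∈ centralizer (E : Set G), a * x * a = x → x ∈ E) →
      (∀ g, a * g * a = g → (∀ v ∈ E, a * v * a = v → g * v = v * g) →
        g ∈ centralizer (E : Set G) ∨ g * a ∈ centralizer (E : Set G)) →
      ∃ S : Eight G, S.E = E := fun a ha h1 h2 h3 =>
    ⟨⟨hG, E, a, hEn, hE8, hEc, hE2, hA2 a ha, h1, h2, h3⟩, rfl⟩
  have hcomm_of : ∀ a ∈ A, ∀ x, a * x * a = x → a * x = x * a := fun a ha x hx => by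
    calc a * x = a * x * a * a := by rw [mul_assoc (a * x), hA2 a ha, mul_one]
      _ = x * a := by rw [hx]
  have hfixedA : ∀ a ∈ A, ∀ v ∈ A, a * v * a = v := fun a ha v hv => by
    rw [hAc a ha v hv, mul_assoc, hA2 a ha, mul_one]
  have hmoves : ∀ a ∈ A, a ∉ E → ∃ e ∈ E, a * e * a ≠ e := fun a ha haE => by
    by_contra! h
    exact haE (hAE a ha fun e he => (hcomm_of a ha e (h e he)).symm)
  by_cases hR4 : 4 ≤ Nat.card R
  · obtain ⟨a, ha, haR⟩ := SetLike.exists_of_lt (lt_of_le_of_ne (inf_le_left : R ≤ A) fun h =>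
      hEA fun x hx => by
        have : R = E := eq_of_le_of_card_ge inf_le_right (by
          rw [hE8, ← hA8]; exact (congrArg (fun M : Subgroup G => Nat.card M) h).ge)
        exact (this ▸ hx : x ∈ R).1)
    have haE : a ∉ E := fun h => haR ⟨ha, h⟩
    have hle : R ⊔ zpowers a ≤ A := sup_le inf_le_left (zpowers_le.mpr ha)
    have h1 := two_mul_card_le (left_lt_sup.mpr fun h => haR (h (mem_zpowers a)) :
      R < R ⊔ zpowers a)
    have htop : R ⊔ zpowers a = A := eq_of_le_of_card_ge hle (by omega)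
    refine build a ha (hmoves a ha haE) (fun x hx hxa => ?_) fun g hg hgV => ?_
    · refine hAE x (hgenA _ htop.ge x (sup_le (fun v hv => ?_) ?_)) hx
      · exact mem_centralizer_singleton_iff.mpr (hx v hv.2)
      · exact zpowers_le.mpr (mem_centralizer_singleton_iff.mpr (hcomm_of a ha x hxa))
    · have hgA : g ∈ A := by
        refine hgenA _ htop.ge g (sup_le (fun v hv => ?_) ?_)
        · exact mem_centralizer_singleton_iff.mpr (hgV v hv.2 (hfixedA a ha v hv.1)).symm
        · exact zpowers_le.mpr (mem_centralizer_singleton_iff.mpr (hcomm_of a ha g hg))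
      let M : Subgroup G :=
        { carrier := {p | p ∈ A ∧ (p ∈ R ∨ p * a ∈ R)}
          one_mem' := ⟨A.one_mem, Or.inl R.one_mem⟩
          mul_mem' := by
            rintro p q ⟨hp, hp'⟩ ⟨hq, hq'⟩
            refine ⟨mul_mem hp hq, ?_⟩
            rcases hp' with hp' | hp' <;> rcases hq' with hq' | hq'
            · exact Or.inl (mul_mem hp' hq')
            · exact Or.inr (by rw [mul_assoc]; exact mul_mem hp' hq')
            · exact Or.inr (by
                rw [mul_assoc, hAc q hq a ha, ← mul_assoc]; exact mul_mem hp' hq')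
            · refine Or.inl ?_
              have := mul_mem hp' hq'
              rwa [mul_assoc, hAc q hq a ha, ← mul_assoc a, hA2 a ha, one_mul] at this
          inv_mem' := by
            rintro p ⟨hp, hp'⟩
            rw [show p⁻¹ = p from inv_eq_of_mul_eq_one_left (hA2 p hp)]
            exact ⟨hp, hp'⟩ }
      have hM : R ⊔ zpowers a ≤ M := sup_le (fun p hp => ⟨hp.1, Or.inl hp⟩)
        (zpowers_le.mpr ⟨ha, Or.inr (by rw [hA2 a ha]; exact R.one_mem)⟩)
      rcases (hM (htop.ge hgA)).2 with h | h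
      · exact Or.inl fun e he => hEc e he g h.2
      · exact Or.inr fun e he => hEc e he _ h.2
  -- `A ⊓ E` of order two
  obtain ⟨i, hi⟩ := (hG.to_subgroup R).exists_card_eq
  have hRcard : Nat.card R = 2 := by
    rcases i with _ | _ | i
    · omega
    · simpa using hi
    · have : 2 ^ 2 ≤ 2 ^ (i + 1 + 1) := Nat.pow_le_pow_right (Nat.succ_pos 1) (by omega)
      omega
  have hRz : ∀ x ∈ R, x = 1 ∨ x = z := by
    intro x hx
    by_contra! h
    have := Nat.card_le_card_of_injective (β := R) (fun i : Fin 3 =>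
      if i = 0 then 1 else if i = 1 then ⟨z, hzA, hzE⟩ else ⟨x, hx⟩) (by
        have h1 : z ≠ 1 := fun e => hz1 (mem_bot.mpr e)
        intro i j hij
        fin_cases i <;> fin_cases j <;>
          simp [Subtype.ext_iff, h.1, h.2, h1, Ne.symm h.1, Ne.symm h.2, Ne.symm h1] at hij ⊢)
    simp [hRcard] at this
  obtain ⟨U, hUn, hUE, hUc⟩ := Normal.exists_normal_le_card hG E 2 (by rw [hE8]; norm_num)
  haveI := hUn
  have hzU : z ∈ U := by
    obtain ⟨y, hyU, hy1, -, hyc⟩ := AbelianNormal.exists_step hG (B := (⊥ : Subgroup G))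
      (N := U) (bot_lt_iff_ne_bot.mpr fun h => by rw [h, card_bot] at hUc; omega)
    have hy : y ∈ R := ⟨hgenA A le_rfl y fun v _ => mem_centralizer_singleton_iff.mpr
      (mul_inv_eq_iff_eq_mul.mp (mul_inv_eq_one.mp (mem_bot.mp (hyc v)))), hUE hyU⟩
    rcases hRz y hy with rfl | rfl
    · exact absurd (one_mem _) hy1
    · exact hyU
  obtain ⟨a, ha, u, hu, hau⟩ : ∃ a ∈ A, ∃ u ∈ U, a * u * a ≠ u := by
    by_contra! h
    have : U ≤ R := fun u hu => ⟨hgenA A le_rfl u fun v hv =>
      mem_centralizer_singleton_iff.mpr (hcomm_of v hv u (h v hv u hu)), hUE hu⟩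
    have := Subgroup.card_le_of_le this
    omega
  have haE : a ∉ E := fun h => hau (by rw [hEc a h u (hUE hu), mul_assoc, hA2 a ha, mul_one])
  have hconj : ∀ x ∈ E, a * x * a ∈ E := fun x hx => by
    have := hEn.conj_mem x hx a
    rwa [show a⁻¹ = a from inv_eq_of_mul_eq_one_left (hA2 a ha)] at this
  have hU4 : ∀ x ∈ U, x = 1 ∨ x = z ∨ x = u ∨ x = u * z := by
    intro x hx
    by_contra! h
    have h1 : z ≠ 1 := fun e => hz1 (mem_bot.mpr e)
    have h2 : u ≠ 1 := fun e => hau (by rw [e, mul_one, hA2 a ha])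
    have h3 : u ≠ z := fun e => hau (by
      rw [e, hfixedA a ha z hzA])
    have h4 : u * z ≠ 1 := fun e => h3 (by
      rw [← inv_eq_of_mul_eq_one_left e, inv_eq_of_mul_eq_one_left (hE2 z hzE)])
    have h5 : u * z ≠ z := fun e => h2 (mul_eq_right.mp e)
    have h6 : u * z ≠ u := fun e => h1 (mul_eq_left.mp e)
    classical
    let s : Finset G := {1, z, u, u * z, x}
    have hs : s.card = 5 := by
      simp [s, Finset.card_insert_of_notMem, Ne.symm h1, Ne.symm h2, Ne.symm h3, Ne.symm h4,
        Ne.symm h5, Ne.symm h6, Ne.symm h.1, Ne.symm h.2.1, Ne.symm h.2.2.1, Ne.symm h.2.2.2]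
    have hmem : ∀ y ∈ s, y ∈ U := by
      intro y hy
      simp only [s, Finset.mem_insert, Finset.mem_singleton] at hy
      rcases hy with rfl | rfl | rfl | rfl | rfl
      exacts [U.one_mem, hzU, hu, mul_mem hu hzU, hx]
    have := Nat.card_le_card_of_injective (fun y : s => (⟨y, hmem y y.2⟩ : U))
      fun y y' e => Subtype.ext (congrArg (fun v : U => (v : G)) e)
    simp [hs, hUc] at this
  have hau' : a * u * a = u * z := by
    have hm : a * u * a ∈ U := by
      have := hUn.conj_mem u hu a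
      rwa [show a⁻¹ = a from inv_eq_of_mul_eq_one_left (hA2 a ha)] at this
    have hinv : ∀ y, a * (a * y * a) * a = y := fun y => by
      simp only [mul_assoc, hA2 a ha, mul_one, ← mul_assoc a a, one_mul]
    rcases hU4 _ hm with e | e | e | e
    · exact absurd (by
        have := hinv u; rw [e, mul_one, hA2 a ha] at this; rw [← this, mul_one, hA2 a ha]) hau
    · refine absurd ?_ hau
      have := hinv u
      rw [e, hfixedA a ha z hzA] at this
      rw [← this, hfixedA a ha z hzA]
    · exact absurd e hau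
    · exact e
  refine build a ha (hmoves a ha haE) ?_ fun g hg hgV => ?_
  swap
  · -- elements commuting with `a` and centralizing its fixed points
    have hcoset : ∀ x ∈ E, a * x * a = x ∨ a * (x * u) * a = x * u := by
      intro x hx
      have hidx : (U.subgroupOf E).index = 2 := by
        have := card_mul_index (U.subgroupOf E)
        rw [Nat.card_congr (subgroupOfEquivOfLe hUE).toEquiv, hUc, hE8] at this
        omega
      have hxU : x * (a * x * a) ∈ U := by
        have := (mul_mem_iff_of_index_two (H := U.subgroupOf E) hidx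
          (a := ⟨x, hx⟩) (b := ⟨_, hconj x hx⟩)).mpr (by
            rw [mem_subgroupOf, mem_subgroupOf]
            have key : ∀ y ∈ U, a * y * a ∈ U := fun y hy => by
              have := hUn.conj_mem y hy a
              rwa [show a⁻¹ = a from inv_eq_of_mul_eq_one_left (hA2 a ha)] at this
            refine ⟨key x, fun h => ?_⟩
            have := key _ h
            simpa only [mul_assoc, hA2 a ha, mul_one, ← mul_assoc a a, one_mul] using this)
        simpa [mem_subgroupOf] using this
      have hfx : a * (x * (a * x * a)) * a = x * (a * x * a) := by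
        calc a * (x * (a * x * a)) * a = a * x * a * x * (a * a) := by simp only [mul_assoc]
          _ = x * (a * x * a) := by rw [hA2 a ha, mul_one, hEc _ (hconj x hx) _ hx]
      have hd : a * x * a = x ∨ a * x * a = x * z := by
        have hsolve : ∀ t, x * (a * x * a) = t → a * x * a = x * t := fun t ht => by
          rw [← ht, ← mul_assoc x x, hE2 x hx, one_mul]
        rcases hU4 _ hxU with e | e | e | e
        · exact Or.inl (by rw [hsolve _ e, mul_one])
        · exact Or.inr (hsolve _ e)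
        · rw [e] at hfx; exact absurd hfx hau
        · rw [e] at hfx
          refine absurd ?_ hau
          have e2 : a * (u * z) * a = (a * u * a) * z := by
            rw [mul_assoc (a * u) a, hzc' a]; simp only [mul_assoc]
          rw [e2] at hfx
          exact mul_right_cancel hfx
      rcases hd with h | h
      · exact Or.inl h
      · refine Or.inr ?_
        calc a * (x * u) * a = (a * x * a) * (a * u * a) := by
              simp only [mul_assoc, ← mul_assoc a a, hA2 a ha, one_mul]
          _ = x * z * (u * z) := by rw [h, hau']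
          _ = x * u := by
            rw [mul_assoc x z, hEc _ hzE _ (mul_mem (hUE hu) hzE), mul_assoc u z, hE2 z hzE,
              mul_one]
    have hgU : g * u * g⁻¹ = u ∨ g * u * g⁻¹ = u * z := by
      rcases hU4 _ (hUn.conj_mem u hu g) with e | e | e | e
      · exact absurd (by rw [conj_eq_one_iff.mp e, mul_one, hA2 a ha]) hau
      · refine absurd ?_ hau
        have : g * u * g⁻¹ = g * z * g⁻¹ := by rw [e, hzc' g, mul_inv_cancel_right]
        rw [mul_left_cancel (mul_right_cancel this)]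
        exact hfixedA a ha z hzA
      · exact Or.inl e
      · exact Or.inr e
    have hcent : ∀ k, k * u * k⁻¹ = u → (∀ v ∈ E, a * v * a = v → k * v = v * k) →
        k ∈ centralizer (E : Set G) := by
      intro k hk hkV x hx
      have hku : k * u = u * k := mul_inv_eq_iff_eq_mul.mp hk
      rcases hcoset x hx with h | h
      · exact (hkV x hx h).symm
      · have h1 := hkV _ (mul_mem hx (hUE hu)) h
        have h2 : x = x * u * u := by rw [mul_assoc, hE2 _ (hUE hu), mul_one]
        calc x * k = x * u * (u * k) := by rw [← mul_assoc, ← h2]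
          _ = x * u * k * u := by rw [← hku, ← mul_assoc]
          _ = k * (x * u) * u := by rw [h1]
          _ = k * x := by rw [mul_assoc, ← h2]
    rcases hgU with e | e
    · exact Or.inl (hcent g e hgV)
    · refine Or.inr (hcent (g * a) ?_ fun v hv hva => ?_)
      · calc g * a * u * (g * a)⁻¹ = g * (a * u * a) * g⁻¹ := by
              rw [mul_inv_rev, show a⁻¹ = a from inv_eq_of_mul_eq_one_left (hA2 a ha)]
              simp only [mul_assoc]
          _ = (g * u * g⁻¹) * (g * z * g⁻¹) := by rw [hau']; group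
          _ = u := by
            rw [e, hzc' g, mul_inv_cancel_right, mul_assoc, hE2 z hzE, mul_one]
      · rw [mul_assoc, hcomm_of a ha v hva, ← mul_assoc, hgV v hv hva, mul_assoc]
  · -- the centralizer of `a` in `C(E)`
    intro x hx hxa
    by_contra hxE
    let F : Subgroup G := centralizer (E : Set G) ⊓ centralizer {a}
    have hxF : x ∈ F := ⟨hx, mem_centralizer_singleton_iff.mpr (hcomm_of a ha x hxa).symm⟩
    obtain ⟨b, hb, hbnot⟩ : ∃ b ∈ A, b ∉ R ⊔ zpowers a := by
      by_contra! hall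
      refine hxE (hAE x (hgenA _ hall x (sup_le (fun v hv => ?_) ?_)) hx)
      · exact mem_centralizer_singleton_iff.mpr (hx v hv.2)
      · exact zpowers_le.mpr (mem_centralizer_singleton_iff.mpr (hcomm_of a ha x hxa))
    have htop : (R ⊔ zpowers a) ⊔ zpowers b = A := by
      refine eq_of_le_of_card_ge (sup_le (sup_le inf_le_left (zpowers_le.mpr ha))
        (zpowers_le.mpr hb)) ?_
      have h1 := two_mul_card_le (left_lt_sup.mpr fun h => haE (h (mem_zpowers a)).2 :
        R < R ⊔ zpowers a)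
      have h2 := two_mul_card_le (left_lt_sup.mpr fun h => hbnot (h (mem_zpowers b)) :
        R ⊔ zpowers a < (R ⊔ zpowers a) ⊔ zpowers b)
      omega
    -- an element fixed by `a` and `b` lies in `A`
    have hboth : ∀ y ∈ centralizer (E : Set G), a * y * a = y → b * y * b = y → y ∈ R := by
      intro y hy h1 h2
      have hyA : y ∈ A := by
        refine hgenA _ htop.ge y (sup_le (sup_le (fun v hv => ?_) ?_) ?_)
        · exact mem_centralizer_singleton_iff.mpr (hy v hv.2)
        · exact zpowers_le.mpr (mem_centralizer_singleton_iff.mpr (hcomm_of a ha y h1))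
        · exact zpowers_le.mpr (mem_centralizer_singleton_iff.mpr (hcomm_of b hb y h2))
      exact ⟨hyA, hAE y hyA hy⟩
    have hb2 := hA2 b hb
    have hab : a * b = b * a := hAc a ha b hb
    have hmove : ∀ y, a * y * a = y → a * (b * y * b) * a = b * y * b := fun y hy => by
      calc a * (b * y * b) * a = (a * b) * y * (b * a) := by simp only [mul_assoc]
        _ = b * (a * y * a) * b := by rw [← hab, hab]; simp only [mul_assoc]; rw [hab]
        _ = b * y * b := by rw [hy]
    have hbinv : b⁻¹ = b := inv_eq_of_mul_eq_one_left hb2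
    have hbF : ∀ y ∈ F, b * y * b ∈ F := fun y hy => ⟨by
      haveI : (centralizer (E : Set G)).Normal := inferInstance
      have := this.conj_mem y hy.1 b
      rwa [hbinv] at this, mem_centralizer_singleton_iff.mpr (hcomm_of a ha _ (hmove y (by
        rw [← (mem_centralizer_singleton_iff.mp hy.2), mul_assoc, hA2 a ha, mul_one]))).symm⟩
    let σb : F → F := fun y => ⟨b * y * b, hbF y y.2⟩
    haveI hRn : (E.subgroupOf F).Normal := normal_subgroupOf
    have hwd : ∀ p q : F, p⁻¹ * q ∈ E.subgroupOf F → (σb p)⁻¹ * σb q ∈ E.subgroupOf F := by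
      intro p q h
      rw [mem_subgroupOf] at h ⊢
      have := hEn.conj_mem _ h b
      rw [hbinv] at this
      convert this using 1
      simp only [σb, coe_mul, coe_inv, mul_inv_rev, hbinv, mul_assoc, ← mul_assoc b b, hb2, one_mul]
    classical
    let e : (F ⧸ E.subgroupOf F) → (F ⧸ E.subgroupOf F) := Quotient.map σb fun p q h =>
      QuotientGroup.leftRel_apply.mpr (hwd p q (QuotientGroup.leftRel_apply.mp h))
    have he : Function.Involutive e := fun y => by
      induction y using QuotientGroup.induction_on with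
      | _ y =>
        change QuotientGroup.mk (σb (σb y)) = QuotientGroup.mk y
        congr 1
        refine Subtype.ext ?_
        simp only [σb, mul_assoc, hb2, mul_one, ← mul_assoc b b, one_mul]
    haveI := Fintype.ofFinite (F ⧸ E.subgroupOf F)
    have heven : Even (Fintype.card (F ⧸ E.subgroupOf F)) := by
      obtain ⟨k, hk⟩ := ((hG.to_subgroup F).to_quotient (E.subgroupOf F)).exists_card_eq
      rw [← Nat.card_eq_fintype_card, hk, Nat.even_pow]
      refine ⟨even_two, fun h0 => hxE ?_⟩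
      rw [h0, pow_zero, Nat.card_eq_one_iff_unique] at hk
      haveI := hk.1
      exact mem_subgroupOf.mp ((QuotientGroup.eq_one_iff (⟨x, hxF⟩ : F)).mp (Subsingleton.elim _ _))
    obtain ⟨q, hq1, hq⟩ := exists_other_fixed e he heven (x₀ := ((1 : F) : F ⧸ E.subgroupOf F))
      (by
        change QuotientGroup.mk (σb 1) = QuotientGroup.mk (1 : F)
        congr 1
        exact Subtype.ext (by simp [σb, hb2]))
    induction q using QuotientGroup.induction_on with
    | _ y =>
    have hyE : (y : G) ∉ E := fun h => hq1 ((QuotientGroup.eq_one_iff y).mpr (mem_subgroupOf.mpr h))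
    have hry : (y : G)⁻¹ * (b * y * b) ∈ E := by
      have h' : y⁻¹ * σb y ∈ E.subgroupOf F := QuotientGroup.eq.mp hq.symm
      exact h'
    have hyC : (y : G) ∈ centralizer (E : Set G) := y.2.1
    have hya : a * (y : G) * a = y := by
      rw [← (mem_centralizer_singleton_iff.mp y.2.2), mul_assoc, hA2 a ha, mul_one]
    set r := (y : G)⁻¹ * (b * y * b) with hr
    have hra : a * r * a = r := by
      calc a * r * a = (a * (y : G)⁻¹ * a) * (a * (b * y * b) * a) := by
            simp only [hr, mul_assoc, ← mul_assoc a a, hA2 a ha, one_mul]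
        _ = r := by
          rw [hmove _ hya]
          congr 1
          calc a * (y : G)⁻¹ * a = (a * y * a)⁻¹ := by
                rw [mul_inv_rev, mul_inv_rev, inv_eq_of_mul_eq_one_left (hA2 a ha), mul_assoc]
            _ = (y : G)⁻¹ := by rw [hya]
    have hrb : b * r * b = r := by
      have hrinv : b * r * b = r⁻¹ := by
        rw [hr, mul_inv_rev, mul_inv_rev, mul_inv_rev, hbinv, inv_inv]
        simp only [mul_assoc, hb2, mul_one]
      rw [hrinv, inv_eq_of_mul_eq_one_left (hE2 r hry)]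
    have hrR := hboth r (fun v hv => hEc v hv r hry) hra hrb
    rcases hRz r hrR with h | h
    · refine hyE (hboth y hyC hya ?_).2
      exact (inv_mul_eq_one.mp h).symm
    · have hby : b * (y : G) * b = y * z := inv_mul_eq_iff_eq_mul.mp h
      obtain ⟨v, hv, hvR⟩ : ∃ v ∈ E ⊓ centralizer {a}, v ∉ R := by
        by_contra! hall
        have := Subgroup.card_le_of_le (show E ⊓ centralizer {a} ≤ R from hall)
        have := hlarge a ha
        omega
      have hva : a * v * a = v := by
        rw [← (mem_centralizer_singleton_iff.mp hv.2), mul_assoc, hA2 a ha, mul_one]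
      have hvC : v ∈ centralizer (E : Set G) := fun t ht => hEc t ht v hv.1
      have hbvE : b * v * b ∈ E := by
        have := hEn.conj_mem v hv.1 b
        rwa [hbinv] at this
      have hbv : b * v * b = v * z := by
        have ht : v * (b * v * b) ∈ R := by
          refine hboth _ (fun t ht => hEc t ht _ (mul_mem hv.1 hbvE)) ?_ ?_
          · calc a * (v * (b * v * b)) * a = (a * v * a) * (a * (b * v * b) * a) := by
                  simp only [mul_assoc, ← mul_assoc a a, hA2 a ha, one_mul]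
              _ = _ := by rw [hva, hmove v hva]
          · calc b * (v * (b * v * b)) * b = b * v * b * v * (b * b) := by simp only [mul_assoc]
              _ = _ := by rw [hb2, mul_one, hEc _ hbvE _ hv.1]
        rcases hRz _ ht with e | e
        · exact absurd (hboth v hvC hva (by
            rw [← inv_eq_of_mul_eq_one_right e, inv_eq_of_mul_eq_one_left (hE2 v hv.1)])) hvR
        · rw [← e, ← mul_assoc v v, hE2 v hv.1, one_mul]
      have hm := hboth ((y : G) * v) (mul_mem hyC hvC) (by
          calc a * ((y : G) * v) * a = (a * y * a) * (a * v * a) := by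
                simp only [mul_assoc, ← mul_assoc a a, hA2 a ha, one_mul]
            _ = _ := by rw [hya, hva]) (by
          calc b * ((y : G) * v) * b = (b * y * b) * (b * v * b) := by
                simp only [mul_assoc, ← mul_assoc b b, hb2, one_mul]
            _ = y * z * (v * z) := by rw [hby, hbv]
            _ = y * v := by
              rw [mul_assoc (y : G) z, hEc z hzE _ (mul_mem hv.1 hzE), mul_assoc v z, hE2 z hzE,
                mul_one])
      refine hyE ?_
      have := mul_mem hm.2 (E.inv_mem hv.1)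
      rwa [mul_inv_cancel_right] at this

end Cfsg.Agent.PGroups.SelfCentEight
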