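import Cfsg.Agent.Lib.PGroups.SelfCentEight.Long

/-!
The structure of `C(E) / E`: cyclic, or generated by an element and its image under `a` with a
common fixed square.
-/

set_option autoImplicit false

namespace Cfsg.Agent.PGroups.SelfCentEight

open Subgroup

variable {G : Type*} [Group G] [Finite G] {S : Eight G}

namespace Eight

/-- `C(E)` is generated over `E` by one element. -/
def CyclicOver (S : Eight G) : Prop :=
  ∃ c ∈ S.C, ∀ x ∈ S.C, ∃ e ∈ S.E, ∃ i : ℤ, x = e * c ^ i

theorem structure_C : S.CyclicOver ∨ (¬ S.CyclicOver ∧ ∃ c ∈ S.C,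
    (∀ M : Subgroup G, S.E ≤ M → c ∈ M → S.σ c ∈ M → S.C ≤ M) ∧
    ((S.σ c) ^ 2)⁻¹ * c ^ 2 ∈ S.E) := by
  by_cases hcyc : S.CyclicOver
  · exact Or.inl hcyc
  refine Or.inr ⟨hcyc, ?_⟩
  haveI := S.normalE
  haveI := S.normalC
  let σC : S.C ≃* S.C :=
    { toFun := fun x => ⟨S.σ x, S.σ_C x.2⟩
      invFun := fun x => ⟨S.σ x, S.σ_C x.2⟩
      left_inv := fun x => Subtype.ext (S.σ_σ _)
      right_inv := fun x => Subtype.ext (S.σ_σ _)
      map_mul' := fun x y => Subtype.ext (S.σ_mul _ _) }
  set N := S.E.subgroupOf S.C with hN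
  haveI : N.Normal := normal_subgroupOf
  have hmap : N.map (σC : S.C →* S.C) = N := by
    ext x
    constructor
    · rintro ⟨y, hy, rfl⟩
      exact mem_subgroupOf.mpr (S.σ_E (mem_subgroupOf.mp hy))
    · intro hx
      exact ⟨σC x, mem_subgroupOf.mpr (S.σ_E (mem_subgroupOf.mp hx)), σC.left_inv x⟩
  let α := QuotientGroup.congr N N σC hmap
  have hα : ∀ x : S.C, α (QuotientGroup.mk x) = QuotientGroup.mk (σC x) := fun x => rfl
  have hfixed : ∀ x : S.C, α (QuotientGroup.mk x) = QuotientGroup.mk x →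
      (x : G)⁻¹ * S.σ x ∈ S.E := fun x hx => mem_subgroupOf.mp (QuotientGroup.eq.mp hx.symm)
  have hout : ∀ x : S.C, (QuotientGroup.mk x : S.C ⧸ N) ≠ 1 → (x : G) ∉ S.E := fun x hx h =>
    hx ((QuotientGroup.eq_one_iff x).mpr (mem_subgroupOf.mpr h))
  rcases structure_aux _ (S.C ⧸ N) rfl ((S.isTwo.to_subgroup S.C).to_quotient N) α
    (fun q => by
      induction q using QuotientGroup.induction_on with
      | _ x =>
        rw [hα, hα]
        congr 1
        exact Subtype.ext (S.σ_σ _))
    (fun p q => by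
      induction p using QuotientGroup.induction_on with
      | _ x =>
      induction q using QuotientGroup.induction_on with
      | _ y =>
      intro hx hy hx1 hy1
      exact QuotientGroup.eq.mpr (mem_subgroupOf.mpr
        (S.fixed_coset x.2 y.2 (hout x hx1) (hout y hy1) (hfixed x hx) (hfixed y hy)))) with
    h | ⟨q, hgen, hq⟩
  · exfalso
    refine hcyc ?_
    obtain ⟨g, hg⟩ := h.exists_generator
    induction g using QuotientGroup.induction_on with
    | _ c =>
    refine ⟨c, c.2, fun x hx => ?_⟩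
    obtain ⟨i, hi⟩ := mem_zpowers_iff.mp (hg (QuotientGroup.mk ⟨x, hx⟩))
    rw [← QuotientGroup.mk_zpow] at hi
    have h := mem_subgroupOf.mp (QuotientGroup.eq.mp hi)
    rw [coe_mul, coe_inv, coe_zpow] at h
    exact ⟨x * ((c : G) ^ i)⁻¹, by
      have h2 := S.normalE.conj_mem _ h ((c : G) ^ i)
      rwa [mul_inv_cancel_left] at h2, i, (inv_mul_cancel_right _ _).symm⟩
  · induction q using QuotientGroup.induction_on with
    | _ c =>
    refine ⟨c, c.2, fun M hEM hcM hdM x hx => ?_, ?_⟩
    · have hle : (closure {QuotientGroup.mk c, α (QuotientGroup.mk c)} : Subgroup (S.C ⧸ N)) ≤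
          (M.subgroupOf S.C).map (QuotientGroup.mk' N) := by
        rw [closure_le]
        rintro p (rfl | hp)
        · exact ⟨c, hcM, rfl⟩
        · rw [Set.mem_singleton_iff.mp hp, hα]
          exact ⟨σC c, hdM, rfl⟩
      rw [hgen] at hle
      obtain ⟨m, hm, he⟩ := hle (mem_top (QuotientGroup.mk ⟨x, hx⟩))
      have h := mem_subgroupOf.mp (QuotientGroup.eq.mp he)
      rw [coe_mul, coe_inv] at h
      have := mul_mem (mem_subgroupOf.mp hm) (hEM h)
      rwa [mul_inv_cancel_left] at this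
    · rw [← QuotientGroup.mk_pow, hα] at hq
      have h := mem_subgroupOf.mp (QuotientGroup.eq.mp hq)
      rw [coe_mul, coe_inv] at h
      rw [← S.σ_pow]
      exact h

end Eight

end Cfsg.Agent.PGroups.SelfCentEight
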